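import Cfsg.Agent.Lib.PSUCover.Iso
import Cfsg.Agent.Lib.Schur.Sylow
import Cfsg.Agent.Lib.SLCover.Universal

/-!
Central extensions with kernel of prime order of special unitary groups: lifts of fixers and the transfer criterion.
-/

set_option autoImplicit false
set_option linter.style.haveILetI false
set_option linter.unusedSectionVars false

namespace CfsgLib.PSUCover

open Module CfsgLib.Classical.Herm HermSpace Subgroup
open scoped commutatorElement

section Central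

variable {Γ G : Type*} [Group Γ] [Group G] {f : Γ →* G}

theorem comm_congr (hc : f.ker ≤ center Γ) {a a' b b' : Γ} (ha : f a = f a') (hb : f b = f b') :
    ⁅a, b⁆ = ⁅a', b'⁆ := by
  have hz : a'⁻¹ * a ∈ center Γ := hc (by simp [MonoidHom.mem_ker, ha])
  have hw : b'⁻¹ * b ∈ center Γ := hc (by simp [MonoidHom.mem_ker, hb])
  have e1 : a = a' * (a'⁻¹ * a) := by group
  have e2 : b = b' * (b'⁻¹ * b) := by group
  generalize a'⁻¹ * a = z at hz e1
  generalize b'⁻¹ * b = w at hw e2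
  subst e1 e2
  have hz' := mem_center_iff.1 hz
  have hw' := mem_center_iff.1 hw
  simp only [commutatorElement_def, _root_.mul_inv_rev]
  calc a' * z * (b' * w) * (z⁻¹ * a'⁻¹) * (w⁻¹ * b'⁻¹)
      = a' * (z * (b' * w * z⁻¹)) * a'⁻¹ * (w⁻¹ * b'⁻¹) := by group
    _ = a' * b' * (w * a'⁻¹) * (w⁻¹ * b'⁻¹) := by rw [← hz' (b' * w * z⁻¹)]; group
    _ = _ := by rw [← hw' a'⁻¹]; group

theorem comm_central (hc : f.ker ≤ center Γ) {a b : Γ} (h : Commute (f a) (f b)) :
    ⁅a, b⁆ ∈ center Γ :=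
  hc (by rw [MonoidHom.mem_ker, map_commutatorElement, commutatorElement_eq_one_iff_mul_comm]; exact h.eq)

theorem comm_mul_left {a a' b : Γ} (h : ⁅a', b⁆ ∈ center Γ) :
    ⁅a * a', b⁆ = ⁅a, b⁆ * ⁅a', b⁆ := by
  have e : ⁅a * a', b⁆ = a * ⁅a', b⁆ * a⁻¹ * ⁅a, b⁆ := by
    simp only [commutatorElement_def]; group
  rw [e, mem_center_iff.1 h a, mul_inv_cancel_right, ← mem_center_iff.1 h ⁅a, b⁆]

theorem comm_mul_right {a b b' : Γ} (h : ⁅a, b'⁆ ∈ center Γ) :
    ⁅a, b * b'⁆ = ⁅a, b⁆ * ⁅a, b'⁆ := by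
  have e : ⁅a, b * b'⁆ = ⁅a, b⁆ * (b * ⁅a, b'⁆ * b⁻¹) := by
    simp only [commutatorElement_def]; group
  rw [e, mem_center_iff.1 h b, mul_inv_cancel_right]

theorem comm_pow_left {a b : Γ} (h : ⁅a, b⁆ ∈ center Γ) (m : ℕ) : ⁅a ^ m, b⁆ = ⁅a, b⁆ ^ m := by
  induction m with
  | zero => simp
  | succ m ih => rw [pow_succ, comm_mul_left h, ih, pow_succ]

theorem comm_conj_invariant {a b : Γ} (h : ⁅a, b⁆ ∈ center Γ) (g : Γ) :
    ⁅g * a * g⁻¹, g * b * g⁻¹⁆ = ⁅a, b⁆ := by
  rw [← conjugate_commutatorElement, mem_center_iff.1 h g, mul_inv_cancel_right]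

/-- Lifts of commuting elements commute when one order is prime to the order of the kernel. -/
theorem commute_of_coprime (hc : f.ker ≤ center Γ) {ℓ : ℕ} (hℓ : ℓ.Prime) (hcard : Nat.card f.ker = ℓ)
    {a b : Γ} (h : Commute (f a) (f b)) {m : ℕ} (hm : f a ^ m = 1) (hml : ¬ ℓ ∣ m) : Commute a b := by
  have hz := comm_central hc h
  have hk : ⁅a, b⁆ ∈ f.ker := by
    rw [MonoidHom.mem_ker, map_commutatorElement, commutatorElement_eq_one_iff_mul_comm]; exact h.eq
  have h1 : ⁅a, b⁆ ^ m = 1 := by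
    rw [← comm_pow_left hz, commutatorElement_eq_one_iff_mul_comm]
    exact (mem_center_iff.1 (hc (show f (a ^ m) = 1 by rw [map_pow, hm])) b).symm
  have h2 : ⁅a, b⁆ ^ ℓ = 1 := by
    have := pow_card_eq_one' (x := (⟨⁅a, b⁆, hk⟩ : f.ker))
    rw [hcard] at this
    exact congrArg Subtype.val this
  have : orderOf ⁅a, b⁆ = 1 := Nat.eq_one_of_dvd_coprimes ((hℓ.coprime_iff_not_dvd).2 hml).symm
    (orderOf_dvd_of_pow_eq_one h1) (orderOf_dvd_of_pow_eq_one h2)
  exact commutatorElement_eq_one_iff_mul_comm.1 (orderOf_eq_one_iff.1 this)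

/-- The derived group of the preimage of a perfect subgroup is perfect and covers it. -/
theorem lift_perfect (hc : f.ker ≤ center Γ) {A : Subgroup G} (hA : ⁅A, A⁆ = A) (hr : A ≤ f.range) :
    (⁅A.comap f, A.comap f⁆).map f = A ∧
      ⁅⁅A.comap f, A.comap f⁆, ⁅A.comap f, A.comap f⁆⁆ = ⁅A.comap f, A.comap f⁆ := by
  have h1 : (⁅A.comap f, A.comap f⁆).map f = A := by
    rw [map_commutator, map_comap_eq, inf_eq_right.2 hr, hA]
  have hsub : ⁅A.comap f, A.comap f⁆ ≤ A.comap f := (commutator_le).2 fun a ha b hb =>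
    mul_mem (mul_mem (mul_mem ha hb) (inv_mem ha)) (inv_mem hb)
  refine ⟨h1, le_antisymm (commutator_mono hsub hsub) ?_⟩
  · have h2 : (⁅⁅A.comap f, A.comap f⁆, ⁅A.comap f, A.comap f⁆⁆).map f = A := by
      rw [map_commutator, h1, hA]
    rw [commutator_le]
    intro a ha b hb
    obtain ⟨a', ha', ea⟩ : f a ∈ (⁅⁅A.comap f, A.comap f⁆, ⁅A.comap f, A.comap f⁆⁆).map f := by
      rw [h2]; exact ha
    obtain ⟨b', hb', eb⟩ : f b ∈ (⁅⁅A.comap f, A.comap f⁆, ⁅A.comap f, A.comap f⁆⁆).map f := by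
      rw [h2]; exact hb
    rw [comm_congr hc ea.symm eb.symm]
    exact mul_mem (mul_mem (mul_mem ha' hb') (inv_mem ha')) (inv_mem hb')

end Central

universe u

variable {F : Type u} [Field F] {V : Type*} [AddCommGroup V] [Module F V] {H : HermSpace F V}
  {Γ : Type*} [Group Γ]

/-- A perfect central extension with kernel of prime order `ℓ`. -/
structure Ext (f : Γ →* Unit' H) (ℓ : ℕ) : Prop where
  central : f.ker ≤ center Γ
  range_eq : f.range = SG H
  card_ker : Nat.card f.ker = ℓ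
  prime : ℓ.Prime
  perfect : _root_.commutator Γ = ⊤

variable (H) in
/-- There is no perfect central extension with kernel of order `ℓ`. -/
def NoExt (ℓ : ℕ) : Prop :=
  ∀ (Γ : Type u) [Group Γ] [Finite Γ] (f : Γ →* Unit' H), Ext f ℓ → False

variable (H) in
/-- The fixer of `U` is perfect. -/
def Perf (U : Set V) : Prop := ⁅fixS H U, fixS H U⁆ = fixS H U

/-- The preimage of a fixer. -/
def pre (f : Γ →* Unit' H) (U : Set V) : Subgroup Γ := (fixS H U).comap f

/-- The derived group of the preimage of a fixer. -/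
def lift (f : Γ →* Unit' H) (U : Set V) : Subgroup Γ := ⁅pre f U, pre f U⁆

/-- The derived group of the preimage of a fixer meets the kernel trivially. -/
def Split (f : Γ →* Unit' H) (U : Set V) : Prop := ∀ g ∈ lift f U, f g = 1 → g = 1

variable {f : Γ →* Unit' H} {ℓ : ℕ}

theorem mem_pre {U : Set V} {g : Γ} : g ∈ pre f U ↔ f g ∈ fixS H U := Iff.rfl

theorem lift_mono {U U' : Set V} (h : U ⊆ U') : lift f U' ≤ lift f U :=
  commutator_mono (comap_mono (fixS_mono h)) (comap_mono (fixS_mono h))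

theorem map_lift_le (U : Set V) {g : Γ} (hg : g ∈ lift f U) : f g ∈ fixS H U := by
  have h : lift f U ≤ pre f U := (commutator_le).2 fun a ha b hb =>
    mul_mem (mul_mem (mul_mem ha hb) (inv_mem ha)) (inv_mem hb)
  exact h hg

theorem Ext.fixS_le_range (E : Ext f ℓ) (U : Set V) : fixS H U ≤ f.range := by
  rw [E.range_eq]; exact fixS_le U

theorem Ext.exists_lift (E : Ext f ℓ) {U : Set V} (hU : Perf H U) {g : Unit' H}
    (hg : g ∈ fixS H U) : ∃ x ∈ lift f U, f x = g := by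
  have := (lift_perfect E.central hU (E.fixS_le_range U)).1
  obtain ⟨x, hx, e⟩ : g ∈ (lift f U).map f := by rw [lift, pre, this]; exact hg
  exact ⟨x, hx, e⟩

theorem conj_lift {U : Set V} {g x : Γ} (hx : x ∈ lift f U) :
    g * x * g⁻¹ ∈ lift f ((f g).1 '' U) := by
  have h1 : (lift f U).map (MulAut.conj g).toMonoidHom ≤ lift f ((f g).1 '' U) := by
    rw [lift, map_commutator]
    refine commutator_mono ?_ ?_ <;>
    · rintro _ ⟨a, ha, rfl⟩
      show f (g * a * g⁻¹) ∈ fixS H _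
      rw [map_mul, map_mul, map_inv]
      exact conj_fixS ha
  exact h1 (mem_map_of_mem _ hx)

/-- Transfer criterion. -/
theorem Ext.false_of_sub [Finite Γ] (E : Ext f ℓ) {K : Subgroup (Unit' H)} (hK : K ≤ SG H)
    {m : ℕ} (hm : ¬ ℓ ∣ m) (hcard : Nat.card (SG H) ∣ m * Nat.card K)
    (hsplit : ∀ z ∈ ⁅K.comap f, K.comap f⁆, f z = 1 → z = 1) : False := by
  haveI := Fact.mk E.prime
  set Kt := K.comap f with hKt
  have hker : f.ker ≤ Kt := fun z hz => by
    rw [hKt, mem_comap, (MonoidHom.mem_ker).1 hz]; exact one_mem K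
  have hmap : Kt.map f = K := by rw [hKt, map_comap_eq, inf_eq_right.2 (E.range_eq ▸ hK)]
  have hcK : Nat.card Kt = Nat.card K * ℓ := by
    have h1 := (f.comp Kt.subtype).ker.card_mul_index
    rw [Subgroup.index_ker, MonoidHom.range_comp, Subgroup.range_subtype, hmap] at h1
    have h2 : Nat.card (f.comp Kt.subtype).ker = ℓ := by
      rw [← E.card_ker]
      exact Nat.card_congr
        { toFun := fun z => ⟨z.1.1, z.2⟩
          invFun := fun z => ⟨⟨z.1, hker z.2⟩, z.2⟩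
          left_inv := fun z => rfl
          right_inv := fun z => rfl }
    rw [← h1, h2, mul_comm]
  have hcG : Nat.card Γ = Nat.card (SG H) * ℓ := by
    rw [← f.ker.card_mul_index, Subgroup.index_ker, E.range_eq, E.card_ker, mul_comm]
  have hfac : (Nat.card Γ).factorization ℓ = (Nat.card Kt).factorization ℓ := by
    refine le_antisymm ?_ ?_
    · have h : Nat.card Γ ∣ m * Nat.card Kt := by
        rw [hcG, hcK, ← mul_assoc]; exact Nat.mul_dvd_mul_right hcard ℓ
      have h' := (Nat.Prime.pow_dvd_iff_le_factorization E.prime (Nat.mul_ne_zero (fun e => hm (by rw [e]; exact dvd_zero ℓ)) Nat.card_pos.ne')).1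
        (((Nat.Prime.pow_dvd_iff_le_factorization E.prime Nat.card_pos.ne').2 le_rfl).trans h)
      rwa [Nat.factorization_mul (fun e => hm (by rw [e]; exact dvd_zero ℓ)) Nat.card_pos.ne', Finsupp.add_apply,
        Nat.factorization_eq_zero_of_not_dvd hm, zero_add] at h'
    · exact (Nat.factorization_le_iff_dvd Nat.card_pos.ne' Nat.card_pos.ne').2
        Kt.card_subgroup_dvd_card ℓ
  let Q : Sylow ℓ Kt := default
  let P : Sylow ℓ Γ := Sylow.ofCard ((Q : Subgroup Kt).map Kt.subtype) (by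
    rw [card_map_of_injective Kt.subtype_injective, Q.card_eq_multiplicity, hfac])
  refine CfsgLib.SchurSylow.not_dvd_card_ker f E.central (E.perfect ▸ le_top) P ?_
    (E.card_ker ▸ dvd_rfl)
  intro y hy h1
  have hPK : (P : Subgroup Γ) ≤ Kt := by
    show (Q : Subgroup Kt).map Kt.subtype ≤ Kt
    exact Subgroup.map_subtype_le _
  have h2 : (y : Γ) ∈ ⁅Kt, Kt⁆ := by
    have : (y : Γ) ∈ (_root_.commutator (P : Subgroup Γ)).map (P : Subgroup Γ).subtype :=
      mem_map_of_mem _ hy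
    rw [Subgroup.map_subtype_commutator] at this
    exact commutator_mono hPK hPK this
  exact Subtype.ext (hsplit _ h2 h1)

/-- No extension when the Sylow subgroups of the kernel prime are cyclic. -/
theorem Ext.false_of_cyclic [Finite Γ] (E : Ext f ℓ)
    (hcy : ∀ R : Subgroup (Unit' H), R ≤ SG H → IsPGroup ℓ R → IsCyclic R) : False := by
  haveI := Fact.mk E.prime
  let P : Sylow ℓ Γ := default
  haveI : IsCyclic ((P : Subgroup Γ).map f) :=
    hcy _ (E.range_eq ▸ MonoidHom.range_eq_map f ▸ map_mono le_top) (P.2.map f)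
  exact CfsgLib.SchurSylow.not_dvd_card_ker_of_cyclic f E.central (E.perfect ▸ le_top) P
    (E.card_ker ▸ dvd_rfl)

section Std

variable [Fintype F] {q : ℕ} (hF : Fintype.card F = q ^ 2)

theorem perf_std {n : ℕ} (hn : 3 ≤ n) (h32 : ¬ (n = 3 ∧ q = 2)) :
    ⁅SG (stdHerm hF n), SG (stdHerm hF n)⁆ = SG (stdHerm hF n) := by
  obtain ⟨e, f', p⟩ := exists_pair_std hF hn
  show ⁅(detHom (stdHerm hF n)).ker, (detHom (stdHerm hF n)).ker⁆ = (detHom (stdHerm hF n)).ker
  rw [← rootGen_std hF hn]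
  exact commutator_rootGen (big_std hF hn) (perfectable_std hF hn h32) p

theorem perf_single [FiniteDimensional F V] (hq : ConjQ H hF) {n : ℕ} (hd : finrank F V = n + 1)
    (hn : 3 ≤ n) (h32 : ¬ (n = 3 ∧ q = 2)) {w : V} (hw : H.h w w = 1) : Perf H {w} := by
  obtain ⟨T, φ, -, -, -, -, -, -, hφ⟩ := exists_fix_equiv hF hq hd hw
  rw [Perf, ← hφ, ← map_commutator, perf_std hF hn h32]

theorem fixS_insert {n : ℕ} {T : (Fin n → F) →ₗ[F] V} {φ : Unit' (stdHerm hF n) →* Unit' H} {w : V}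
    (hTi : Function.Injective T) (hφT : ∀ g x, (φ g).1 (T x) = T (g.1 x))
    (hφ : (SG (stdHerm hF n)).map φ = fixS H {w}) (U : Set (Fin n → F)) :
    fixS H (insert w (T '' U)) = (fixS (stdHerm hF n) U).map φ := by
  ext k
  constructor
  · intro hk
    obtain ⟨g, hg, rfl⟩ : k ∈ (SG (stdHerm hF n)).map φ :=
      hφ ▸ fixS_mono (by simp) hk
    refine ⟨g, ⟨hg, fun u hu => hTi ?_⟩, rfl⟩
    rw [← hφT]
    exact hk.2 _ (Set.mem_insert_of_mem _ ⟨u, hu, rfl⟩)
  · rintro ⟨g, hg, rfl⟩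
    have h1 : φ g ∈ fixS H {w} := hφ ▸ mem_map_of_mem _ hg.1
    refine ⟨h1.1, ?_⟩
    rintro u (rfl | ⟨u, hu, rfl⟩)
    · exact h1.2 _ rfl
    · rw [hφT, hg.2 u hu]

theorem perf_pair [FiniteDimensional F V] (hq : ConjQ H hF) {n : ℕ} (hd : finrank F V = n + 2)
    (hn : 3 ≤ n) (h32 : ¬ (n = 3 ∧ q = 2)) {w z : V} (hw : H.h w w = 1) (hz : H.h z z = 1)
    (hwz : H.h z w = 0) : Perf H {w, z} := by
  obtain ⟨T, φ, hT, hTi, -, hr, -, hφT, hφ⟩ := exists_fix_equiv hF hq hd hw
  obtain ⟨z', rfl⟩ := hr z hwz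
  have hp : Perf (stdHerm hF (n + 1)) {z'} :=
    perf_single hF (fun x => rfl) (Module.finrank_fin_fun F) hn h32 (by rw [← hT, hz])
  have e := fixS_insert hF hTi hφT hφ {z'}
  rw [Set.image_singleton] at e
  rw [Perf, e, ← map_commutator, hp]

theorem perf_triple [FiniteDimensional F V] (hq : ConjQ H hF) {n : ℕ} (hd : finrank F V = n + 3)
    (hn : 3 ≤ n) (h32 : ¬ (n = 3 ∧ q = 2)) {w z a : V} (hw : H.h w w = 1) (hz : H.h z z = 1)
    (ha : H.h a a = 1) (hwz : H.h z w = 0) (hwa : H.h a w = 0) (hza : H.h a z = 0) :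
    Perf H {w, z, a} := by
  obtain ⟨T, φ, hT, hTi, -, hr, -, hφT, hφ⟩ := exists_fix_equiv hF hq hd hw
  obtain ⟨z', rfl⟩ := hr z hwz
  obtain ⟨a', rfl⟩ := hr a hwa
  have hp : Perf (stdHerm hF (n + 2)) {z', a'} :=
    perf_pair hF (fun x => rfl) (Module.finrank_fin_fun F) hn h32 (by rw [← hT, hz])
      (by rw [← hT, ha]) (by rw [← hT, hza])
  have e := fixS_insert hF hTi hφT hφ {z', a'}
  rw [Set.image_pair] at e
  rw [Perf, e, ← map_commutator, hp]

/-- A non-split fixer gives an extension one dimension below. -/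
theorem exists_sub_ext [FiniteDimensional F V] {Γ' : Type u} (hq : ConjQ H hF) {n : ℕ}
    (hd : finrank F V = n + 1) (hn : 3 ≤ n) (h32 : ¬ (n = 3 ∧ q = 2)) {w : V} (hw : H.h w w = 1)
    [Group Γ'] [Finite Γ'] {f : Γ' →* Unit' H} (E : Ext f ℓ) {g : Γ'} (hg : g ∈ lift f {w})
    (hg1 : f g = 1) (hne : g ≠ 1) :
    ∃ (T : (Fin n → F) →ₗ[F] V) (φ : Unit' (stdHerm hF n) →* Unit' H)
      (σ : lift f {w} →* Unit' (stdHerm hF n)),
      (∀ x y, H.h (T x) (T y) = (stdHerm hF n).h x y) ∧ Function.Injective T ∧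
      (∀ x, H.h (T x) w = 0) ∧ (∀ v, H.h v w = 0 → v ∈ LinearMap.range T) ∧
      (∀ g x, (φ g).1 (T x) = T (g.1 x)) ∧ (SG (stdHerm hF n)).map φ = fixS H {w} ∧
      Ext σ ℓ ∧ ∀ x, φ (σ x) = f x.1 := by
  obtain ⟨T, φ, hT, hTi, hTw, hr, hφi, hφT, hφ⟩ := exists_fix_equiv hF hq hd hw
  obtain ⟨h1, h2⟩ := lift_perfect E.central (perf_single hF hq hd hn h32 hw) (E.fixS_le_range {w})
  set L := lift f {w} with hL
  change L.map f = fixS H {w} at h1
  change ⁅L, L⁆ = L at h2
  let e := (MonoidHom.ofInjective hφi).symm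
  let σ : L →* Unit' (stdHerm hF n) :=
    e.toMonoidHom.comp ((f.comp L.subtype).codRestrict φ.range fun x => by
      have : f x.1 ∈ (SG (stdHerm hF n)).map φ := by rw [hφ]; exact map_lift_le _ x.2
      exact map_le_range _ _ this)
  have hσ : ∀ x : L, φ (σ x) = f x.1 := fun x =>
    congrArg Subtype.val ((MonoidHom.ofInjective hφi).apply_symm_apply _)
  have hker : ∀ x : L, σ x = 1 ↔ f x.1 = 1 := fun x => by
    rw [← hσ, ← map_one φ]; exact hφi.eq_iff.symm.trans (by rw [map_one])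
  refine ⟨T, φ, σ, hT, hTi, hTw, hr, hφT, hφ, ⟨?_, ?_, ?_, E.prime, ?_⟩, hσ⟩
  · intro x hx
    exact mem_center_iff.2 fun y => Subtype.ext
      (mem_center_iff.1 (E.central (show f x.1 = 1 from (hker x).1 hx)) y.1)
  · ext s
    constructor
    · rintro ⟨x, rfl⟩
      have : φ (σ x) ∈ (SG (stdHerm hF n)).map φ := by rw [hφ, hσ]; exact map_lift_le _ x.2
      obtain ⟨s', hs', e'⟩ := this
      rwa [← hφi e']
    · intro hs
      obtain ⟨x, hx, e'⟩ : φ s ∈ L.map f := by rw [h1, ← hφ]; exact mem_map_of_mem _ hs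
      exact ⟨⟨x, hx⟩, hφi (by rw [hσ]; exact e')⟩
  · let j : σ.ker →* f.ker := ((L.subtype).comp σ.ker.subtype).codRestrict f.ker fun x => (hker x.1).1 x.2
    have hj : Function.Injective j := fun a b e' => Subtype.ext (Subtype.ext (congrArg (fun x : f.ker => (x : Γ')) e'))
    have hdvd : Nat.card σ.ker ∣ ℓ := E.card_ker ▸ card_dvd_of_injective j hj
    refine (E.prime.eq_one_or_self_of_dvd _ hdvd).resolve_left fun h => hne ?_
    have hm : (⟨g, hg⟩ : L) ∈ σ.ker := (hker ⟨g, hg⟩).2 hg1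
    rw [Subgroup.card_eq_one.1 h, mem_bot] at hm
    exact congrArg Subtype.val hm
  · rw [_root_.commutator_def]
    apply map_injective L.subtype_injective
    rw [map_commutator, ← MonoidHom.range_eq_map, range_subtype, h2]

theorem split_single [FiniteDimensional F V] {Γ' : Type u} (hq : ConjQ H hF) {n : ℕ}
    (hd : finrank F V = n + 1) (hn : 3 ≤ n) (h32 : ¬ (n = 3 ∧ q = 2))
    (hno : NoExt (stdHerm hF n) ℓ) {w : V} (hw : H.h w w = 1) [Group Γ'] [Finite Γ']
    {f : Γ' →* Unit' H} (E : Ext f ℓ) : Split f {w} := by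
  intro g hg hg1
  by_contra hne
  obtain ⟨T, φ, σ, -, -, -, -, -, -, hE, -⟩ := exists_sub_ext hF hq hd hn h32 hw E hg hg1 hne
  exact hno _ σ hE

end Std

end CfsgLib.PSUCover
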