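import Cfsg.Agent.Lib.PSUCover.Three

/-!
Dimension four: the stabiliser of a decomposition into two planes.
-/

set_option autoImplicit false
set_option linter.unusedSectionVars false
set_option linter.style.haveILetI false

namespace CfsgLib.PSUCover

open Module CfsgLib.Classical.Herm HermSpace Subgroup CfsgLib.TwistCover
open scoped commutatorElement

universe u

variable {F : Type u} [Field F] [Fintype F] {q : ℕ} (hF : Fintype.card F = q ^ 2)

/-- A pair of planes as a four-dimensional space. -/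
def pairEquiv : ((Fin 2 → F) × (Fin 2 → F)) ≃ₗ[F] (Fin 4 → F) where
  toFun p := ![p.1 0, p.1 1, p.2 0, p.2 1]
  invFun x := (![x 0, x 1], ![x 2, x 3])
  map_add' p p' := by ext i; fin_cases i <;> rfl
  map_smul' c p := by ext i; fin_cases i <;> rfl
  left_inv p := by ext i <;> fin_cases i <;> rfl
  right_inv x := by ext i; fin_cases i <;> rfl

theorem h_pairEquiv (a b : (Fin 2 → F) × (Fin 2 → F)) :
    (stdHerm hF 4).h (pairEquiv a) (pairEquiv b) =
      (stdHerm hF 2).h a.1 b.1 + (stdHerm hF 2).h a.2 b.2 := by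
  simp only [stdHerm_h, Cfsg.hermForm, Fin.sum_univ_four, Fin.sum_univ_two]
  simp [pairEquiv]
  ring

/-- The underlying map of `blk`. -/
noncomputable def blkLin (g : Unit' (stdHerm hF 2) × Unit' (stdHerm hF 2)) :
    (Fin 4 → F) ≃ₗ[F] (Fin 4 → F) :=
  pairEquiv.symm.trans ((g.1.1.prodCongr g.2.1).trans pairEquiv)

theorem blkLin_apply (g : Unit' (stdHerm hF 2) × Unit' (stdHerm hF 2))
    (a : (Fin 2 → F) × (Fin 2 → F)) :
    blkLin hF g (pairEquiv a) = pairEquiv (g.1.1 a.1, g.2.1 a.2) := by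
  simp only [blkLin, LinearEquiv.trans_apply, LinearEquiv.symm_apply_apply, LinearEquiv.prodCongr_apply]

theorem blkLin_mem (g : Unit' (stdHerm hF 2) × Unit' (stdHerm hF 2)) :
    blkLin hF g ∈ Unit' (stdHerm hF 4) := by
  intro x y
  obtain ⟨a, rfl⟩ := (pairEquiv (F := F)).surjective x
  obtain ⟨b, rfl⟩ := (pairEquiv (F := F)).surjective y
  rw [blkLin_apply, blkLin_apply, h_pairEquiv, h_pairEquiv, unit_h, unit_h]

/-- Block diagonal isometries. -/
noncomputable def blk : Unit' (stdHerm hF 2) × Unit' (stdHerm hF 2) →* Unit' (stdHerm hF 4) :=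
  MonoidHom.mk' (fun g => ⟨blkLin hF g, blkLin_mem hF g⟩) fun g g' => unit_ext fun x => by
    obtain ⟨a, rfl⟩ := (pairEquiv (F := F)).surjective x
    show blkLin hF (g * g') (pairEquiv a) = blkLin hF g (blkLin hF g' (pairEquiv a))
    rw [blkLin_apply, blkLin_apply, blkLin_apply]
    rfl

theorem blk_apply (g : Unit' (stdHerm hF 2) × Unit' (stdHerm hF 2))
    (a : (Fin 2 → F) × (Fin 2 → F)) :
    (blk hF g).1 (pairEquiv a) = pairEquiv (g.1.1 a.1, g.2.1 a.2) :=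
  blkLin_apply hF g a

theorem blk_injective : Function.Injective (blk hF) := fun g g' e => by
  have h : ∀ a : (Fin 2 → F) × (Fin 2 → F), (g.1.1 a.1, g.2.1 a.2) = (g'.1.1 a.1, g'.2.1 a.2) := fun a => by
    have := congrArg (fun k : Unit' (stdHerm hF 4) => k.1 (pairEquiv a)) e
    simp only [blk_apply] at this
    exact pairEquiv.injective this
  exact Prod.ext (unit_ext fun x => congrArg Prod.fst (h (x, 0)))
    (unit_ext fun x => congrArg Prod.snd (h (0, x)))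

theorem detHom_blk (g : Unit' (stdHerm hF 2) × Unit' (stdHerm hF 2)) :
    detHom (stdHerm hF 4) (blk hF g) = detHom (stdHerm hF 2) g.1 * detHom (stdHerm hF 2) g.2 := by
  refine (LinearEquiv.det_conj (g.1.1.prodCongr g.2.1) pairEquiv).trans (Units.ext ?_)
  rw [LinearEquiv.coe_det, Units.val_mul]
  have e : ((g.1.1.prodCongr g.2.1) : (Fin 2 → F) × (Fin 2 → F) →ₗ[F] (Fin 2 → F) × (Fin 2 → F)) =
      LinearMap.prodMap (g.1.1 : (Fin 2 → F) →ₗ[F] Fin 2 → F) (g.2.1 : (Fin 2 → F) →ₗ[F] Fin 2 → F) := rfl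
  rw [e, LinearMap.det_prodMap, ← LinearEquiv.coe_det, ← LinearEquiv.coe_det]
  rfl

/-- Exchange of the planes. -/
noncomputable def flip4 : Unit' (stdHerm hF 4) :=
  mono hF 1 (Equiv.swap (0 : Fin 4) 2 * Equiv.swap (1 : Fin 4) 3)

theorem flip4_apply (a : (Fin 2 → F) × (Fin 2 → F)) :
    (flip4 hF).1 (pairEquiv a) = pairEquiv (a.2, a.1) := by
  funext i
  rw [flip4, mono_apply]
  fin_cases i <;> simp [pairEquiv, Equiv.swap_apply_def]

theorem flip4_mem : flip4 hF ∈ SG (stdHerm hF 4) := by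
  apply Units.ext
  show (detHom (stdHerm hF 4) (flip4 hF) : F) = 1
  rw [flip4, detHom_mono, Equiv.Perm.sign_mul,
    Equiv.Perm.sign_swap (by decide : (0 : Fin 4) ≠ 2), Equiv.Perm.sign_swap (by decide : (1 : Fin 4) ≠ 3)]
  simp

theorem flip4_sq : flip4 hF * flip4 hF = 1 := unit_ext fun x => by
  obtain ⟨a, rfl⟩ := (pairEquiv (F := F)).surjective x
  rw [mul_apply, flip4_apply, flip4_apply]
  rfl

theorem flip4_conj (g : Unit' (stdHerm hF 2) × Unit' (stdHerm hF 2)) :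
    flip4 hF * blk hF g * (flip4 hF)⁻¹ = blk hF (g.2, g.1) := by
  rw [mul_inv_eq_iff_eq_mul]
  refine unit_ext fun x => ?_
  obtain ⟨a, rfl⟩ := (pairEquiv (F := F)).surjective x
  rw [mul_apply, mul_apply, blk_apply, flip4_apply, flip4_apply, blk_apply]

/-- The diagonal element `(δ, 1)`. -/
noncomputable def sec2 : normOne F q →* Unit' (stdHerm hF 2) :=
  (diagHom hF).comp
    { toFun := fun d => Fin.cons d 1
      map_one' := by funext i; refine Fin.cases ?_ ?_ i <;> simp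
      map_mul' := fun c c' => by funext i; refine Fin.cases ?_ ?_ i <;> simp }

theorem detHom_sec2 (d : normOne F q) : detHom (stdHerm hF 2) (sec2 hF d) = (d : Fˣ) := by
  apply Units.ext
  show (detHom (stdHerm hF 2) (mono hF _ 1) : F) = _
  rw [detHom_mono]
  simp

/-- Pairs of determinant one. -/
noncomputable def pairs : Subgroup (Unit' (stdHerm hF 2) × Unit' (stdHerm hF 2)) :=
  ((detHom (stdHerm hF 4)).comp (blk hF)).ker

theorem mem_pairs {g : Unit' (stdHerm hF 2) × Unit' (stdHerm hF 2)} :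
    g ∈ pairs hF ↔ detHom (stdHerm hF 2) g.1 * detHom (stdHerm hF 2) g.2 = 1 := by
  rw [pairs, MonoidHom.mem_ker, MonoidHom.comp_apply, detHom_blk]

/-- The determinant as an element of norm one. -/
noncomputable def nrm (g : Unit' (stdHerm hF 2)) : normOne F q :=
  ⟨detHom (stdHerm hF 2) g, detHom_normOne hF 2 g⟩

theorem card_pairs :
    Nat.card (pairs hF) = Nat.card (Unit' (stdHerm hF 2)) * Nat.card (SG (stdHerm hF 2)) := by
  rw [← Nat.card_prod]
  exact Nat.card_congr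
    { toFun := fun x => (x.1.1, ⟨x.1.2 * sec2 hF (nrm hF x.1.1), by
        show detHom _ _ = 1
        rw [map_mul, detHom_sec2, mul_comm]
        exact (mem_pairs hF).1 x.2⟩)
      invFun := fun y => ⟨(y.1, y.2.1 * (sec2 hF (nrm hF y.1))⁻¹), by
        rw [mem_pairs, map_mul, map_inv, detHom_sec2, show detHom _ y.2.1 = 1 from y.2.2, one_mul]
        exact mul_inv_cancel _⟩
      left_inv := fun x => Subtype.ext (Prod.ext rfl (mul_inv_cancel_right _ _))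
      right_inv := fun y => Prod.ext rfl (Subtype.ext (inv_mul_cancel_right _ _)) }

variable {p : ℕ} [Fact p.Prime] [CharP F p] {ℓ : ℕ} {Γ : Type u} [Group Γ] [Finite Γ]
  {f : Γ →* Unit' (stdHerm hF 4)}

/-- The lifted fixed-point-free planes generate a group meeting the kernel trivially, normalised
by the lifts of the stabiliser; modulo it the preimage of the block diagonal group is generated by
one lift of a diagonal element. -/
theorem exists_block_lift (E : Ext f ℓ) (hpl : p ≠ ℓ) :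
    ∃ (L : Subgroup Γ) (δ : normOne F q) (τ : Γ),
      (∀ g ∈ L, f g = 1 → g = 1) ∧
      f τ = blk hF (sec2 hF δ, sec2 hF δ⁻¹) ∧
      (∀ g ∈ L, ∃ a b, a ∈ SG (stdHerm hF 2) ∧ b ∈ SG (stdHerm hF 2) ∧ f g = blk hF (a, b)) ∧
      (∀ c : Γ, (∃ x ∈ pairs hF, f c = blk hF x) → ∀ g ∈ L, c * g * c⁻¹ ∈ L) ∧
      (∀ c : Γ, f c = flip4 hF → ∀ g ∈ L, c * g * c⁻¹ ∈ L) ∧
      ((pairs hF).map (blk hF)).comap f ≤ closure ((L : Set Γ) ∪ {τ} ∪ (f.ker : Set Γ)) := by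
  classical
  set ι₁ := (blk hF).comp (MonoidHom.inl (Unit' (stdHerm hF 2)) (Unit' (stdHerm hF 2))) with hι₁
  set ι₂ := (blk hF).comp (MonoidHom.inr (Unit' (stdHerm hF 2)) (Unit' (stdHerm hF 2))) with hι₂
  set A₁ := (SG (stdHerm hF 2)).map ι₁ with hA₁
  set A₂ := (SG (stdHerm hF 2)).map ι₂ with hA₂
  have hA₁S : A₁ ≤ SG (stdHerm hF 4) := by
    rintro _ ⟨s, hs, rfl⟩
    show detHom _ (blk hF (s, 1)) = 1
    rw [detHom_blk, show detHom _ s = 1 from hs, map_one, mul_one]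
  have hA₂S : A₂ ≤ SG (stdHerm hF 4) := by
    rintro _ ⟨s, hs, rfl⟩
    show detHom _ (blk hF (1, s)) = 1
    rw [detHom_blk, show detHom _ s = 1 from hs, map_one, one_mul]
  obtain ⟨m₁, s₁⟩ := pLifts_split hF E hpl ι₁
    ((blk_injective hF).comp fun a b e => congrArg Prod.fst e) hA₁S
  obtain ⟨m₂, s₂⟩ := pLifts_split hF E hpl ι₂
    ((blk_injective hF).comp fun a b e => congrArg Prod.snd e) hA₂S
  set L₁ := pLifts f p A₁ with hL₁
  set L₂ := pLifts f p A₂ with hL₂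
  have hf₁ : ∀ g ∈ L₁, ∃ a ∈ SG (stdHerm hF 2), f g = blk hF (a, 1) := fun g hg => by
    obtain ⟨a, ha, e⟩ : f g ∈ A₁ := lifts_le_comap A₁ hg
    exact ⟨a, ha, e.symm⟩
  have hf₂ : ∀ g ∈ L₂, ∃ a ∈ SG (stdHerm hF 2), f g = blk hF (1, a) := fun g hg => by
    obtain ⟨a, ha, e⟩ : f g ∈ A₂ := lifts_le_comap A₂ hg
    exact ⟨a, ha, e.symm⟩
  have hcomm : ∀ x ∈ L₁, ∀ y ∈ L₂, Commute x y := by
    have h : L₁ ≤ Subgroup.centralizer (L₂ : Set Γ) := by
      refine (Subgroup.closure_le _).2 fun x hx => ?_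
      rw [SetLike.mem_coe, mem_centralizer_iff]
      intro y hy
      induction hy using Subgroup.closure_induction with
      | mem z hz =>
        obtain ⟨k, hk⟩ := hz.2
        obtain ⟨a, -, ea⟩ : ∃ a ∈ SG (stdHerm hF 2), f x = blk hF (a, 1) := by
          obtain ⟨a, ha, e⟩ := hx.1; exact ⟨a, ha, e.symm⟩
        obtain ⟨b, -, eb⟩ : ∃ b ∈ SG (stdHerm hF 2), f z = blk hF (1, b) := by
          obtain ⟨b, hb, e⟩ := hz.1; exact ⟨b, hb, e.symm⟩
        refine (commute_of_coprime E.central E.prime E.card_ker (m := p ^ k)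
          (by rw [ea, eb, Commute, SemiconjBy, ← map_mul, ← map_mul]; simp)
          (by rw [← map_pow, hk, map_one]) ?_).eq
        exact fun h => hpl ((Nat.prime_dvd_prime_iff_eq E.prime Fact.out).1 (E.prime.dvd_of_dvd_pow h)).symm
      | one => simp
      | mul z w _ _ hz hw => rw [mul_assoc, hw, ← mul_assoc, hz, mul_assoc]
      | inv z _ hz => exact ((show Commute z x from hz).inv_left).eq
    exact fun x hx y hy => ((mem_centralizer_iff.1 (h hx)) y hy).symm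
  let μ : L₁ × L₂ →* Γ := MonoidHom.mk' (fun z => (z.1 : Γ) * (z.2 : Γ)) fun z w => by
    simp only [Prod.fst_mul, Prod.snd_mul, Subgroup.coe_mul]
    rw [mul_assoc (z.1 : Γ), ← mul_assoc (w.1 : Γ), (hcomm _ w.1.2 _ z.2.2).eq]
    group
  set L := μ.range with hL
  have hmem₁ : ∀ x ∈ L₁, x ∈ L := fun x hx => ⟨(⟨x, hx⟩, 1), mul_one x⟩
  have hmem₂ : ∀ x ∈ L₂, x ∈ L := fun x hx => ⟨(1, ⟨x, hx⟩), one_mul x⟩
  have hfL : ∀ g ∈ L, ∃ a b, a ∈ SG (stdHerm hF 2) ∧ b ∈ SG (stdHerm hF 2) ∧ f g = blk hF (a, b) := by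
    rintro _ ⟨⟨x, y⟩, rfl⟩
    obtain ⟨a, ha, ea⟩ := hf₁ _ x.2
    obtain ⟨b, hb, eb⟩ := hf₂ _ y.2
    refine ⟨a, b, ha, hb, ?_⟩
    show f ((x : Γ) * y) = _
    rw [map_mul, ea, eb, ← map_mul]
    simp
  have hLs : ∀ g ∈ L, f g = 1 → g = 1 := by
    rintro _ ⟨⟨x, y⟩, rfl⟩ h
    obtain ⟨a, -, ea⟩ := hf₁ _ x.2
    obtain ⟨b, -, eb⟩ := hf₂ _ y.2
    change f ((x : Γ) * y) = 1 at h
    rw [map_mul, ea, eb, ← map_mul, ← map_one (blk hF)] at h
    have h' := blk_injective hF h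
    simp only [Prod.mk_mul_mk, mul_one, one_mul, Prod.mk_eq_one] at h'
    show (x : Γ) * y = 1
    rw [s₁ _ x.2 (by rw [ea, h'.1]; exact map_one _), s₂ _ y.2 (by rw [eb, h'.2]; exact map_one _),
      one_mul]
  have hnorm : ∀ c : Γ, ((∀ g ∈ L₁, c * g * c⁻¹ ∈ L) ∧ ∀ g ∈ L₂, c * g * c⁻¹ ∈ L) →
      ∀ g ∈ L, c * g * c⁻¹ ∈ L := by
    rintro c ⟨h1, h2⟩ _ ⟨⟨x, y⟩, rfl⟩
    show c * ((x : Γ) * y) * c⁻¹ ∈ L
    rw [show c * ((x : Γ) * y) * c⁻¹ = (c * x * c⁻¹) * (c * y * c⁻¹) by group]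
    exact mul_mem (h1 _ x.2) (h2 _ y.2)
  have hD : ∀ c : Γ, (∃ x ∈ pairs hF, f c = blk hF x) → ∀ g ∈ L, c * g * c⁻¹ ∈ L := by
    rintro c ⟨x, -, hc⟩
    refine hnorm c ⟨fun g hg => hmem₁ _ (conj_pLifts ?_ hg), fun g hg => hmem₂ _ (conj_pLifts ?_ hg)⟩
    · rintro _ ⟨s, hs, rfl⟩
      refine ⟨x.1 * s * x.1⁻¹, (MonoidHom.normal_ker _).conj_mem s hs _, ?_⟩
      rw [hc, hι₁, MonoidHom.comp_apply, MonoidHom.comp_apply, ← map_mul (blk hF), ← map_inv (blk hF),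
        ← map_mul (blk hF)]
      refine congrArg (blk hF) ?_
      simp [Prod.ext_iff]
    · rintro _ ⟨s, hs, rfl⟩
      refine ⟨x.2 * s * x.2⁻¹, (MonoidHom.normal_ker _).conj_mem s hs _, ?_⟩
      rw [hc, hι₂, MonoidHom.comp_apply, MonoidHom.comp_apply, ← map_mul (blk hF), ← map_inv (blk hF),
        ← map_mul (blk hF)]
      refine congrArg (blk hF) ?_
      simp [Prod.ext_iff]
  have hW : ∀ c : Γ, f c = flip4 hF → ∀ g ∈ L, c * g * c⁻¹ ∈ L := by
    intro c hc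
    refine hnorm c ⟨fun g hg => hmem₂ _ ?_, fun g hg => hmem₁ _ ?_⟩
    · refine conj_mem_lifts ?_ hg
      rintro _ ⟨s, hs, rfl⟩
      exact ⟨s, hs, by rw [hc, hι₁, hι₂, MonoidHom.comp_apply, MonoidHom.comp_apply, flip4_conj]; rfl⟩
    · refine conj_mem_lifts ?_ hg
      rintro _ ⟨s, hs, rfl⟩
      exact ⟨s, hs, by rw [hc, hι₁, hι₂, MonoidHom.comp_apply, MonoidHom.comp_apply, flip4_conj]; rfl⟩
  obtain ⟨δ, hδ⟩ := IsCyclic.exists_generator (α := normOne F q)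
  obtain ⟨τ, hτ⟩ : blk hF (sec2 hF δ, sec2 hF δ⁻¹) ∈ f.range := by
    rw [E.range_eq]
    show detHom _ _ = 1
    rw [detHom_blk, detHom_sec2, detHom_sec2, ← Subgroup.coe_mul, mul_inv_cancel, Subgroup.coe_one]
  refine ⟨L, δ, τ, hLs, hτ, hfL, hD, hW, ?_⟩
  rintro a ⟨x, hx, ha⟩
  obtain ⟨i, hi⟩ := mem_zpowers_iff.1 (hδ (nrm hF x.1))
  have hx' := (mem_pairs hF).1 hx
  have h1 : x.1 * ((sec2 hF δ) ^ i)⁻¹ ∈ SG (stdHerm hF 2) := by
    show detHom _ _ = 1
    rw [map_mul, map_inv, map_zpow, detHom_sec2, ← SubgroupClass.coe_zpow, hi]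
    exact mul_inv_cancel _
  have h2 : x.2 * ((sec2 hF δ⁻¹) ^ i)⁻¹ ∈ SG (stdHerm hF 2) := by
    show detHom _ _ = 1
    rw [map_mul, map_inv, map_zpow, detHom_sec2, Subgroup.coe_inv, inv_zpow, inv_inv,
      ← SubgroupClass.coe_zpow, hi, mul_comm]
    exact hx'
  obtain ⟨y₁, hy₁, e₁⟩ : ι₁ (x.1 * ((sec2 hF δ) ^ i)⁻¹) ∈ L₁.map f := by
    rw [m₁]; exact mem_map_of_mem _ h1
  obtain ⟨y₂, hy₂, e₂⟩ : ι₂ (x.2 * ((sec2 hF δ⁻¹) ^ i)⁻¹) ∈ L₂.map f := by
    rw [m₂]; exact mem_map_of_mem _ h2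
  have hk : (y₁ * y₂ * τ ^ i)⁻¹ * a ∈ f.ker := by
    rw [MonoidHom.mem_ker, map_mul, map_inv, map_mul, map_mul, e₁, e₂, map_zpow, hτ, ← ha, hι₁, hι₂,
      MonoidHom.comp_apply, MonoidHom.comp_apply, ← map_zpow (blk hF), ← map_mul (blk hF),
      ← map_mul (blk hF), ← map_inv (blk hF), ← map_mul (blk hF)]
    refine (congrArg (blk hF) ?_).trans (map_one _)
    refine Prod.ext ?_ ?_ <;> simp
  have hS : ∀ y ∈ (L : Set Γ) ∪ {τ} ∪ (f.ker : Set Γ),
      y ∈ closure ((L : Set Γ) ∪ {τ} ∪ (f.ker : Set Γ)) := fun y hy => Subgroup.subset_closure hy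
  have h := mul_mem (mul_mem (hS _ (Or.inl (Or.inl (mul_mem (hmem₁ _ hy₁) (hmem₂ _ hy₂)))))
    (zpow_mem (hS τ (Or.inl (Or.inr rfl))) i)) (hS _ (Or.inr hk))
  rwa [mul_inv_cancel_left] at h

end CfsgLib.PSUCover
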