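import Cfsg.Agent.Lib.PSUCover.Basic

/-!
The amalgam of the fixers of vectors of norm one: a covering argument for central extensions.
-/

set_option autoImplicit false
set_option linter.unusedSectionVars false

namespace CfsgLib.PSUCover

open Module CfsgLib.Classical.Herm HermSpace Subgroup
open scoped commutatorElement

universe u

variable {F : Type u} [Field F] {V : Type*} [AddCommGroup V] [Module F V] {H : HermSpace F V}
  {Γ : Type*} [Group Γ] {f : Γ →* Unit' H} {ℓ : ℕ}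

/-- Elements of the common fixer lift into both lifted fixers. -/
def Linked (f : Γ →* Unit' H) (w w' : V) : Prop :=
  ∀ g ∈ fixS H {w, w'}, ∃ x, x ∈ lift f {w} ∧ x ∈ lift f {w'} ∧ f x = g

/-- Linked vectors whose common fixer is transitive on perpendicular vectors of norm one. -/
def Adj (f : Γ →* Unit' H) (w w' : V) : Prop :=
  Linked f w w' ∧ ∀ a b, H.h a a = 1 → H.h b b = 1 → H.h a w = 0 → H.h a w' = 0 →
    H.h b w = 0 → H.h b w' = 0 → ∃ g ∈ fixS H {w, w'}, g.1 a = b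

/-- Chains of adjacent vectors of norm one inside `{a, b}^⊥`. -/
def Chain (f : Γ →* Unit' H) (a b : V) : V → V → Prop :=
  Relation.ReflTransGen fun w w' => Adj f w w' ∧ H.h w w = 1 ∧ H.h w' w' = 1 ∧
    H.h w a = 0 ∧ H.h w b = 0 ∧ H.h w' a = 0 ∧ H.h w' b = 0

theorem Linked.of_perf (E : Ext f ℓ) {w w' : V} (h : Perf H {w, w'}) : Linked f w w' := fun g hg => by
  obtain ⟨x, hx, e⟩ := E.exists_lift h hg
  exact ⟨x, lift_mono (by simp) hx, lift_mono (by simp) hx, e⟩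

/-- The hypotheses of the covering argument. -/
structure CoreData (f : Γ →* Unit' H) (ℓ : ℕ) : Prop where
  ext : Ext f ℓ
  perf : ∀ w, H.h w w = 1 → Perf H {w}
  split : ∀ w, H.h w w = 1 → Split f {w}
  orth : ∀ w z, H.h w w = 1 → H.h z z = 1 → H.h z w = 0 → Linked f w z
  conn : ∀ a b w w', H.h w w = 1 → H.h w' w' = 1 → H.h w a = 0 → H.h w b = 0 →
    H.h w' a = 0 → H.h w' b = 0 → ((H.h a a = 1 ∧ H.h b b = 1) ∨ (a = b ∧ a ≠ 0 ∧ H.h a a = 0)) →
      Chain f a b w w'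
  exists_perp : ∀ a b, H.h a a = 1 → H.h b b = 1 → ∃ w, H.h w w = 1 ∧ H.h w a = 0 ∧ H.h w b = 0
  exists_perp₃ : ∀ a b r, H.h a a = 1 → H.h b b = 1 → H.h r r = 0 → H.h r a ≠ 0 →
    ∃ w, H.h w w = 1 ∧ H.h w a = 0 ∧ H.h w b = 0 ∧ H.h w r = 0
  move : ∀ w a b, H.h w w = 1 → H.h a a = 1 → H.h b b = 1 → H.h a w = 0 → H.h b w = 0 →
    ∃ g ∈ fixS H {w}, g.1 a = b
  gen : Subgroup.closure (transvectionSet H) = SG H
  exists_one : ∃ e, H.h e e = 1

namespace CoreData

variable (D : CoreData f ℓ)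
include D

/-- Elements of a lifted fixer with the same image agree. -/
theorem lift_inj {w : V} (hw : H.h w w = 1) {x y : Γ} (hx : x ∈ lift f {w}) (hy : y ∈ lift f {w})
    (e : f x = f y) : x = y :=
  mul_inv_eq_one.1 (D.split w hw _ (mul_mem hx (inv_mem hy))
    (by rw [map_mul, map_inv, e, mul_inv_cancel]))

/-- An element of one lifted fixer fixing a perpendicular vector lies in the other lifted fixer. -/
theorem mem_lift_of_fix {e w : V} (he : H.h e e = 1) (hw : H.h w w = 1) (hwe : H.h w e = 0)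
    {x : Γ} (hx : x ∈ lift f {w}) (hfix : (f x).1 e = e) : x ∈ lift f {e} := by
  have h1 := map_lift_le _ hx
  obtain ⟨y, hye, hyw, e'⟩ := D.orth e w he hw hwe (f x) ⟨h1.1, by
    rintro u (rfl | rfl)
    · exact hfix
    · exact h1.2 _ rfl⟩
  rwa [D.lift_inj hw hx hyw e'.symm]

/-- `γ` is a point of the covering over `u`, seen from `w`. -/
def RelAt (f : Γ →* Unit' H) (e w u : V) (γ : Γ) : Prop :=
  ∃ δ ∈ lift f {w}, (f δ).1 e = u ∧ δ⁻¹ * γ ∈ lift f {e}

omit D in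
theorem unit_inv_fix {g : Unit' H} {x y : V} (h : g.1 x = y) : (g⁻¹).1 y = x := by
  rw [← h, inv_apply_self]

theorem relAt_adj {e u w w' : V} {γ : Γ} (he : H.h e e = 1) (hu : H.h u u = 1) (hw : H.h w w = 1)
    (hw' : H.h w' w' = 1) (h1 : H.h w e = 0) (h2 : H.h w u = 0) (h3 : H.h w' e = 0)
    (h4 : H.h w' u = 0) (hA : Adj f w w') (h : RelAt f e w u γ) : RelAt f e w' u γ := by
  obtain ⟨δ, hδ, hδe, hγ⟩ := h
  obtain ⟨g, hg, hge⟩ := hA.2 e u he hu (H.h_comm_zero h1) (H.h_comm_zero h3) (H.h_comm_zero h2)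
    (H.h_comm_zero h4)
  obtain ⟨x, hxw, hxw', hfx⟩ := hA.1 g hg
  refine ⟨x, hxw', by rw [hfx, hge], ?_⟩
  have hfix : (f (x⁻¹ * δ)).1 e = e := by
    rw [map_mul, mul_apply, hδe, map_inv, hfx]
    exact unit_inv_fix hge
  have hm := D.mem_lift_of_fix he hw h1 (mul_mem (inv_mem hxw) hδ) hfix
  rw [show x⁻¹ * γ = x⁻¹ * δ * (δ⁻¹ * γ) by group]
  exact mul_mem hm hγ

theorem relAt_indep {e u w w' : V} {γ : Γ} (he : H.h e e = 1) (hu : H.h u u = 1) (hw : H.h w w = 1)
    (hw' : H.h w' w' = 1) (h1 : H.h w e = 0) (h2 : H.h w u = 0) (h3 : H.h w' e = 0)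
    (h4 : H.h w' u = 0) (h : RelAt f e w u γ) : RelAt f e w' u γ := by
  have hc := D.conn e u w w' hw hw' h1 h2 h3 h4 (Or.inl ⟨he, hu⟩)
  clear hw' h3 h4
  induction hc with
  | refl => exact h
  | tail _ hb ih =>
    obtain ⟨hA, n1, n2, p1, p2, p3, p4⟩ := hb
    exact D.relAt_adj he hu n1 n2 p1 p2 p3 p4 hA ih

/-- The lift of a transvection does not depend on the fixer. -/
theorem transvection_indep {r w w' : V} (hr0 : r ≠ 0) (hr : H.h r r = 0) (hw : H.h w w = 1)
    (hw' : H.h w' w' = 1) (h1 : H.h w r = 0) (h3 : H.h w' r = 0) {c : F} {hc : ShearCond H r c}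
    {x : Γ} (hx : x ∈ lift f {w}) (hfx : f x = shear H r c hc)
    (hd : detHom H (shear H r c hc) = 1) : x ∈ lift f {w'} := by
  have hch := D.conn r r w w' hw hw' h1 h1 h3 h3 (Or.inr ⟨rfl, hr0, hr⟩)
  clear hw' h3
  induction hch with
  | refl => exact hx
  | tail _ hb ih =>
    obtain ⟨hA, n1, n2, p1, -, p3, -⟩ := hb
    obtain ⟨y, hy1, hy2, hfy⟩ := hA.1 (shear H r c hc) ⟨hd, by
      rintro u (rfl | rfl)
      · rw [shear_apply, p1, mul_zero, zero_smul, add_zero]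
      · rw [shear_apply, p3, mul_zero, zero_smul, add_zero]⟩
    rwa [D.lift_inj n1 ih hy1 (hfx.trans hfy.symm)]

theorem false_of_core [FiniteDimensional F V] [Finite Γ] : False := by
  obtain ⟨e, he⟩ := D.exists_one
  let R : V → Γ → Prop := fun u γ => ∃ w, H.h w w = 1 ∧ H.h w e = 0 ∧ H.h w u = 0 ∧ RelAt f e w u γ
  let A : Submonoid Γ :=
    { carrier := {a | ∀ u γ, H.h u u = 1 → R u γ → R ((f a).1 u) (a * γ)}
      one_mem' := fun u γ _ h => by simpa using h
      mul_mem' := fun {a b} ha hb u γ hu h => by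
        have h1 := ha _ _ (by rw [unit_h, hu]) (hb u γ hu h)
        rwa [← mul_apply, ← map_mul, ← mul_assoc] at h1 }
  have hLe : ∀ a ∈ lift f {e}, a ∈ A := by
    intro a ha u γ hu h
    obtain ⟨w, hw, hwe, hwu, δ, hδ, hδe, hγ⟩ := h
    have hfe : (f a).1 e = e := (map_lift_le _ ha).2 e rfl
    refine ⟨(f a).1 w, by rw [unit_h, hw], ?_, by rw [unit_h, hwu], a * δ * a⁻¹, ?_, ?_, ?_⟩
    · conv_lhs => rw [← hfe]
      rw [unit_h, hwe]
    · have := conj_lift (g := a) hδ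
      rwa [Set.image_singleton] at this
    · rw [map_mul, map_mul, mul_apply, mul_apply, map_inv, unit_inv_fix hfe, hδe]
    · rw [show (a * δ * a⁻¹)⁻¹ * (a * γ) = a * (δ⁻¹ * γ) by group]
      exact mul_mem ha hγ
  have hT : ∀ t ∈ transvectionSet H, ∃ x ∈ A, f x = t := by
    intro t ht
    have hd : detHom H t = 1 := by
      have : t ∈ SG H := D.gen ▸ Subgroup.subset_closure ht
      exact this
    obtain ⟨r, c, hc, hr, rfl⟩ := ht
    by_cases hre : H.h r e = 0
    · obtain ⟨x, hx, hfx⟩ := D.ext.exists_lift (D.perf e he) (g := shear H r c hc) ⟨hd, by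
        rintro u rfl
        rw [shear_apply, H.h_comm_zero hre, mul_zero, zero_smul, add_zero]⟩
      exact ⟨x, hLe x hx, hfx⟩
    have hr0 : r ≠ 0 := fun h0 => hre (by rw [h0, H.zero_left])
    obtain ⟨w0, hw0, -, -, hw0r⟩ := D.exists_perp₃ e e r he he hr hre
    obtain ⟨x, hx, hfx⟩ := D.ext.exists_lift (D.perf w0 hw0) (g := shear H r c hc) ⟨hd, by
      rintro u rfl
      rw [shear_apply, hw0r, mul_zero, zero_smul, add_zero]⟩
    refine ⟨x, ?_, hfx⟩
    intro u γ hu h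
    obtain ⟨w', hw', hw'e, hw'u, hrel⟩ := h
    obtain ⟨w, hw, hwe, hwu, hwr⟩ := D.exists_perp₃ e u r he hu hr hre
    obtain ⟨δ, hδ, hδe, hγ⟩ := D.relAt_indep he hu hw' hw hw'e hw'u hwe hwu hrel
    have hxw := D.transvection_indep hr0 hr hw0 hw hw0r hwr hx hfx hd
    have hxfix : (f x).1 w = w := (map_lift_le _ hxw).2 w rfl
    refine ⟨w, hw, hwe, ?_, x * δ, mul_mem hxw hδ, by rw [map_mul, mul_apply, hδe], ?_⟩
    · conv_lhs => rw [← hxfix]
      rw [unit_h, hwu]
    · rw [show (x * δ)⁻¹ * (x * γ) = δ⁻¹ * γ by group]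
      exact hγ
  -- the submonoid is everything
  let A' : Subgroup Γ :=
    { A with
      inv_mem' := fun {a} ha => by
        obtain ⟨n, hn, he'⟩ := (isOfFinOrder_of_finite a).exists_pow_eq_one
        have h1 : a * a ^ (n - 1) = 1 := by rw [← pow_succ', Nat.sub_add_cancel hn, he']
        rw [inv_eq_of_mul_eq_one_right h1]
        exact A.pow_mem ha _ }
  have hA' : A'.map f = SG H := by
    refine le_antisymm (D.ext.range_eq ▸ map_le_range f A') ?_
    rw [← D.gen, Subgroup.closure_le]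
    intro t ht
    obtain ⟨x, hx, hfx⟩ := hT t ht
    exact ⟨x, hx, hfx⟩
  have htop : A' = ⊤ := by
    rw [eq_top_iff, ← D.ext.perfect, _root_.commutator_def, commutator_le]
    intro a _ b _
    obtain ⟨a', ha', ea⟩ : f a ∈ A'.map f := hA' ▸ D.ext.range_eq ▸ ⟨a, rfl⟩
    obtain ⟨b', hb', eb⟩ : f b ∈ A'.map f := hA' ▸ D.ext.range_eq ▸ ⟨b, rfl⟩
    rw [comm_congr D.ext.central ea.symm eb.symm]
    exact mul_mem (mul_mem (mul_mem ha' hb') (inv_mem ha')) (inv_mem hb')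
  obtain ⟨w0, hw0, hw0e, -⟩ := D.exists_perp e e he he
  have h0 : R e 1 := ⟨w0, hw0, hw0e, hw0e, 1, one_mem _, by rw [map_one, one_apply], by
    rw [inv_one, one_mul]; exact one_mem _⟩
  have hker : ∀ z : Γ, f z = 1 → z = 1 := by
    intro z hz
    have hzA : z ∈ A' := htop ▸ mem_top z
    have h1 : R ((f z).1 e) (z * 1) := hzA e 1 he h0
    rw [hz, one_apply, mul_one] at h1
    obtain ⟨w, hw, hwe, -, δ, hδ, hδe, hγ⟩ := h1
    refine D.split e he z ?_ hz
    rw [show z = δ * (δ⁻¹ * z) by group]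
    exact mul_mem (D.mem_lift_of_fix he hw hwe hδ hδe) hγ
  have h1 : Nat.card f.ker = 1 := by
    rw [Subgroup.card_eq_one, eq_bot_iff]
    exact fun z hz => mem_bot.2 (hker z hz)
  exact D.ext.prime.one_lt.ne (h1.symm.trans D.ext.card_ker)

end CoreData

end CfsgLib.PSUCover
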