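import Cfsg.Agent.Lib.PSUCover.Geom
import Cfsg.Agent.Lib.Semilinear.NormalAbelian
import Cfsg.Agent.Lib.PGroup.CyclicMaximal

/-!
Orders of the small special unitary groups, and primes with cyclic Sylow subgroups.
-/

set_option autoImplicit false
set_option linter.unusedSectionVars false
set_option linter.style.haveILetI false

namespace CfsgLib.PSUCover

open Module CfsgLib.Classical.Herm HermSpace Subgroup

universe u

variable {F : Type u} [Field F] [Fintype F] {q : ℕ} (hF : Fintype.card F = q ^ 2)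

theorem card_SG_mul {n : ℕ} (hn : 1 ≤ n) :
    (q + 1) * Nat.card (SG (stdHerm hF n)) = Nat.card (Unit' (stdHerm hF n)) := by
  rw [← card_unit_eq_mul_su hF hn, Nat.card_congr (suEquiv hF n).toEquiv]

theorem card_unit_small :
    Nat.card (Unit' (stdHerm hF 2)) = q * ((q + 1) * (q ^ 2 - 1)) ∧
    Nat.card (Unit' (stdHerm hF 3)) = q ^ 3 * ((q + 1) * (q ^ 2 - 1) * (q ^ 3 + 1)) ∧
    Nat.card (Unit' (stdHerm hF 4)) = q ^ 6 * ((q + 1) * (q ^ 2 - 1) * (q ^ 3 + 1) * (q ^ 4 - 1)) ∧
    Nat.card (Unit' (stdHerm hF 5)) =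
      q ^ 10 * ((q + 1) * (q ^ 2 - 1) * (q ^ 3 + 1) * (q ^ 4 - 1) * (q ^ 5 + 1)) := by
  refine ⟨?_, ?_, ?_, ?_⟩ <;>
  · rw [card_unit hF]
    simp [Finset.prod_range_succ, Nat.even_iff]

theorem card_SG_two : Nat.card (SG (stdHerm hF 2)) = q * (q ^ 2 - 1) := by
  refine Nat.eq_of_mul_eq_mul_left (show 0 < q + 1 by omega) ?_
  rw [card_SG_mul hF (by norm_num), (card_unit_small hF).1]
  ring

theorem card_SG_three : Nat.card (SG (stdHerm hF 3)) = q ^ 3 * ((q ^ 2 - 1) * (q ^ 3 + 1)) := by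
  refine Nat.eq_of_mul_eq_mul_left (show 0 < q + 1 by omega) ?_
  rw [card_SG_mul hF (by norm_num), (card_unit_small hF).2.1]
  ring

theorem card_SG_four :
    Nat.card (SG (stdHerm hF 4)) = q ^ 6 * ((q ^ 2 - 1) * (q ^ 3 + 1) * (q ^ 4 - 1)) := by
  refine Nat.eq_of_mul_eq_mul_left (show 0 < q + 1 by omega) ?_
  rw [card_SG_mul hF (by norm_num), (card_unit_small hF).2.2.1]
  ring

theorem card_SG_five :
    Nat.card (SG (stdHerm hF 5)) = q ^ 10 * ((q ^ 2 - 1) * (q ^ 3 + 1) * (q ^ 4 - 1) * (q ^ 5 + 1)) := by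
  refine Nat.eq_of_mul_eq_mul_left (show 0 < q + 1 by omega) ?_
  rw [card_SG_mul hF (by norm_num), (card_unit_small hF).2.2.2]
  ring

variable {Γ : Type u} [Group Γ] [Finite Γ] {ℓ : ℕ}

/-- A prime dividing the order only once. -/
theorem false_of_sq_not_dvd {n : ℕ} {f : Γ →* Unit' (stdHerm hF n)} (E : Ext f ℓ)
    (h : ¬ ℓ ^ 2 ∣ Nat.card (SG (stdHerm hF n))) : False := by
  haveI := Fact.mk E.prime
  haveI : Finite (SG (stdHerm hF n)) := E.range_eq ▸ Finite.of_surjective _ f.rangeRestrict_surjective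
  refine E.false_of_cyclic fun R hR hP => ?_
  haveI : Finite R := Finite.of_injective _ (Subgroup.inclusion_injective hR)
  obtain ⟨k, hk⟩ := hP.exists_card_eq
  have hk1 : k ≤ 1 := by
    by_contra hc
    push Not at hc
    exact h ((pow_dvd_pow ℓ hc).trans (hk ▸ card_dvd_of_le hR))
  interval_cases k
  · haveI : Subsingleton R := (Nat.card_eq_one_iff_unique.1 (by simpa using hk)).1
    exact isCyclic_of_subsingleton
  · exact isCyclic_of_prime_card (p := ℓ) (by simpa using hk)

/-- An odd prime prime to the order of the fixer of a vector of norm one. -/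
theorem false_of_semiregular {n p : ℕ} [Fact p.Prime] [CharP F p]
    {f : Γ →* Unit' (stdHerm hF (n + 1))} (E : Ext f ℓ) (h2 : ℓ ≠ 2) (hp : ℓ ≠ p)
    (h : ¬ ℓ ∣ Nat.card (SG (stdHerm hF n))) : False := by
  classical
  haveI := Fact.mk E.prime
  haveI : Finite (SG (stdHerm hF (n + 1))) := by
    rw [← E.range_eq]
    exact Finite.of_surjective f.rangeRestrict f.rangeRestrict_surjective
  refine E.false_of_cyclic fun R hR hP => ?_
  haveI : Finite R := Finite.of_injective _ (Subgroup.inclusion_injective hR)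
  letI : DistribMulAction R (Fin (n + 1) → F) :=
    { smul := fun g v => g.1.1 v
      one_smul := fun v => rfl
      mul_smul := fun g g' v => rfl
      smul_zero := fun g => map_zero g.1.1
      smul_add := fun g => map_add g.1.1 }
  have hfree : ∀ v : Fin (n + 1) → F, v ≠ 0 → ∀ g : R, g • v = v → g = 1 := by
    intro v hv g hg
    change g.1.1 v = v at hg
    obtain ⟨k, hk⟩ := hP g
    obtain ⟨w0, hw0, hfix⟩ : ∃ w0, (stdHerm hF (n + 1)).h w0 w0 ≠ 0 ∧ g.1.1 w0 = w0 := by
      by_cases hvv : (stdHerm hF (n + 1)).h v v = 0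
      swap
      · exact ⟨v, hvv, hg⟩
      obtain ⟨x, hx⟩ := (stdHerm hF (n + 1)).exists_h_one hv
      set y := ∑ i ∈ Finset.range (ℓ ^ k), (g.1 ^ i).1 x with hy
      have hpowv : ∀ i : ℕ, (g.1 ^ i).1 v = v := by
        intro i
        induction i with
        | zero => rfl
        | succ i ih => rw [pow_succ, CfsgLib.Classical.Herm.mul_apply, hg, ih]
      have hyfix : g.1.1 y = y := by
        rw [hy, map_sum]
        have hs : ∀ i, g.1.1 ((g.1 ^ i).1 x) = (g.1 ^ (i + 1)).1 x := fun i => by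
          rw [← CfsgLib.Classical.Herm.mul_apply, ← pow_succ']
        simp only [hs]
        refine add_right_cancel (b := (g.1 ^ 0).1 x) ?_
        rw [← Finset.sum_range_succ' (fun i => (g.1 ^ i).1 x), Finset.sum_range_succ]
        congr 1
        rw [show g.1 ^ ℓ ^ k = 1 from congrArg Subtype.val hk, pow_zero]
      have hyv : (stdHerm hF (n + 1)).h y v = (ℓ : F) ^ k := by
        have : (stdHerm hF (n + 1)).h y v = (stdHerm hF (n + 1)).form v y := rfl
        rw [this, hy, map_sum, Finset.sum_congr rfl fun i _ => show (stdHerm hF (n + 1)).form v ((g.1 ^ i).1 x) = 1 by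
          rw [form_apply, ← hpowv i, unit_h, hx], Finset.sum_const, Finset.card_range, nsmul_one, Nat.cast_pow]
      have hm : (ℓ : F) ^ k ≠ 0 := pow_ne_zero _ fun h0 =>
        hp ((Nat.prime_dvd_prime_iff_eq Fact.out E.prime).1 ((CharP.cast_eq_zero_iff F p ℓ).1 h0)).symm
      set y' := ((ℓ : F) ^ k)⁻¹ • y with hy'
      have hy'v : (stdHerm hF (n + 1)).h y' v = 1 := by rw [hy', (stdHerm hF (n + 1)).smul_left, hyv, inv_mul_cancel₀ hm]
      have hy'fix : g.1.1 y' = y' := by rw [hy', map_smul, hyfix]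
      clear_value y'
      by_cases hyy : (stdHerm hF (n + 1)).h y' y' = 0
      swap
      · exact ⟨y', hyy, hy'fix⟩
      obtain ⟨s, hs⟩ := (stdHerm hF (n + 1)).exists_trace_one
      refine ⟨v + s • y', ?_, by rw [map_add, map_smul, hg, hy'fix]⟩
      rw [(stdHerm hF (n + 1)).add_left, (stdHerm hF (n + 1)).add_right, (stdHerm hF (n + 1)).add_right, (stdHerm hF (n + 1)).smul_left, (stdHerm hF (n + 1)).smul_left, (stdHerm hF (n + 1)).smul_right, (stdHerm hF (n + 1)).smul_right,
        hvv, hyy, hy'v, (stdHerm hF (n + 1)).h_comm_one hy'v]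
      intro h0
      exact one_ne_zero (α := F) (by linear_combination h0 - hs)
    obtain ⟨s, hs0, -, hw⟩ := exists_normalize (H := stdHerm hF (n + 1)) hw0
    obtain ⟨T, φ, -, -, -, -, hφi, -, hφ⟩ :=
      exists_fix_equiv hF (H := stdHerm hF (n + 1)) (fun x => rfl) (n := n) (Module.finrank_fin_fun F) hw
    have hmem : g.1 ∈ fixS (stdHerm hF (n + 1)) {s⁻¹ • w0} := ⟨hR g.2, by rintro u rfl; rw [map_smul, hfix]⟩
    rw [← hφ] at hmem
    obtain ⟨g', hg', e⟩ := hmem
    have h1 : (g' : Unit' (stdHerm hF n)) ^ ℓ ^ k = 1 := hφi (by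
      rw [map_pow, e, map_one]; exact congrArg Subtype.val hk)
    have h2 : (⟨g', hg'⟩ : SG (stdHerm hF n)) = 1 := by
      rw [← orderOf_eq_one_iff]
      obtain ⟨j, -, hj⟩ := (Nat.dvd_prime_pow E.prime).1
        (orderOf_dvd_of_pow_eq_one (x := (⟨g', hg'⟩ : SG (stdHerm hF n))) (n := ℓ ^ k) (Subtype.ext h1))
      rcases Nat.eq_zero_or_pos j with rfl | hj0
      · simpa using hj
      · exact absurd ((dvd_pow_self ℓ hj0.ne').trans (hj ▸ orderOf_dvd_natCard _)) h
    exact Subtype.ext (e.symm.trans ((congrArg φ (congrArg Subtype.val h2)).trans (map_one φ)))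
  haveI : Nontrivial (Fin (n + 1) → F) := inferInstance
  haveI : Finite (Fin (n + 1) → F) := inferInstance
  refine CfsgLib.PGroup.isCyclic_of_unique_order_prime h2 hP fun x y hx hx1 hy => ?_
  by_cases hy1 : y = 1
  · rw [hy1]; exact one_mem _
  haveI : Nontrivial R := ⟨⟨x, 1, hx1⟩⟩
  haveI := hP.center_nontrivial
  obtain ⟨z, hz⟩ := exists_prime_orderOf_dvd_card' (G := Subgroup.center R) ℓ
    ((hP.to_subgroup _).card_eq_or_dvd.resolve_left fun h => (Finite.one_lt_card (α := center R)).ne' h)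
  have hzo : orderOf (z : R) = ℓ := by rw [Subgroup.orderOf_coe, hz]
  have key : ∀ a : R, a ^ ℓ = 1 → a ≠ 1 → zpowers a = zpowers (z : R) := by
    intro a ha ha1
    have hao : orderOf a = ℓ := orderOf_eq_prime ha ha1
    set A := closure ({a, (z : R)} : Set R) with hA
    haveI : IsMulCommutative A := Subgroup.isMulCommutative_closure (by
      rintro b (rfl | rfl) c (rfl | rfl)
      · rfl
      · exact mem_center_iff.1 z.2 b
      · exact (mem_center_iff.1 z.2 c).symm
      · rfl)
    haveI : IsCyclic A := CfsgLib.Semilinear.isCyclic_of_free hfree A fun b hb c hc =>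
      congrArg Subtype.val (IsMulCommutative.is_comm.comm (⟨b, hb⟩ : A) ⟨c, hc⟩)
    have h1 : zpowers a ≤ A := zpowers_le.2 (Subgroup.subset_closure (by simp))
    have h2 : zpowers (z : R) ≤ A := zpowers_le.2 (Subgroup.subset_closure (by simp))
    refine Subgroup.eq_of_le_of_card_ge ?_ (by rw [Nat.card_zpowers, Nat.card_zpowers, hao, hzo])
    rw [zpowers_le]
    letI := Fintype.ofFinite A
    set zA : A := ⟨(z : R), h2 (mem_zpowers _)⟩ with hzA
    have hzAo : orderOf zA = ℓ := by rw [← Subgroup.orderOf_coe]; exact hzo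
    have hS := IsCyclic.card_pow_eq_one_le (α := A) E.prime.pos
    have hT : ((Finset.range ℓ).image fun i => zA ^ i) =
        Finset.univ.filter fun b : A => b ^ ℓ = 1 := by
      refine Finset.eq_of_subset_of_card_le (fun b hb => ?_) (hS.trans (le_of_eq ?_))
      · obtain ⟨i, -, rfl⟩ := Finset.mem_image.1 hb
        refine Finset.mem_filter.2 ⟨Finset.mem_univ _, ?_⟩
        have h4 : zA ^ ℓ = 1 := hzAo ▸ pow_orderOf_eq_one zA
        rw [← pow_mul, mul_comm, pow_mul, h4, one_pow]
      · rw [Finset.card_image_of_injOn, Finset.card_range]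
        intro i hi j hj e
        rw [Finset.coe_range, ← hzAo] at hi hj
        exact pow_injOn_Iio_orderOf hi hj e
    have ha' : (⟨a, h1 (mem_zpowers a)⟩ : A) ∈ (Finset.range ℓ).image fun i => zA ^ i := by
      rw [hT]
      exact Finset.mem_filter.2 ⟨Finset.mem_univ _, Subtype.ext ha⟩
    obtain ⟨i, -, hi⟩ := Finset.mem_image.1 ha'
    exact mem_zpowers_iff.2 ⟨i, by rw [zpow_natCast]; exact congrArg Subtype.val hi⟩
  rw [key x hx hx1, ← key y hy hy1]
  exact mem_zpowers y

end CfsgLib.PSUCover
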