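import Cfsg.Agent.Lib.PSUCover.Step

/-!
`SU(7, 2)`: the six-dimensional fixers split, although `SU(6, 2)` has extensions.
-/

set_option autoImplicit false
set_option linter.unusedSectionVars false

namespace CfsgLib.PSUCover

open Module CfsgLib.Classical.Herm HermSpace Subgroup
open scoped commutatorElement

universe u

variable {F : Type u} [Field F] [Fintype F] (hF : Fintype.card F = 2 ^ 2)

theorem fixed_two {V : Type*} [AddCommGroup V] [Module F V] {H : HermSpace F V}
    (hq : ConjQ H hF) {c : F} (hc : H.conj c = c) (h0 : c ≠ 0) : c = 1 := by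
  rw [hq, qPow_apply] at hc
  exact mul_right_cancel₀ h0 (by linear_combination hc)

include hF in
theorem two_zero : (2 : F) = 0 := by
  have h := FiniteField.cast_card_eq_zero F
  rw [hF] at h
  push_cast at h
  exact mul_self_eq_zero.1 (show (2 : F) * 2 = 0 by linear_combination h)

variable {V : Type*} [AddCommGroup V] [Module F V] [FiniteDimensional F V] {H : HermSpace F V}
variable {Γ : Type u} [Group Γ] [Finite Γ] {f : Γ →* Unit' H} {ℓ : ℕ}

theorem nd_orth {j : ℕ} {E : Fin j → V} (h : ∀ i l, H.h (E i) (E l) = if i = l then 1 else 0) :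
    ∀ c : Fin j → F, (∀ i, H.h (∑ l, c l • E l) (E i) = 0) → c = 0 := by
  intro c hc
  funext i
  have h1 := hc i
  have : H.h (∑ l, c l • E l) (E i) = H.form (E i) (∑ l, c l • E l) := rfl
  rw [this, map_sum, Finset.sum_eq_single i (fun l _ hl => by simp [h, hl]) (by simp)] at h1
  simpa [h] using h1

/-- Fixers of degenerate pairs lift into both lifted fixers. -/
theorem exists_common_lift (hq : ConjQ H hF) (hd : finrank F V = 7) (E : Ext f ℓ)
    (hsplit : ∀ w z, H.h w w = 1 → H.h z z = 1 → H.h z w = 0 → Split f {w, z})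
    {w z z' : V} (hw : H.h w w = 1) (hz : H.h z z = 1) (hz' : H.h z' z' = 1)
    (hzw : H.h z w = 0) (hz'w : H.h z' w = 0) (hx0 : z' - H.h z' z • z ≠ 0)
    (hxx : H.h (z' - H.h z' z • z) (z' - H.h z' z • z) = 0) {g : Unit' H}
    (hg : g ∈ fixS H {w, z, z'}) :
    ∃ y, y ∈ lift f {w, z} ∧ y ∈ lift f {w, z'} ∧ f y = g := by
  classical
  set μ := H.h z' z with hμ
  set x := z' - μ • z with hx
  have hxw : H.h x w = 0 := by rw [hx, H.sub_left, H.smul_left, hz'w, hzw, mul_zero, sub_zero]
  have hxz : H.h x z = 0 := by rw [hx, H.sub_left, H.smul_left, hz, ← hμ, mul_one, sub_self]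
  have hμμ : μ * H.conj μ = 1 := by
    have e : H.h x x = H.h z' z' - μ * H.conj μ := by
      rw [hx, H.sub_left, H.sub_right, H.sub_right, H.smul_left, H.smul_left, H.smul_right,
        H.smul_right, ← hμ, ← H.symm' z' z, ← hμ, hz]
      ring
    rw [hxx, hz'] at e
    linear_combination e
  have hμ0 : μ ≠ 0 := left_ne_zero_of_mul_eq_one hμμ
  -- a partner of the isotropic part
  obtain ⟨y0, hy0⟩ := H.exists_h_one hx0
  set y1 := y0 - H.h y0 w • w - H.h y0 z • z with hy1
  have y1w : H.h y1 w = 0 := by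
    rw [hy1, H.sub_left, H.sub_left, H.smul_left, H.smul_left, hw, hzw]; ring
  have y1z : H.h y1 z = 0 := by
    rw [hy1, H.sub_left, H.sub_left, H.smul_left, H.smul_left, hz, H.h_comm_zero hzw]; ring
  have y1x : H.h y1 x = 1 := by
    rw [hy1, H.sub_left, H.sub_left, H.smul_left, H.smul_left, H.h_comm_zero hxw,
      H.h_comm_zero hxz, hy0]; ring
  clear_value y1
  obtain ⟨t0, ht0⟩ := H.exists_trace (c := -H.h y1 y1) (by rw [map_neg, H.conj_diag])
  set x' := y1 + t0 • x with hx'
  have x'x : H.h x' x = 1 := by rw [hx', H.add_left, H.smul_left, hxx, y1x]; ring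
  have x'x' : H.h x' x' = 0 := by
    rw [hx', H.add_left, H.add_right, H.add_right, H.smul_left, H.smul_left, H.smul_right,
      H.smul_right, y1x, H.h_comm_one y1x, hxx]
    linear_combination ht0
  have x'w : H.h x' w = 0 := by rw [hx', H.add_left, H.smul_left, y1w, hxw]; ring
  have x'z : H.h x' z = 0 := by rw [hx', H.add_left, H.smul_left, y1z, hxz]; ring
  clear_value x'
  obtain ⟨t, ht⟩ := H.exists_trace_one
  have hchar := two_zero hF
  set a := x' + t • x with ha
  set a' := x' + H.conj t • x with ha'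
  have aa : H.h a a = 1 := by
    rw [ha, H.add_left, H.add_right, H.add_right, H.smul_left, H.smul_left, H.smul_right,
      H.smul_right, x'x, x'x', hxx, H.h_comm_one x'x]
    linear_combination ht
  have a'a' : H.h a' a' = 1 := by
    rw [ha', H.add_left, H.add_right, H.add_right, H.smul_left, H.smul_left, H.smul_right,
      H.smul_right, x'x, x'x', hxx, H.h_comm_one x'x, H.conj_conj]
    linear_combination ht
  have a'a : H.h a' a = 0 := by
    rw [ha, ha', H.add_left, H.add_right, H.add_right, H.smul_left, H.smul_left, H.smul_right,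
      H.smul_right, x'x, x'x', hxx, H.h_comm_one x'x]
    linear_combination H.conj t * hchar
  have aw : H.h a w = 0 := by rw [ha, H.add_left, H.smul_left, x'w, hxw]; ring
  have az : H.h a z = 0 := by rw [ha, H.add_left, H.smul_left, x'z, hxz]; ring
  have a'w : H.h a' w = 0 := by rw [ha', H.add_left, H.smul_left, x'w, hxw]; ring
  have a'z : H.h a' z = 0 := by rw [ha', H.add_left, H.smul_left, x'z, hxz]; ring
  -- the subgroup of elements with a common lift
  set A : Subgroup (Unit' H) := (lift f {w, z} ⊓ lift f {w, z'}).map f with hA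
  set G : Subgroup (Unit' H) := fixS H {w, z, z'} with hG
  have hperf2 : ∀ b c, H.h b b = 1 → H.h c c = 1 → H.h c b = 0 → Perf H {b, c} := fun b c hb hc hbc =>
    perf_pair hF hq (n := 5) hd (by norm_num) (by omega) hb hc hbc
  have hperf3 : ∀ b c d, H.h b b = 1 → H.h c c = 1 → H.h d d = 1 → H.h c b = 0 → H.h d b = 0 →
      H.h d c = 0 → Perf H {b, c, d} := fun b c d hb hc hd' h1 h2 h3 =>
    perf_triple hF hq (n := 4) hd (by norm_num) (by omega) hb hc hd' h1 h2 h3
  have hinj : ∀ b c, H.h b b = 1 → H.h c c = 1 → H.h c b = 0 → ∀ {s t : Γ},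
      s ∈ lift f {b, c} → t ∈ lift f {b, c} → f s = f t → s = t := fun b c hb hc hbc s t hs ht e =>
    mul_inv_eq_one.1 (hsplit b c hb hc hbc _ (mul_mem hs (inv_mem ht))
      (by rw [map_mul, map_inv, e, mul_inv_cancel]))
  have hlift : ∀ {U U' : Set V}, fixS H U ≤ fixS H U' → lift f U ≤ lift f U' := fun h =>
    commutator_mono (comap_mono h) (comap_mono h)
  -- the three-dimensional complement
  have hY : fixS H {w, z, a, a'} ≤ A := by
    intro k hk
    set b := x' + (-(H.conj μ)⁻¹) • z with hb
    have hμ' : H.conj μ ≠ 0 := H.conj_ne_zero hμ0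
    have hz'e : z' = x + μ • z := by rw [hx]; abel
    have bb : H.h b b = 1 := by
      rw [hb, H.add_left, H.add_right, H.add_right, H.smul_left, H.smul_left, H.smul_right,
        H.smul_right, x'x', x'z, H.h_comm_zero x'z, hz, map_neg, map_inv₀, H.conj_conj]
      field_simp
      linear_combination -hμμ
    have bw : H.h b w = 0 := by rw [hb, H.add_left, H.smul_left, x'w, hzw]; ring
    have bz' : H.h b z' = 0 := by
      rw [hb, hz'e, H.add_left, H.add_right, H.add_right, H.smul_left, H.smul_left, H.smul_right,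
        H.smul_right, x'x, x'z, H.h_comm_zero hxz, hz]
      field_simp
      ring
    have hsp : ∀ {U : Set V}, U ⊆ Submodule.span F ({z, a, a'} : Set V) →
        fixS H {z, a, a'} ≤ fixS H U := fun h k hk => mem_fixS_span hk h
    have hxs : x ∈ Submodule.span F ({z, a, a'} : Set V) ∧ x' ∈ Submodule.span F ({z, a, a'} : Set V) := by
      have e1 : x = a - a' + (1 + H.conj t - t) • x := by rw [ha, ha']; module
      have e2 : 1 + H.conj t - t = 0 := by linear_combination ht + (1 - t) * hchar
      have m : x ∈ Submodule.span F ({z, a, a'} : Set V) := by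
        rw [e1, e2, zero_smul, add_zero]
        exact Submodule.sub_mem _ (Submodule.subset_span (by simp)) (Submodule.subset_span (by simp))
      refine ⟨m, ?_⟩
      rw [show x' = a - t • x by rw [ha]; abel]
      exact Submodule.sub_mem _ (Submodule.subset_span (by simp)) (Submodule.smul_mem _ _ m)
    have hzb : z' ∈ Submodule.span F ({z, a, a'} : Set V) ∧ b ∈ Submodule.span F ({z, a, a'} : Set V) :=
      ⟨by rw [hz'e]; exact Submodule.add_mem _ hxs.1 (Submodule.smul_mem _ _ (Submodule.subset_span (by simp))),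
       Submodule.add_mem _ hxs.2 (Submodule.smul_mem _ _ (Submodule.subset_span (by simp)))⟩
    obtain ⟨u1, hu1, e1⟩ := E.exists_lift (hperf3 w z a hw hz aa hzw aw az)
      (fixS_mono (by intro u hu; simp only [Set.mem_insert_iff, Set.mem_singleton_iff] at hu ⊢; tauto) hk)
    obtain ⟨u2, hu2, e2⟩ := E.exists_lift (hperf3 z a a' hz aa a'a' az a'z a'a)
      (fixS_mono (by intro u hu; simp only [Set.mem_insert_iff, Set.mem_singleton_iff] at hu ⊢; tauto) hk)
    obtain ⟨u3, hu3, e3⟩ := E.exists_lift (hperf3 w z' b hw hz' bb hz'w bw bz') (g := k) ⟨hk.1, by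
      have hk' : k ∈ fixS H {z, a, a'} := fixS_mono
        (by intro u hu; simp only [Set.mem_insert_iff, Set.mem_singleton_iff] at hu ⊢; tauto) hk
      intro u hu
      rcases hu with h | h | h <;> rw [h]
      · exact hk.2 _ (by simp)
      · exact (mem_fixS_span hk' (U' := {z'}) (by simpa using hzb.1)).2 _ rfl
      · exact (mem_fixS_span hk' (U' := {b}) (by simpa using hzb.2)).2 _ rfl⟩
    have h12 : u1 = u2 := hinj z a hz aa az (lift_mono (by simp) hu1)
      (lift_mono (by intro u hu; simp only [Set.mem_insert_iff, Set.mem_singleton_iff] at hu ⊢; tauto) hu2)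
      (e1.trans e2.symm)
    have h23 : u2 = u3 := hinj z' b hz' bb bz'
      (hlift (hsp (by
        rintro u (rfl | rfl)
        · exact hzb.1
        · exact hzb.2)) hu2)
      (lift_mono (by simp) hu3) (e2.trans e3.symm)
    refine ⟨u1, ⟨lift_mono (by intro u hu; simp only [Set.mem_insert_iff, Set.mem_singleton_iff] at hu ⊢; tauto) hu1, ?_⟩, e1⟩
    rw [h12, h23]
    exact lift_mono (by intro u hu; simp only [Set.mem_insert_iff, Set.mem_singleton_iff] at hu ⊢; tauto) hu3
  -- commutators
  have hcomm : ∀ k ∈ G, ∀ l ∈ G, ⁅k, l⁆ ∈ A := by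
    intro k hk l hl
    have h1 : G ≤ fixS H {w, z} := fixS_mono
      (by intro u hu; simp only [Set.mem_insert_iff, Set.mem_singleton_iff] at hu ⊢; tauto)
    have h2 : G ≤ fixS H {w, z'} := fixS_mono
      (by intro u hu; simp only [Set.mem_insert_iff, Set.mem_singleton_iff] at hu ⊢; tauto)
    obtain ⟨k1, hk1, ek1⟩ := E.exists_lift (hperf2 w z hw hz hzw) (h1 hk)
    obtain ⟨l1, hl1, el1⟩ := E.exists_lift (hperf2 w z hw hz hzw) (h1 hl)
    obtain ⟨k2, hk2, ek2⟩ := E.exists_lift (hperf2 w z' hw hz' hz'w) (h2 hk)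
    obtain ⟨l2, hl2, el2⟩ := E.exists_lift (hperf2 w z' hw hz' hz'w) (h2 hl)
    refine ⟨⁅k1, l1⁆, Subgroup.mem_inf.2 ⟨mul_mem (mul_mem (mul_mem hk1 hl1) (inv_mem hk1)) (inv_mem hl1), ?_⟩,
      by rw [map_commutatorElement, ek1, el1]⟩
    rw [comm_congr E.central (ek1.trans ek2.symm) (el1.trans el2.symm)]
    exact mul_mem (mul_mem (mul_mem hk2 hl2) (inv_mem hk2)) (inv_mem hl2)
  -- root elements at `x`
  have hrootG : ∀ {v : V} {l : F} (c : RootCond H x v l), H.h v w = 0 → H.h v z = 0 →
      root H x v l c ∈ G := by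
    intro v l c vw vz
    have hzz : H.h z' v = 0 := by
      rw [show z' = x + μ • z by rw [hx]; abel, H.add_left, H.smul_left, H.h_comm_zero vz,
        H.h_comm_zero c.2.1, mul_zero, add_zero]
    have hzx : H.h z' x = 0 := by
      rw [show z' = x + μ • z by rw [hx]; abel, H.add_left, H.smul_left, hxx, H.h_comm_zero hxz,
        mul_zero, add_zero]
    refine ⟨detHom_root c, ?_⟩
    rintro u (rfl | rfl | rfl)
    · simp [root_apply, H.h_comm_zero hxw, H.h_comm_zero vw]
    · simp [root_apply, H.h_comm_zero hxz, H.h_comm_zero vz]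
    · simp [root_apply, hzx, hzz]
  let Y0 : V → Prop := fun v => H.h v w = 0 ∧ H.h v z = 0 ∧ H.h v a = 0 ∧ H.h v a' = 0
  have hY0x : ∀ v, Y0 v → H.h v x = 0 ∧ H.h v x' = 0 := by
    rintro v ⟨-, -, va, va'⟩
    rw [ha, H.add_right, H.smul_right] at va
    rw [ha', H.add_right, H.smul_right, H.conj_conj] at va'
    have e : H.h v x * (H.conj t - t) = 0 := by linear_combination va - va'
    have e2 : H.conj t - t = 1 := by linear_combination ht - t * hchar
    rw [e2, mul_one] at e
    exact ⟨e, by rw [e, mul_zero, add_zero] at va; exact va⟩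
  have htrans : ∀ {l : F} (c : RootCond H x 0 l), root H x 0 l c ∈ A := by
    intro l c
    obtain ⟨y, hy, hyp⟩ := exists_norm_one_perp (H := H) ![w, z, a, a'] ![w, z, a, a']
      (fun i => Submodule.subset_span ⟨i, rfl⟩)
      (nd_orth (fun i j => by
        fin_cases i <;> fin_cases j <;>
          simp [hw, hz, aa, a'a', hzw, aw, az, a'w, a'z, a'a, H.h_comm_zero hzw, H.h_comm_zero aw,
            H.h_comm_zero az, H.h_comm_zero a'w, H.h_comm_zero a'z, H.h_comm_zero a'a]))
      (by omega)
    have hyx := (hY0x y ⟨hyp 0, hyp 1, hyp 2, hyp 3⟩).1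
    have hl : H.conj l = -l := by
      have h3 := c.2.2
      rw [H.zero_left] at h3
      linear_combination h3
    set s := l * t with hs
    obtain ⟨p, hp⟩ := H.exists_trace (c := -(s * H.conj s)) (by
      rw [map_neg, map_mul, H.conj_conj, mul_comm])
    obtain ⟨r, hr⟩ := H.exists_trace (c := (-1 : F)) (by rw [map_neg, map_one])
    have cp : RootCond H x (s • y) p := ⟨hxx, by rw [H.smul_left, hyx, mul_zero], by
      rw [H.smul_left, H.smul_right, hy]
      linear_combination hp⟩
    have cr : RootCond H x y r := ⟨hxx, hyx, by rw [hy]; linear_combination hr⟩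
    have hy' : H.h y w = 0 ∧ H.h y z = 0 := ⟨hyp 0, hyp 1⟩
    have h1 := hcomm _ (hrootG cp (by rw [H.smul_left, hy'.1, mul_zero]) (by rw [H.smul_left, hy'.2, mul_zero]))
      _ (hrootG cr hy'.1 hy'.2)
    rw [commutatorElement_def, root_inv, root_inv, root_mul, root_mul, root_mul] at h1
    convert h1 using 1
    refine root_congr c _ rfl (by abel) ?_
    simp only [H.add_right, H.neg_left, H.neg_right, H.smul_left, H.smul_right, hy, hs, map_mul, hl]
    rw [hs, map_mul, hl] at hp
    linear_combination -hp - hr - l * ht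
  let B : V → Prop := fun v => ∀ (l : F) (c : RootCond H x v l), root H x v l c ∈ A
  have hB0 : ∀ v l (c : RootCond H x v l), root H x v l c ∈ A → B v := by
    intro v l c h l' c'
    have c0 : RootCond H x 0 (l' - l) := ⟨c.1, H.zero_left x, by
      rw [H.zero_left, map_sub]; linear_combination c'.2.2 - c.2.2⟩
    have h2 := mul_mem h (htrans c0)
    rw [root_mul] at h2
    convert h2 using 1
    exact root_congr c' _ rfl (add_zero v).symm (by rw [H.zero_left]; ring)
  have hex : ∀ v, H.h v x = 0 → ∃ l, RootCond H x v l := fun v hv => by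
    obtain ⟨l, hl⟩ := H.exists_trace (c := -H.h v v) (by rw [map_neg, H.conj_diag])
    exact ⟨l, hxx, hv, by linear_combination hl⟩
  have hBadd : ∀ u v, B u → B v → H.h u x = 0 → H.h v x = 0 → B (u + v) := by
    intro u v hu hv ux vx
    obtain ⟨l, c⟩ := hex u ux
    obtain ⟨l', c'⟩ := hex v vx
    exact hB0 _ _ _ (root_mul c c' ▸ mul_mem (hu l c) (hv l' c'))
  have hBone : ∀ y, H.h y y = 1 → Y0 y → ∀ r : F, B (r • y) := by
    intro y hy hyY r
    obtain ⟨hyw, hyz, hya, hya'⟩ := hyY
    have hyx := hY0x y ⟨hyw, hyz, hya, hya'⟩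
    obtain ⟨y2, hy2, h2p⟩ := exists_norm_one_perp (H := H) ![w, z, a, a', y] ![w, z, a, a', y]
      (fun i => Submodule.subset_span ⟨i, rfl⟩)
      (nd_orth (fun i j => by
        fin_cases i <;> fin_cases j <;>
          simp [hw, hz, aa, a'a', hy, hzw, aw, az, a'w, a'z, a'a, hyw, hyz, hya, hya',
            H.h_comm_zero hzw, H.h_comm_zero aw, H.h_comm_zero az, H.h_comm_zero a'w,
            H.h_comm_zero a'z, H.h_comm_zero a'a, H.h_comm_zero hyw, H.h_comm_zero hyz,
            H.h_comm_zero hya, H.h_comm_zero hya']))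
      (by omega)
    obtain ⟨o, ho, ho1⟩ := H.exists_norm_one_ne_one
    have c1 : ShearCond H y (o - 1) := by
      unfold ShearCond
      rw [hy, map_sub, map_one]
      linear_combination ho
    have c2 : ShearCond H y2 (H.conj o - 1) := by
      unfold ShearCond
      rw [hy2, map_sub, map_one, H.conj_conj]
      linear_combination ho
    set k := shear H y2 _ c2 * shear H y _ c1 with hk
    have q0 : H.h y2 w = 0 := h2p 0
    have q1 : H.h y2 z = 0 := h2p 1
    have q2 : H.h y2 a = 0 := h2p 2
    have q3 : H.h y2 a' = 0 := h2p 3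
    have q4 : H.h y2 y = 0 := h2p 4
    have hkfix : ∀ u, H.h y u = 0 → H.h y2 u = 0 → k.1 u = u := fun u h1 h2 => by
      rw [hk, mul_apply, show (shear H y _ c1).1 u = u by
        rw [shear_apply, H.h_comm_zero h1, mul_zero, zero_smul, add_zero], shear_apply,
        H.h_comm_zero h2, mul_zero, zero_smul, add_zero]
    have hk4 : k ∈ fixS H {w, z, a, a'} := by
      refine ⟨Units.ext ?_, ?_⟩
      · rw [hk, map_mul, Units.val_mul, detHom_shear, detHom_shear, hy, hy2, Units.val_one]
        linear_combination ho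
      · rintro u (rfl | rfl | rfl | rfl)
        · exact hkfix _ hyw q0
        · exact hkfix _ hyz q1
        · exact hkfix _ hya q2
        · exact hkfix _ hya' q3
    have hx2 := hY0x y2 ⟨q0, q1, q2, q3⟩
    have hkx : k.1 x = x := hkfix _ hyx.1 hx2.1
    have hkG : k ∈ G := by
      refine ⟨hk4.1, ?_⟩
      intro u hu
      rcases hu with h | h | h <;> rw [h]
      · exact hkfix _ hyw q0
      · exact hkfix _ hyz q1
      · rw [show z' = x + μ • z by rw [hx]; abel, map_add, map_smul, hkx, hkfix _ hyz q1]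
    set s := r * (o - 1)⁻¹ with hs
    have hky : k.1 (s • y) = s • y + r • y := by
      have e1 : (shear H y _ c1).1 y = y + (o - 1) • y := by rw [shear_apply, hy, mul_one]
      have e2 : (shear H y2 _ c2).1 y = y := by
        rw [shear_apply, H.h_comm_zero q4, mul_zero, zero_smul, add_zero]
      rw [map_smul, hk, mul_apply, e1, map_add, map_smul, e2, hs, smul_add, smul_smul]
      congr 2
      field_simp [sub_ne_zero.2 ho1]
    have hsx : H.h (s • y) x = 0 := by rw [H.smul_left, hyx.1, mul_zero]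
    obtain ⟨l, c⟩ := hex _ hsx
    have h1 := hcomm k hkG _ (hrootG c (by rw [H.smul_left, hyw, mul_zero])
      (by rw [H.smul_left, hyz, mul_zero]))
    have ck : RootCond H x (k.1 (s • y)) l := by
      have := c.map k
      rwa [hkx] at this
    rw [commutatorElement_def, root_conj, root_inv, root_congr (c.map k) ck hkx rfl rfl, root_mul] at h1
    have hm : RootCond H x (r • y) (l + H.conj l - H.h (-(s • y)) (k.1 (s • y))) := by
      have := ck.add c.neg
      rwa [hky, show s • y + r • y + -(s • y) = r • y by abel, ← hky] at this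
    intro l' c'
    refine hB0 _ _ hm ?_ l' c'
    convert h1 using 1
    exact root_congr hm _ rfl (by rw [hky]; abel) rfl
  have hBY : ∀ v, Y0 v → B v := by
    intro v hv
    by_cases hvv : H.h v v = 0
    · obtain ⟨hvw, hvz, hva, hva'⟩ := hv
      obtain ⟨y, hy, hyp⟩ := exists_norm_one_perp (H := H) ![w, z, a, a', v] ![w, z, a, a']
        (fun i => Submodule.subset_span ⟨i.castSucc, by fin_cases i <;> rfl⟩)
        (nd_orth (fun i j => by
          fin_cases i <;> fin_cases j <;>
            simp [hw, hz, aa, a'a', hzw, aw, az, a'w, a'z, a'a, H.h_comm_zero hzw, H.h_comm_zero aw,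
              H.h_comm_zero az, H.h_comm_zero a'w, H.h_comm_zero a'z, H.h_comm_zero a'a]))
        (by omega)
      have y4 : H.h y v = 0 := hyp 4
      have hyY : Y0 y := ⟨hyp 0, hyp 1, hyp 2, hyp 3⟩
      have hvY : Y0 (v - y) := by
        refine ⟨?_, ?_, ?_, ?_⟩ <;>
          simp [H.sub_left, hvw, hvz, hva, hva', hyY.1, hyY.2.1, hyY.2.2.1, hyY.2.2.2]
      have h1 : H.h (v - y) (v - y) = 1 := by
        rw [H.sub_left, H.sub_right, H.sub_right, hvv, hy, y4, H.h_comm_zero y4]; ring
      have := hBadd _ _ (hBone _ h1 hvY 1) (hBone y hy hyY 1)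
        (by rw [one_smul]; exact (hY0x _ hvY).1) (by rw [one_smul]; exact (hY0x _ hyY).1)
      rwa [one_smul, one_smul, sub_add_cancel] at this
    · have h1 := fixed_two hF hq (H.conj_diag v) hvv
      have := hBone v h1 hv 1
      rwa [one_smul] at this
  -- decomposition
  have hgx : g.1 x = x := by rw [hx, map_sub, map_smul, hg.2 z' (by simp), hg.2 z (by simp)]
  set d := g.1 x' - x' with hd'
  set α := H.h d x' with hα
  set v := d - α • x with hv
  have dw : H.h d w = 0 := by
    rw [hd', H.sub_left]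
    nth_rewrite 1 [← hg.2 w (by simp)]
    rw [unit_h, sub_self]
  have dz : H.h d z = 0 := by
    rw [hd', H.sub_left]
    nth_rewrite 1 [← hg.2 z (by simp)]
    rw [unit_h, sub_self]
  have dx : H.h d x = 0 := by
    rw [hd', H.sub_left]
    nth_rewrite 1 [← hgx]
    rw [unit_h, sub_self]
  have vw : H.h v w = 0 := by rw [hv, H.sub_left, H.smul_left, dw, hxw]; ring
  have vz : H.h v z = 0 := by rw [hv, H.sub_left, H.smul_left, dz, hxz]; ring
  have vx : H.h v x = 0 := by rw [hv, H.sub_left, H.smul_left, dx, hxx]; ring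
  have vx' : H.h v x' = 0 := by rw [hv, H.sub_left, H.smul_left, H.h_comm_one x'x, hα]; ring
  have hgd : g.1 x' = x' + d := by rw [hd']; abel
  clear_value v α d
  have hc : RootCond H x v α := by
    refine ⟨hxx, vx, ?_⟩
    have e := unit_h g x' x'
    rw [hgd, H.add_left, H.add_right, H.add_right, x'x', ← hα, ← H.symm' d x', ← hα] at e
    have e2 : H.h v v = H.h d d := by
      rw [hv, H.sub_left, H.sub_right, H.sub_right, H.smul_left, H.smul_left, H.smul_right,
        H.smul_right, hxx, dx, H.h_comm_zero dx]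
      ring
    rw [e2]
    linear_combination e
  have hρ : root H x v α hc ∈ A := by
    refine hBY v ⟨vw, vz, ?_, ?_⟩ α hc
    · rw [ha, H.add_right, H.smul_right, vx', vx]; ring
    · rw [ha', H.add_right, H.smul_right, vx', vx]; ring
  have hρG := hrootG hc vw vz
  set k := (root H x v α hc)⁻¹ * g with hk
  have hkx' : k.1 x' = x' := by
    rw [hk, mul_apply, hgd]
    have : (root H x v α hc).1 x' = x' + d := by
      rw [root_apply, x'x, H.h_comm_zero vx', hv]
      module
    rw [← this, inv_apply_self]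
  have hkG : k ∈ G := mul_mem (inv_mem hρG) hg
  have hkx : k.1 x = x := by rw [hx, map_sub, map_smul, hkG.2 z' (by simp), hkG.2 z (by simp)]
  have hk4 : k ∈ A := by
    refine hY ⟨hkG.1, ?_⟩
    rintro u (rfl | rfl | rfl | rfl)
    · exact hkG.2 _ (by simp)
    · exact hkG.2 _ (by simp)
    · rw [ha, map_add, map_smul, hkx, hkx']
    · rw [ha', map_add, map_smul, hkx, hkx']
  have hgA : g ∈ A := by
    have := mul_mem hρ hk4
    rwa [hk, mul_inv_cancel_left] at this
  obtain ⟨y, ⟨h1, h2⟩, e⟩ := hgA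
  exact ⟨y, h1, h2, e⟩

section Sub

variable {n : ℕ} {T : (Fin n → F) →ₗ[F] V} {φ : Unit' (stdHerm hF n) →* Unit' H} {w : V}
  {σ : lift f {w} →* Unit' (stdHerm hF n)}

theorem phi_injective (hTi : Function.Injective T) (hφT : ∀ g x, (φ g).1 (T x) = T (g.1 x)) :
    Function.Injective φ := fun g g' e => unit_ext fun x => hTi (by rw [← hφT, ← hφT, e])

/-- A lifted fixer below is a lifted fixer of the extension one dimension below. -/
theorem mem_lift_sub (E : Ext f ℓ) (hperf : Perf H {w}) (hTi : Function.Injective T)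
    (hφT : ∀ g x, (φ g).1 (T x) = T (g.1 x)) (hφ : (SG (stdHerm hF n)).map φ = fixS H {w})
    (hσ : ∀ x, φ (σ x) = f x.1) {U : Set (Fin n → F)} {x : Γ} (hx : x ∈ lift f (insert w (T '' U))) :
    ∃ h : x ∈ lift f {w}, (⟨x, h⟩ : lift f {w}) ∈ lift σ U := by
  have key : lift f (insert w (T '' U)) ≤ (lift σ U).map (lift f {w}).subtype := by
    conv_lhs => rw [lift]
    rw [commutator_le]
    intro a ha b hb
    have hpre : ∀ c ∈ pre f (insert w (T '' U)),
        ∃ c' : lift f {w}, c' ∈ pre σ U ∧ f c'.1 = f c := by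
      intro c hc
      obtain ⟨c', hc', e⟩ := E.exists_lift hperf (fixS_mono (by simp) (mem_pre.1 hc))
      refine ⟨⟨c', hc'⟩, ?_, e⟩
      obtain ⟨g, hg, eg⟩ : f c ∈ (fixS (stdHerm hF n) U).map φ := by
        rw [← fixS_insert hF hTi hφT hφ U]; exact hc
      have : σ ⟨c', hc'⟩ = g := phi_injective hF hTi hφT (by rw [hσ]; exact e.trans eg.symm)
      rw [mem_pre, this]
      exact hg
    obtain ⟨a', ha', ea⟩ := hpre a ha
    obtain ⟨b', hb', eb⟩ := hpre b hb
    exact ⟨⁅a', b'⁆, commutator_mem_commutator ha' hb',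
      (map_commutatorElement _ _ _).trans (comm_congr E.central ea eb)⟩
  obtain ⟨y, hy, rfl⟩ := key hx
  exact ⟨y.2, hy⟩

end Sub

theorem noExt_seven {ℓ : ℕ} (h5 : NoExt (stdHerm hF 5) ℓ) : NoExt (stdHerm hF 7) ℓ := by
  intro Γ _ _ f E
  have hq := conjQ_std hF 7
  have hd : finrank F (Fin 7 → F) = 7 := Module.finrank_fin_fun F
  have hpair : ∀ w z, (stdHerm hF 7).h w w = 1 → (stdHerm hF 7).h z z = 1 → (stdHerm hF 7).h z w = 0 → Split f {w, z} := by
    intro w z hw hz hzw g hg hg1
    by_contra hne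
    have hg' : g ∈ lift f {w} := lift_mono (by simp) hg
    obtain ⟨T, φ, σ, hT, hTi, -, hr, hφT, hφ, hE, hσ⟩ :=
      exists_sub_ext hF hq (n := 6) hd (by norm_num) (by omega) hw E hg' hg1 hne
    obtain ⟨z', rfl⟩ := hr z hzw
    obtain ⟨h, hmem⟩ := mem_lift_sub hF (U := {z'}) E (perf_single hF hq (n := 6) hd (by norm_num)
      (by omega) hw) hTi hφT hφ hσ (by rwa [Set.image_singleton])
    have hs := split_single hF (conjQ_std hF 6) (Module.finrank_fin_fun F) (by norm_num) (by omega) h5
      (show (stdHerm hF 6).h z' z' = 1 by rw [← hT]; exact hz) hE _ hmem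
      (phi_injective hF hTi hφT (by rw [hσ, map_one]; exact hg1))
    exact hne (congrArg Subtype.val hs)
  refine false_of_split hF (n := 7) (by norm_num) (fun _ => le_rfl) E fun w hw => ?_
  intro g hg hg1
  by_contra hne
  obtain ⟨T, φ, σ, hT, hTi, hTw, -, hφT, hφ, hE, hσ⟩ :=
    exists_sub_ext hF hq (n := 6) hd (by norm_num) (by omega) hw E hg hg1 hne
  have hperf := perf_single hF hq (n := 6) hd (by norm_num) (by omega) hw
  have hd6 : finrank F (Fin 6 → F) = 6 := Module.finrank_fin_fun F
  have hnd : ∀ z z', (stdHerm hF 6).h z z = 1 →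
      (z' - (stdHerm hF 6).h z' z • z = 0 ∨ (stdHerm hF 6).h (z' - (stdHerm hF 6).h z' z • z)
        (z' - (stdHerm hF 6).h z' z • z) ≠ 0) → Linked σ z z' := fun z z' hz h =>
    linked_of_nondeg hE (conjQ_std hF 6) (n := 4) hd6 (by norm_num) (by omega) hz h
  have hlinked : ∀ z z', (stdHerm hF 6).h z z = 1 → (stdHerm hF 6).h z' z' = 1 → Linked σ z z' := by
    intro z z' hz hz'
    by_cases hdeg : z' - (stdHerm hF 6).h z' z • z = 0 ∨ (stdHerm hF 6).h (z' - (stdHerm hF 6).h z' z • z)
        (z' - (stdHerm hF 6).h z' z • z) ≠ 0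
    · exact hnd z z' hz hdeg
    push Not at hdeg
    intro g6 hg6
    have hTd : T (z' - (stdHerm hF 6).h z' z • z) = T z' - (stdHerm hF 7).h (T z') (T z) • T z := by
      rw [map_sub, map_smul, hT]
    have h1 : φ g6 ∈ fixS (stdHerm hF 7) {w, T z, T z'} := by
      have := Subgroup.mem_map_of_mem φ hg6
      rw [← fixS_insert hF hTi hφT hφ {z, z'}, Set.image_pair] at this
      exact this
    obtain ⟨y, hy1, hy2, e⟩ := exists_common_lift hF hq hd E hpair hw (by rw [hT]; exact hz)
      (by rw [hT]; exact hz') (hTw z) (hTw z')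
      (by rw [← hTd]; exact fun h0 => hdeg.1 (hTi (h0.trans (map_zero T).symm)))
      (by rw [← hTd, hT]; exact hdeg.2) h1
    obtain ⟨m1, n1⟩ := mem_lift_sub hF (U := {z}) E hperf hTi hφT hφ hσ (by rwa [Set.image_singleton])
    obtain ⟨m2, n2⟩ := mem_lift_sub hF (U := {z'}) E hperf hTi hφT hφ hσ (by rwa [Set.image_singleton])
    exact ⟨⟨y, m1⟩, n1, n2, phi_injective hF hTi hφT (by rw [hσ]; exact e)⟩
  refine (coreData_of_conn hF (n := 6) (by norm_num) hE
    (fun z hz => split_single hF (conjQ_std hF 6) hd6 (by norm_num) (by omega) h5 hz hE)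
    (fun z z' hz hz' _ => hlinked z z' hz hz') fun a b z z' hz hz' p1 p2 p3 p4 _ => ?_).false_of_core
  exact Relation.ReflTransGen.single
    ⟨adj_of_linked (by omega) hz (hlinked z z' hz hz'), hz, hz', p1, p2, p3, p4⟩

end CfsgLib.PSUCover
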