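import Cfsg.Agent.Lib.PSUCover.Four
import Cfsg.Agent.Lib.PSUCover.Seven

/-!
Dimension five, and the induction on the dimension, for kernels of order different from the
characteristic.
-/

set_option autoImplicit false
set_option linter.unusedSectionVars false

namespace CfsgLib.PSUCover

open Module CfsgLib.Classical.Herm HermSpace Subgroup

universe u

variable {F : Type u} [Field F] [Fintype F] {q : ℕ} (hF : Fintype.card F = q ^ 2)
  {p : ℕ} [Fact p.Prime] [CharP F p]

/-- The prime `ℓ` differs from the characteristic. -/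
theorem noExt_five_ne {ℓ : ℕ} (hne : ℓ ≠ p) : NoExt (stdHerm hF 5) ℓ := by
  intro Γ _ _ f E
  by_cases hq : 3 ≤ q
  · exact noExt_step hF le_rfl (fun h => by omega) (noExt_four_ne hF hq hne) Γ f E
  have hq1 : 1 < q := by
    rcases Nat.lt_or_ge 1 q with h | h
    · exact h
    have h1 : 1 < Fintype.card F := Fintype.one_lt_card
    rw [hF] at h1
    exact absurd h1 (not_lt.2 (pow_le_one₀ (Nat.zero_le q) h))
  obtain rfl : q = 2 := by omega
  have hℓ2 : ℓ ≠ 2 := fun h => not_dvd_of_ne hF E.prime hne (h ▸ dvd_rfl)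
  have hc : Nat.card (SG (stdHerm hF 5)) = 2 ^ 10 * 3 ^ 5 * 55 :=
    (card_SG_five hF).trans (by norm_num)
  by_cases h3 : ℓ = 3
  · subst h3
    refine false_mono hF (k := 2) (by norm_num) (m := 2 ^ 10 * 55) (by norm_num) E ?_
    show Nat.card (SG (stdHerm hF 5)) ∣ _
    rw [hc]
    norm_num
  refine false_of_sq_not_dvd hF E fun h => ?_
  rw [hc] at h
  have hco : Nat.Coprime (ℓ ^ 2) (2 ^ 10 * 3 ^ 5) := Nat.Coprime.mul_right
    (((Nat.coprime_primes E.prime Nat.prime_two).2 hℓ2).pow 2 10)
    (((Nat.coprime_primes E.prime Nat.prime_three).2 h3).pow 2 5)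
  have h55 := hco.dvd_of_dvd_mul_left h
  have hle : ℓ ^ 2 ≤ 55 := Nat.le_of_dvd (by norm_num) h55
  have hb : ℓ ≤ 7 := by nlinarith
  have := E.prime.two_le
  interval_cases ℓ <;> norm_num at h55

/-- Induction from dimension five; `(n, q) = (6, 2)` is left out. -/
theorem noExt_of_five {ℓ : ℕ} (h5 : NoExt (stdHerm hF 5) ℓ) {n : ℕ} (hn : 5 ≤ n)
    (h62 : ¬ (n = 6 ∧ q = 2)) : NoExt (stdHerm hF n) ℓ := by
  induction n, hn using Nat.le_induction with
  | base => exact h5
  | succ m hm ih =>
    by_cases h : m = 6 ∧ q = 2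
    · obtain ⟨rfl, rfl⟩ := h
      exact noExt_seven hF h5
    · exact noExt_step hF (by omega) (fun hq => by
        by_contra hlt
        have : m = 5 ∨ m = 6 := by omega
        rcases this with rfl | rfl
        · exact h62 ⟨rfl, hq⟩
        · exact h ⟨rfl, hq⟩) (ih h)

end CfsgLib.PSUCover
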