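import Cfsg.Agent.Lib.PSUCover.Geom

/-!
The induction step: from split fixers of vectors of norm one to the absence of central extensions.
-/

set_option autoImplicit false
set_option linter.unusedSectionVars false

namespace CfsgLib.PSUCover

open Module CfsgLib.Classical.Herm HermSpace Subgroup

universe u

variable {F : Type u} [Field F] [Fintype F] {q : ℕ} (hF : Fintype.card F = q ^ 2)

theorem conjQ_std (n : ℕ) : ConjQ (stdHerm hF n) hF := fun _ => rfl

theorem single_norm (n : ℕ) (i : Fin n) : (stdHerm hF n).h (Pi.single i 1) (Pi.single i 1) = 1 := by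
  rw [stdHerm_h, Cfsg.hermForm, Finset.sum_eq_single i (fun j _ hj => by simp [hj]) (by simp)]
  simp

/-- The covering data for the standard space. -/
theorem coreData_of_conn {n : ℕ} (hn : 5 ≤ n) {Γ : Type u} [Group Γ]
    {f : Γ →* Unit' (stdHerm hF n)} {ℓ : ℕ} (E : Ext f ℓ)
    (hsplit : ∀ w, (stdHerm hF n).h w w = 1 → Split f {w})
    (horth : ∀ w z, (stdHerm hF n).h w w = 1 → (stdHerm hF n).h z z = 1 →
      (stdHerm hF n).h z w = 0 → Linked f w z)
    (hconn : ∀ a b w w', (stdHerm hF n).h w w = 1 → (stdHerm hF n).h w' w' = 1 →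
      (stdHerm hF n).h w a = 0 → (stdHerm hF n).h w b = 0 →
      (stdHerm hF n).h w' a = 0 → (stdHerm hF n).h w' b = 0 →
      (((stdHerm hF n).h a a = 1 ∧ (stdHerm hF n).h b b = 1) ∨
        (a = b ∧ a ≠ 0 ∧ (stdHerm hF n).h a a = 0)) → Chain f a b w w') :
    CoreData f ℓ := by
  set H := stdHerm hF n
  have hdim : finrank F (Fin n → F) = n := Module.finrank_fin_fun F
  obtain ⟨m, rfl⟩ : ∃ m, n = m + 1 := ⟨n - 1, by omega⟩
  refine
    { ext := E
      perf := fun w hw => perf_single hF (conjQ_std hF _) hdim (by omega) (by omega) hw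
      split := hsplit
      orth := horth
      conn := hconn
      exists_perp := fun a b ha _ => exists_perp_two (by omega) b ha
      exists_perp₃ := fun a b r ha _ hr hra => ?_
      move := fun w a b hw ha hb haw hbw => ?_
      gen := ?_
      exists_one := ⟨_, single_norm hF _ 0⟩ }
  · obtain ⟨w, hw, w1, w2, w3⟩ := exists_perp_three (H := H) (by omega) (a := a) (b := r) b
      (by rw [ha, hr, one_mul, zero_sub, neg_ne_zero]
          exact mul_ne_zero (fun h0 => hra (H.h_comm_zero h0)) hra)
    exact ⟨w, hw, w1, w3, w2⟩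
  · obtain ⟨y, hy, yw, yb⟩ := exists_perp_two (H := H) (by omega) b hw
    refine exists_move ha hb hy ?_ ?_ ?_ (H.h_comm_zero yb) <;> rintro u rfl
    · exact H.h_comm_zero haw
    · exact H.h_comm_zero hbw
    · exact H.h_comm_zero yw
  · obtain ⟨e, f', p⟩ := exists_pair_std hF (n := m + 1) (by omega)
    rw [closure_transvectionSet (big_std hF (by omega))
      (perfectable_std hF (by omega) (by omega)) p]
    exact rootGen_std hF (by omega)

/-- The covering argument with connectivity by non-degenerate planes. -/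
theorem false_of_split {n : ℕ} (hn : 5 ≤ n) (hq2 : q = 2 → 7 ≤ n) {Γ : Type u} [Group Γ] [Finite Γ]
    {f : Γ →* Unit' (stdHerm hF n)} {ℓ : ℕ} (E : Ext f ℓ)
    (hsplit : ∀ w, (stdHerm hF n).h w w = 1 → Split f {w}) : False := by
  obtain ⟨m, rfl⟩ : ∃ m, n = m + 2 := ⟨n - 2, by omega⟩
  have hdim : finrank F (Fin (m + 2) → F) = m + 2 := Module.finrank_fin_fun F
  refine (coreData_of_conn hF hn E hsplit (fun w z hw hz hzw => ?_)
    fun a b w w' hw hw' p1 p2 p3 p4 hab => ?_).false_of_core
  · refine linked_of_nondeg E (conjQ_std hF _) hdim (by omega)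
      (fun h => by have := hq2 h.2; omega) hw (Or.inr ?_)
    rw [hzw, zero_smul, sub_zero, hz]
    exact one_ne_zero
  · exact chain_of_large E (conjQ_std hF _) hdim (by omega) (fun h => by have := hq2 h; omega)
      hw hw' p1 p2 p3 p4 hab

/-- The induction step. -/
theorem noExt_step {n ℓ : ℕ} (hn : 4 ≤ n) (hq2 : q = 2 → 7 ≤ n)
    (h : NoExt (stdHerm hF n) ℓ) : NoExt (stdHerm hF (n + 1)) ℓ := by
  intro Γ _ _ f E
  exact false_of_split hF (by omega) (fun e => by have := hq2 e; omega) E fun w hw =>
    split_single hF (conjQ_std hF _) (Module.finrank_fin_fun F) (by omega) (by omega) h hw E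

end CfsgLib.PSUCover
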