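import Cfsg.Agent.Lib.PSUCover.Blocks
import Cfsg.Agent.Lib.PSUCover.Step

/-!
Dimension four: kernels of order different from the characteristic.
-/

set_option autoImplicit false
set_option linter.unusedSectionVars false
set_option linter.style.haveILetI false

namespace CfsgLib.PSUCover

open Module CfsgLib.Classical.Herm HermSpace Subgroup
open scoped commutatorElement

universe u

variable {F : Type u} [Field F] [Fintype F] {q : ℕ} (hF : Fintype.card F = q ^ 2)
  {p : ℕ} [Fact p.Prime] [CharP F p]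

theorem card_pairs_image :
    Nat.card ((pairs hF).map (blk hF)) =
      Nat.card (Unit' (stdHerm hF 2)) * Nat.card (SG (stdHerm hF 2)) := by
  rw [← card_pairs hF]
  exact Nat.card_congr (Subgroup.equivMapOfInjective _ _ (blk_injective hF)).toEquiv.symm

theorem pairs_image_le : (pairs hF).map (blk hF) ≤ SG (stdHerm hF 4) := by
  rintro _ ⟨x, hx, rfl⟩
  exact hx

variable {ℓ : ℕ} {Γ : Type u} [Group Γ] [Finite Γ] {f : Γ →* Unit' (stdHerm hF 4)}

/-- The stabiliser of the two planes as a source of contradiction. -/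
theorem false_of_pairs (E : Ext f ℓ) (hpl : p ≠ ℓ) {m : ℕ} (hm : ¬ ℓ ∣ m)
    (hcard : Nat.card (SG (stdHerm hF 4)) ∣
      m * (Nat.card (Unit' (stdHerm hF 2)) * Nat.card (SG (stdHerm hF 2)))) : False := by
  obtain ⟨L, δ, τ, hLs, hτ, hfL, hD, -, hgen⟩ := exists_block_lift hF E hpl
  refine E.false_of_sub (pairs_image_le hF) hm (by rwa [card_pairs_image]) fun z hz hz1 => ?_
  refine hLs z (commutator_closure_le ?_ ?_ (commutator_mono hgen hgen hz)) hz1
  all_goals
    have hn : ∀ s ∈ (L : Set Γ) ∪ {τ} ∪ (f.ker : Set Γ), ∀ x ∈ L, s * x * s⁻¹ ∈ L := by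
      rintro s ((hs | rfl) | hs) x hx
      · exact mul_mem (mul_mem hs hx) (inv_mem hs)
      · refine hD _ ⟨_, ?_, hτ⟩ x hx
        rw [mem_pairs, detHom_sec2, detHom_sec2, ← Subgroup.coe_mul, mul_inv_cancel, Subgroup.coe_one]
      · rw [← mem_center_iff.1 (E.central hs) x, mul_inv_cancel_right]; exact hx
  · exact hn
  · have h1 : ∀ x ∈ L, ∀ s ∈ (L : Set Γ) ∪ {τ} ∪ (f.ker : Set Γ), ⁅x, s⁆ ∈ L ∧ ⁅s, x⁆ ∈ L := by
      intro x hx s hs
      constructor
      · rw [show ⁅x, s⁆ = x * (s * x * s⁻¹)⁻¹ by simp [commutatorElement_def, mul_assoc]]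
        exact mul_mem hx (inv_mem (hn s hs x hx))
      · rw [show ⁅s, x⁆ = (s * x * s⁻¹) * x⁻¹ by simp [commutatorElement_def, mul_assoc]]
        exact mul_mem (hn s hs x hx) (inv_mem hx)
    intro s hs u hu
    rcases hs with (hs' | hs') | hs'
    · exact (h1 s hs' u hu).1
    · rcases hu with (hu' | hu') | hu'
      · exact (h1 u hu' s (Or.inl (Or.inr hs'))).2
      · rw [hs', hu', commutatorElement_self]; exact one_mem _
      · rw [commutatorElement_eq_one_iff_mul_comm.2 (mem_center_iff.1 (E.central hu') s)]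
        exact one_mem _
    · rw [commutatorElement_eq_one_iff_mul_comm.2 (mem_center_iff.1 (E.central hs') u).symm]
      exact one_mem _

set_option maxHeartbeats 400000 in
/-- The stabiliser of the unordered pair of planes, for the prime two. -/
theorem false_of_flip {f : Γ →* Unit' (stdHerm hF 4)} (E : Ext f 2) (hp2 : p ≠ 2) (hq : 3 ≤ q)
    (h3 : NoExt (stdHerm hF 3) 2) {m : ℕ} (hm : ¬ 2 ∣ m)
    (hcard : Nat.card (SG (stdHerm hF 4)) ∣
      m * (2 * (Nat.card (Unit' (stdHerm hF 2)) * Nat.card (SG (stdHerm hF 2))))) : False := by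
  classical
  obtain ⟨L, δ, τ, hLs, hτ, hfL, hD, hW, hgen⟩ := exists_block_lift hF E hp2
  set D := (pairs hF).map (blk hF) with hDdef
  set W := flip4 hF with hWdef
  set K := D ⊔ zpowers W with hKdef
  have hKS : K ≤ SG (stdHerm hF 4) := sup_le (pairs_image_le hF) (zpowers_le.2 (flip4_mem hF))
  have hswap : ∀ x ∈ pairs hF, x.swap ∈ pairs hF := fun x hx => by
    rw [mem_pairs] at hx ⊢
    rwa [Prod.fst_swap, Prod.snd_swap, mul_comm]
  have hWn : ∀ d ∈ D, W * d * W⁻¹ ∈ D := by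
    rintro _ ⟨x, hx, rfl⟩
    exact ⟨x.swap, hswap x hx, (flip4_conj hF x).symm⟩
  have hWi : W⁻¹ = W := inv_eq_of_mul_eq_one_right (flip4_sq hF)
  haveI : Finite (SG (stdHerm hF 4)) := by
    rw [← E.range_eq]
    exact Finite.of_surjective f.rangeRestrict f.rangeRestrict_surjective
  haveI : Finite K := Finite.of_injective _ (Subgroup.inclusion_injective hKS)
  have hdvd : 2 * (Nat.card (Unit' (stdHerm hF 2)) * Nat.card (SG (stdHerm hF 2))) ∣ Nat.card K := by
    haveI hDn : (D.subgroupOf K).Normal := by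
      refine Subgroup.normal_subgroupOf_of_le_normalizer (sup_le le_normalizer
        (zpowers_le.2 (mem_normalizer_iff.2 fun d => ⟨hWn d, fun hd => ?_⟩)))
      have h1 := hWn _ hd
      rwa [show W * (W * d * W⁻¹) * W⁻¹ = (W * W) * d * (W * W)⁻¹ by group, flip4_sq, one_mul, inv_one,
        mul_one] at h1
    have hne : (QuotientGroup.mk' (D.subgroupOf K)) ⟨W, mem_sup_right (mem_zpowers W)⟩ ≠ 1 := by
      intro h
      obtain ⟨x, -, hx⟩ : W ∈ D := mem_subgroupOf.1 ((QuotientGroup.eq_one_iff _).1 h)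
      have h2 := congrArg (fun g : Unit' (stdHerm hF 4) => g.1 (pairEquiv (![1, 0], 0)) 0) hx
      simp only [blk_apply, hWdef, flip4_apply, map_zero] at h2
      simp only [pairEquiv, LinearEquiv.coe_mk, LinearMap.coe_mk, AddHom.coe_mk, Matrix.cons_val_zero] at h2
      have h4 := congrArg (fun g : Unit' (stdHerm hF 4) => g.1 (pairEquiv (![1, 0], 0))) hx
      simp only [blk_apply, hWdef, flip4_apply] at h4
      have h5 := congrArg Prod.fst (pairEquiv.injective h4)
      have h6 := x.1.1.map_eq_zero_iff.1 h5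
      exact one_ne_zero (congrFun h6 0)
    have h2i : 2 ∣ Nat.card (K ⧸ D.subgroupOf K) := by
      haveI : Fact (Nat.Prime 2) := ⟨Nat.prime_two⟩
      rw [← orderOf_eq_prime (p := 2) (x := (QuotientGroup.mk' (D.subgroupOf K))
        ⟨W, mem_sup_right (mem_zpowers W)⟩) ?_ hne]
      · exact orderOf_dvd_natCard _
      · rw [← map_pow, show (⟨W, mem_sup_right (mem_zpowers W)⟩ : K) ^ 2 = 1 from
          Subtype.ext (by rw [Subgroup.coe_pow, pow_two]; exact flip4_sq hF), map_one]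
    rw [Subgroup.card_eq_card_quotient_mul_card_subgroup (D.subgroupOf K),
      Nat.card_congr (subgroupOfEquivOfLe (le_sup_left : D ≤ K)).toEquiv, card_pairs_image]
    exact Nat.mul_dvd_mul_right h2i _
  refine E.false_of_sub hKS hm (hcard.trans (Nat.mul_dvd_mul_left m hdvd)) fun z hz hz1 => ?_
  obtain ⟨ω, hω⟩ : W ∈ f.range := E.range_eq ▸ flip4_mem hF
  -- generators of the preimage
  set S : Set Γ := (L : Set Γ) ∪ {τ} ∪ {ω} ∪ (f.ker : Set Γ) with hS
  have hgen' : K.comap f ≤ closure S := by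
    have hle : K ≤ (closure S).map f := by
      refine sup_le (fun d hd => ?_) (zpowers_le.2 ⟨ω, Subgroup.subset_closure (by simp [hS]), hω⟩)
      obtain ⟨a, rfl⟩ : d ∈ f.range := E.range_eq ▸ pairs_image_le hF hd
      refine mem_map_of_mem _ ((Subgroup.closure_mono ?_) (hgen hd))
      intro y hy
      rcases hy with (hy | hy) | hy
      · exact Or.inl (Or.inl (Or.inl hy))
      · exact Or.inl (Or.inl (Or.inr hy))
      · exact Or.inr hy
    intro a ha
    obtain ⟨b, hb, hbe⟩ := hle ha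
    have hk : b⁻¹ * a ∈ f.ker := by rw [MonoidHom.mem_ker, map_mul, map_inv, hbe, inv_mul_cancel]
    have := mul_mem hb (Subgroup.subset_closure (k := S) (Or.inr hk))
    rwa [mul_inv_cancel_left] at this
  set s := sec2 hF δ with hs
  have hsi : sec2 hF δ⁻¹ = s⁻¹ := map_inv _ _
  rw [hsi] at hτ
  have hsp : (s, s⁻¹) ∈ pairs hF := by
    rw [mem_pairs, map_inv, mul_inv_cancel]
  obtain ⟨z0, hz0, e0⟩ : ∃ z0 ∈ f.ker, ω * τ⁻¹ * ω⁻¹ = τ * z0 := by
    refine ⟨τ⁻¹ * (ω * τ⁻¹ * ω⁻¹), ?_, (mul_inv_cancel_left _ _).symm⟩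
    rw [MonoidHom.mem_ker, map_mul, map_inv, map_mul, map_mul, map_inv, map_inv, hω, hτ,
      ← map_inv (blk hF), hWdef, flip4_conj, ← map_mul (blk hF)]
    refine (congrArg (blk hF) ?_).trans (map_one _)
    simp [Prod.ext_iff]
  have hz0c : ∀ g, g * z0 = z0 * g := mem_center_iff.1 (E.central hz0)
  set c := ⁅τ, ω⁆ with hc
  have hce : c = τ * τ * z0 := by
    rw [hc, commutatorElement_def, show τ * ω * τ⁻¹ * ω⁻¹ = τ * (ω * τ⁻¹ * ω⁻¹) by group, e0, mul_assoc]
  have hcτ : τ * c * τ⁻¹ = c := by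
    rw [hce, show τ * (τ * τ * z0) * τ⁻¹ = τ * τ * (τ * z0) * τ⁻¹ by group, hz0c τ]
    group
  have hcω : ω * c * ω⁻¹ = c⁻¹ := by
    have e1 : ω * τ * ω⁻¹ = (τ * z0)⁻¹ := by rw [← e0]; group
    rw [hce, show ω * (τ * τ * z0) * ω⁻¹ = (ω * τ * ω⁻¹) * (ω * τ * ω⁻¹) * (ω * z0 * ω⁻¹) by group,
      e1, hz0c ω, mul_inv_cancel_right, mul_inv_rev,
      show z0⁻¹ * τ⁻¹ * (z0⁻¹ * τ⁻¹) * z0 = z0⁻¹ * τ⁻¹ * z0⁻¹ * (τ⁻¹ * z0) by group, hz0c τ⁻¹]
    group
  have hfc : f c = blk hF (s * s, s⁻¹ * s⁻¹) := by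
    rw [hce, map_mul, map_mul, hτ, MonoidHom.mem_ker.1 hz0, mul_one, ← map_mul (blk hF), Prod.mk_mul_mk]
  have hcp : (s * s, s⁻¹ * s⁻¹) ∈ pairs hF := by
    rw [← Prod.mk_mul_mk]
    exact mul_mem hsp hsp
  have hcn : ∀ i : ℤ, ∀ x ∈ L, c ^ i * x * (c ^ i)⁻¹ ∈ L := fun i =>
    hD _ ⟨_, zpow_mem hcp i, by rw [map_zpow, hfc, map_zpow]⟩
  let L' : Subgroup Γ :=
    { carrier := {y | ∃ x ∈ L, ∃ i : ℤ, y = x * c ^ i}
      one_mem' := ⟨1, one_mem _, 0, by simp⟩
      mul_mem' := by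
        rintro _ _ ⟨x, hx, i, rfl⟩ ⟨y, hy, j, rfl⟩
        exact ⟨x * (c ^ i * y * (c ^ i)⁻¹), mul_mem hx (hcn i y hy), i + j, by rw [zpow_add]; group⟩
      inv_mem' := by
        rintro _ ⟨x, hx, i, rfl⟩
        refine ⟨c ^ (-i) * x⁻¹ * (c ^ (-i))⁻¹, hcn _ _ (inv_mem hx), -i, ?_⟩
        group }
  have hLL : ∀ x ∈ L, x ∈ L' := fun x hx => ⟨x, hx, 0, by simp⟩
  have hcL : ∀ i : ℤ, c ^ i ∈ L' := fun i => ⟨1, one_mem _, i, (one_mul _).symm⟩
  have hτn : ∀ x ∈ L, τ * x * τ⁻¹ ∈ L := hD τ ⟨_, hsp, hτ⟩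
  have hωn : ∀ x ∈ L, ω * x * ω⁻¹ ∈ L := hW ω hω
  obtain ⟨x, hx, i, rfl⟩ : z ∈ L' := by
    refine commutator_closure_le ?_ ?_ (commutator_mono hgen' hgen' hz)
    · rintro g (((hg | rfl) | rfl) | hg) _ ⟨x, hx, i, rfl⟩
      · exact mul_mem (mul_mem (hLL g hg) ⟨x, hx, i, rfl⟩) (inv_mem (hLL g hg))
      · rw [show g * (x * c ^ i) * g⁻¹ = (g * x * g⁻¹) * (g * c ^ i * g⁻¹) by group, ← conj_zpow, hcτ]
        exact mul_mem (hLL _ (hτn x hx)) (hcL i)
      · rw [show g * (x * c ^ i) * g⁻¹ = (g * x * g⁻¹) * (g * c ^ i * g⁻¹) by group, ← conj_zpow, hcω]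
        exact mul_mem (hLL _ (hωn x hx)) (by rw [inv_zpow]; exact inv_mem (hcL i))
      · rw [← mem_center_iff.1 (E.central hg) _, mul_inv_cancel_right]; exact ⟨x, hx, i, rfl⟩
    · have h1 : ∀ x ∈ L, ∀ g ∈ S, ⁅x, g⁆ ∈ L' ∧ ⁅g, x⁆ ∈ L' := by
        intro x hx g hg
        have hn : g * x * g⁻¹ ∈ L := by
          rcases hg with ((hg | rfl) | rfl) | hg
          · exact mul_mem (mul_mem hg hx) (inv_mem hg)
          · exact hτn x hx
          · exact hωn x hx
          · rw [← mem_center_iff.1 (E.central hg) x, mul_inv_cancel_right]; exact hx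
        constructor
        · rw [show ⁅x, g⁆ = x * (g * x * g⁻¹)⁻¹ by simp [commutatorElement_def, mul_assoc]]
          exact hLL _ (mul_mem hx (inv_mem hn))
        · rw [show ⁅g, x⁆ = (g * x * g⁻¹) * x⁻¹ by simp [commutatorElement_def, mul_assoc]]
          exact hLL _ (mul_mem hn (inv_mem hx))
      intro a ha b hb
      rcases ha with ((ha' | ha') | ha') | ha'
      · exact (h1 a ha' b hb).1
      all_goals rcases hb with ((hb' | hb') | hb') | hb'
      all_goals first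
        | exact (h1 b hb' a (Or.inl (Or.inl (Or.inr ha')))).2
        | exact (h1 b hb' a (Or.inl (Or.inr ha'))).2
        | exact (h1 b hb' a (Or.inr ha')).2
        | (rw [Set.mem_singleton_iff.1 ha', Set.mem_singleton_iff.1 hb', commutatorElement_self]; exact one_mem _)
        | (rw [Set.mem_singleton_iff.1 ha', Set.mem_singleton_iff.1 hb', ← hc]
           simpa only [zpow_one] using hcL 1)
        | (rw [Set.mem_singleton_iff.1 ha', Set.mem_singleton_iff.1 hb', ← commutatorElement_inv, ← hc]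
           exact inv_mem (by simpa only [zpow_one] using hcL 1))
        | (rw [commutatorElement_eq_one_iff_mul_comm.2 (mem_center_iff.1 (E.central hb') a)];
           exact one_mem _)
        | (rw [commutatorElement_eq_one_iff_mul_comm.2 (mem_center_iff.1 (E.central ha') b).symm];
           exact one_mem _)
  suffices hci : c ^ i = 1 by rw [hci, mul_one] at hz1 ⊢; exact hLs x hx hz1
  have hci' : c ^ i = ⁅τ ^ i, ω⁆ := by
    rw [commutatorElement_def, show τ ^ i * ω * (τ ^ i)⁻¹ * ω⁻¹ = τ ^ i * (ω * τ⁻¹ * ω⁻¹) ^ i by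
      rw [conj_zpow, inv_zpow]; group, e0, (show Commute τ z0 from hz0c τ).mul_zpow, hce,
      (show Commute (τ * τ) z0 from hz0c _).mul_zpow, (Commute.refl τ).mul_zpow, mul_assoc]
  -- the square of the determinant
  have hsq : (((δ ^ i : normOne F q) : Fˣ) : F) * (((δ ^ i : normOne F q) : Fˣ) : F) = 1 := by
    obtain ⟨a, b, ha, -, hab⟩ := hfL x hx
    rw [map_mul, map_zpow, hab, hfc, ← map_zpow (blk hF), ← map_mul (blk hF)] at hz1
    have h := congrArg Prod.fst (blk_injective hF (hz1.trans (map_one _).symm))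
    have h' := congrArg (detHom (stdHerm hF 2)) h
    simp only [Prod.fst_mul, Prod.fst_one, map_one, map_mul] at h'
    rw [show detHom _ a = 1 from ha, one_mul, show ((s * s, s⁻¹ * s⁻¹) ^ i).1 = (s * s) ^ i from rfl,
      map_zpow, map_mul, hs, detHom_sec2, mul_zpow, ← SubgroupClass.coe_zpow] at h'
    rw [← Units.val_mul, h', Units.val_one]
  have hτi : f (τ ^ i) = blk hF (sec2 hF (δ ^ i), (sec2 hF (δ ^ i))⁻¹) := by
    rw [map_zpow, hτ, ← map_zpow (blk hF), hs]
    refine congrArg (blk hF) (Prod.ext ?_ ?_) <;> simp [inv_zpow]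
  rw [hci']
  rcases mul_self_eq_one_iff.1 hsq with h1 | h1
  · have hd : δ ^ i = 1 := Subtype.ext (Units.ext h1)
    rw [hd, map_one, inv_one] at hτi
    have hk : τ ^ i ∈ f.ker := hτi.trans (map_one _)
    exact commutatorElement_eq_one_iff_mul_comm.2 (mem_center_iff.1 (E.central hk) ω).symm
  · set d := δ ^ i with hd
    have hdd : d⁻¹ = d := inv_eq_of_mul_eq_one_right (Subtype.ext (Units.ext (by
      simpa using hsq)))
    rw [← map_inv, hdd] at hτi
    have hfix : (sec2 hF d).1 ![0, 1] = ![0, 1] := by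
      funext j
      show (mono hF _ 1).1 _ j = _
      rw [mono_apply]
      fin_cases j <;> simp
    set w0 : Fin 4 → F := pairEquiv (![0, 1], ![0, 1]) with hw0
    have hn0 : (stdHerm hF 4).h w0 w0 ≠ 0 := by
      rw [hw0, h_pairEquiv]
      simp only [stdHerm_h, Cfsg.hermForm, Fin.sum_univ_two]
      have h2 : ((2 : ℕ) : F) ≠ 0 := fun h =>
        hp2 ((Nat.prime_dvd_prime_iff_eq Fact.out Nat.prime_two).1 ((CharP.cast_eq_zero_iff F p 2).1 h))
      have hq0 : q ≠ 0 := by omega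
      simp [zero_pow hq0, one_add_one_eq_two]
      exact_mod_cast h2
    obtain ⟨r, -, -, hw⟩ := exists_normalize (H := stdHerm hF 4) hn0
    set w := r⁻¹ • w0 with hwdef
    have hperf : Perf (stdHerm hF 4) {w} :=
      perf_single hF (conjQ_std hF 4) (Module.finrank_fin_fun F) le_rfl (by omega) hw
    have hsp := split_single hF (conjQ_std hF 4) (Module.finrank_fin_fun F) (n := 3) le_rfl (by omega) h3 hw E
    set u := f (τ ^ i) with hu
    have hu1 : u ∈ fixS (stdHerm hF 4) {w} := by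
      refine ⟨(by show u ∈ SG (stdHerm hF 4); rw [← E.range_eq]; exact ⟨τ ^ i, rfl⟩), ?_⟩
      rintro _ rfl
      rw [hwdef, map_smul, hτi, hw0, blk_apply, hfix]
    have hw1 : W ∈ fixS (stdHerm hF 4) {w} := by
      refine ⟨flip4_mem hF, ?_⟩
      rintro _ rfl
      rw [hwdef, map_smul, hWdef, hw0, flip4_apply]
    obtain ⟨u', hu', eu⟩ := E.exists_lift hperf hu1
    obtain ⟨ω', hω', ew⟩ := E.exists_lift hperf hw1
    rw [comm_congr E.central (a' := u') (b' := ω') eu.symm (by rw [ew, hω])]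
    refine hsp _ (mul_mem (mul_mem (mul_mem hu' hω') (inv_mem hu')) (inv_mem hω')) ?_
    rw [map_commutatorElement, eu, ew, hτi, commutatorElement_def, mul_assoc, mul_assoc, ← mul_assoc W,
      ← map_inv (blk hF), hWdef, flip4_conj, ← map_mul (blk hF)]
    refine (congrArg (blk hF) ?_).trans (map_one _)
    simp [Prod.ext_iff, ← map_inv, hdd, ← map_mul]
    exact (congrArg (sec2 hF) (mul_inv_cancel d)).trans (map_one _) |> fun h => by rwa [hdd] at h

/-- The prime `ℓ` differs from the characteristic. -/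
theorem noExt_four_ne (hq : 3 ≤ q) {ℓ : ℕ} (hne : ℓ ≠ p) : NoExt (stdHerm hF 4) ℓ := by
  intro Γ _ _ f E
  have hℓq := not_dvd_of_ne hF E.prime hne
  have h3 := noExt_three_ne hF hq hne
  obtain ⟨r, rfl⟩ : ∃ r, q = r + 1 := ⟨q - 1, by omega⟩
  set N := (r + 1) * r + 1 with hN
  set M := (r + 1) ^ 2 + 1 with hM
  have e2 : (r + 1) ^ 2 - 1 = r * (r + 2) := Nat.sub_eq_of_eq_add (by ring)
  have e3 : (r + 1) ^ 3 + 1 = (r + 2) * N := by rw [hN]; ring
  have e4 : (r + 1) ^ 4 - 1 = r * (r + 2) * M := Nat.sub_eq_of_eq_add (by rw [hM]; ring)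
  have hS : Nat.card (SG (stdHerm hF 4)) =
      (r + 1) ^ 6 * ((r * (r + 2)) * ((r + 2) * N) * (r * (r + 2) * M)) := by
    rw [card_SG_four hF, e2, e3, e4]
  have hU2 : Nat.card (Unit' (stdHerm hF 2)) = (r + 1) * ((r + 2) * (r * (r + 2))) := by
    rw [(card_unit_small hF).1, e2]
  have hS2 : Nat.card (SG (stdHerm hF 2)) = (r + 1) * (r * (r + 2)) := by rw [card_SG_two hF, e2]
  have hU3 : Nat.card (Unit' (stdHerm hF 3)) =
      (r + 1) ^ 3 * ((r + 2) * (r * (r + 2)) * ((r + 2) * N)) := by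
    rw [(card_unit_small hF).2.1, e2, e3]
  have hdvd : ∀ {a b : ℕ}, ℓ ∣ a * b → ℓ ∣ a ∨ ℓ ∣ b := fun h => (Nat.Prime.dvd_mul E.prime).1 h
  by_cases h2 : ℓ = 2
  · subst h2
    obtain ⟨a, ha⟩ : ∃ a, r = 2 * a := ⟨r / 2, by
      by_contra h
      exact hℓq (by omega)⟩
    refine false_of_flip hF E (Ne.symm hne) hq h3 (m := (r + 1) ^ 4 * N * (2 * a * a + 2 * a + 1)) ?_ ?_
    · intro h
      rcases hdvd h with h | h
      · rcases hdvd h with h | h
        · exact hℓq (E.prime.dvd_of_dvd_pow h)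
        · rw [hN, ha, show (2 * a + 1) * (2 * a) + 1 = 2 * ((2 * a + 1) * a) + 1 by ring] at h
          omega
      · rw [show 2 * a * a + 2 * a + 1 = 2 * (a * a + a) + 1 by ring] at h
        omega
    · rw [hS, hU2, hS2, show M = 2 * (2 * a * a + 2 * a + 1) by rw [hM, ha]; ring]
      exact dvd_of_eq (by ring)
  by_cases hMd : ℓ ∣ M
  · refine false_of_semiregular hF (n := 3) E h2 hne ?_
    rw [card_SG_three hF, e2, e3]
    intro h
    have hr : ℓ ∣ r → False := fun hr => h2 ((Nat.prime_dvd_prime_iff_eq E.prime Nat.prime_two).1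
      ((Nat.dvd_add_right (hr.mul_left (r + 2))).1 (show ℓ ∣ (r + 2) * r + 2 by
        rwa [show (r + 2) * r + 2 = M by rw [hM]; ring])))
    have hr2 : ℓ ∣ r + 2 → False := fun hr' => h2 ((Nat.prime_dvd_prime_iff_eq E.prime Nat.prime_two).1
      ((Nat.dvd_add_right (hr'.mul_left r)).1 (show ℓ ∣ r * (r + 2) + 2 by
        rwa [show r * (r + 2) + 2 = M by rw [hM]; ring])))
    rcases hdvd h with h | h
    · exact hℓq (E.prime.dvd_of_dvd_pow h)
    rcases hdvd h with h | h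
    · exact (hdvd h).elim hr hr2
    refine (hdvd h).elim hr2 fun h => ?_
    -- `M = N + (r + 1)`
    exact hℓq ((Nat.dvd_add_right h).1 (show ℓ ∣ N + (r + 1) by
      rwa [show N + (r + 1) = M by rw [hN, hM]; ring]))
  by_cases hrd : ℓ ∣ r
  · refine false_of_pairs hF E (fun h => hne h.symm) (m := (r + 1) ^ 4 * N * M) ?_ ?_
    · intro h
      rcases hdvd h with h | h
      · rcases hdvd h with h | h
        · exact hℓq (E.prime.dvd_of_dvd_pow h)
        · exact E.prime.one_lt.ne' (Nat.dvd_one.1 ((Nat.dvd_add_right (hrd.mul_left (r + 1))).1 h))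
      · exact hMd h
    · rw [hS, hU2, hS2]
      exact dvd_of_eq (by ring)
  have hw : (stdHerm hF 4).h (consEquiv 3 ((1 : F), (0 : Fin 3 → F)))
      (consEquiv 3 ((1 : F), (0 : Fin 3 → F))) = 1 := by
    rw [h_consEquiv, (stdHerm hF 3).zero_left]; simp
  refine false_of_line hF (n := 3) (by norm_num) E (m := (r + 1) ^ 3 * r * M) ?_ ?_
    (Or.inr ⟨le_rfl, by omega, split_single hF (conjQ_std hF 4) (Module.finrank_fin_fun F) le_rfl
      (by omega) h3 hw E⟩)
  · intro h
    rcases hdvd h with h | h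
    · exact (hdvd h).elim (fun h => hℓq (E.prime.dvd_of_dvd_pow h)) hrd
    · exact hMd h
  · rw [hS, hU3]
    exact dvd_of_eq (by ring)

end CfsgLib.PSUCover
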