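import Cfsg.Agent.Lib.PSUCover.Core
import Cfsg.Agent.Lib.Classical.Herm.SU2
import Mathlib.LinearAlgebra.Dual.Lemmas

/-!
Perpendicular vectors of norm one, transitivity of fixers, and connectivity for the covering argument.
-/

set_option autoImplicit false
set_option linter.unusedSectionVars false

namespace CfsgLib.PSUCover

open Module CfsgLib.Classical.Herm HermSpace Subgroup

universe u

variable {F : Type u} [Field F] [Fintype F] {V : Type*} [AddCommGroup V] [Module F V]
  [FiniteDimensional F V] {H : HermSpace F V}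

theorem exists_norm_sq (c : F) (hc : H.conj c = c) (h0 : c ≠ 0) :
    ∃ s, s ≠ 0 ∧ s * H.conj s = c := by
  obtain ⟨s, hs⟩ := H.norm_surj c hc
  exact ⟨s, fun e => h0 (by rw [← hs, e, zero_mul]), hs⟩

/-- Scaling to norm one. -/
theorem exists_normalize {y : V} (hy : H.h y y ≠ 0) :
    ∃ s, s ≠ 0 ∧ s * H.conj s = H.h y y ∧ H.h (s⁻¹ • y) (s⁻¹ • y) = 1 := by
  obtain ⟨s, hs0, hs⟩ := exists_norm_sq (H := H) _ (H.conj_diag y) hy
  refine ⟨s, hs0, hs, ?_⟩
  rw [H.smul_left, H.smul_right, map_inv₀, ← hs]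
  have := H.conj_ne_zero hs0
  field_simp

theorem h_span_zero {U : Set V} {y : V} (h : ∀ u ∈ U, H.h y u = 0) :
    ∀ u ∈ Submodule.span F U, H.h y u = 0 := by
  intro u hu
  induction hu using Submodule.span_induction with
  | mem a ha => exact h a ha
  | zero => exact H.zero_right y
  | add a b _ _ pa pb => rw [H.add_right, pa, pb, add_zero]
  | smul c a _ pa => rw [H.smul_right, pa, mul_zero]

/-- A norm one vector perpendicular to `k` vectors whose span has a non-degenerate part of dimension `j`. -/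
theorem exists_norm_one_perp {k j : ℕ} (U : Fin k → V) (E : Fin j → V)
    (hE : ∀ i, E i ∈ Submodule.span F (Set.range U))
    (hnd : ∀ c : Fin j → F, (∀ i, H.h (∑ l, c l • E l) (E i) = 0) → c = 0)
    (hdim : 2 * k < finrank F V + j) :
    ∃ y, H.h y y = 1 ∧ ∀ i, H.h y (U i) = 0 := by
  classical
  have : Finite V := Module.finite_of_finite F
  have : Finite (Dual F V) := Module.finite_of_finite F
  let Φ : V →ₗ[F] (Fin k → F) := LinearMap.pi fun i => H.form (U i)
  set W := LinearMap.ker Φ with hW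
  have hWmem : ∀ y, y ∈ W ↔ ∀ i, H.h y (U i) = 0 := fun y =>
    ⟨fun h i => congrFun h i, fun h => funext h⟩
  have hWd : finrank F V ≤ finrank F W + k := by
    have h1 := LinearMap.finrank_range_add_finrank_ker Φ
    have h2 := Submodule.finrank_le (LinearMap.range Φ)
    rw [Module.finrank_fin_fun] at h2
    rw [hW]; omega
  by_contra hcon
  push Not at hcon
  have hiso : ∀ y ∈ W, H.h y y = 0 := by
    intro y hy
    by_contra h
    obtain ⟨s, -, -, h1⟩ := exists_normalize (H := H) h
    obtain ⟨i, hi⟩ := hcon _ h1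
    exact hi (by rw [H.smul_left, (hWmem y).1 hy i, mul_zero])
  have hiso2 : ∀ y ∈ W, ∀ x ∈ W, H.h y x = 0 := by
    intro y hy x hx
    obtain ⟨a, ha⟩ := H.conj_ne
    have e1 := hiso _ (W.add_mem hy hx)
    have e2 := hiso _ (W.add_mem hy (W.smul_mem a hx))
    simp only [H.add_left, H.add_right, H.smul_left, H.smul_right, hiso y hy, hiso x hx, mul_zero,
      zero_add, add_zero] at e1 e2
    have e3 : (H.conj a - a) * H.h y x = 0 := by linear_combination e2 - a * e1
    exact (mul_eq_zero.1 e3).resolve_left (sub_ne_zero.2 ha)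
  -- perpendicular functionals
  have hsurj : ∀ φ : Dual F V, ∃ y, H.form y = φ := by
    have hinj : Function.Injective H.form := fun a b e => by
      rw [← sub_eq_zero]
      refine H.nondeg _ fun y => H.h_comm_zero ?_
      rw [H.sub_right]
      have := LinearMap.congr_fun e y
      simp only [form_apply] at this
      rw [this, sub_self]
    have hcard : Nat.card V = Nat.card (Dual F V) := by
      rw [Module.natCard_eq_pow_finrank (K := F), Module.natCard_eq_pow_finrank (K := F) (V := Dual F V),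
        Subspace.dual_finrank_eq]
    exact ((Nat.bijective_iff_injective_and_card _).2 ⟨hinj, hcard⟩).2
  set S := Submodule.span F (Set.range U) with hS
  have hWS : W ≤ S := by
    intro x hx
    by_contra hxS
    obtain ⟨φ, hφx, hφS⟩ := Submodule.exists_dual_map_eq_bot_of_notMem hxS inferInstance
    obtain ⟨y, rfl⟩ := hsurj φ
    have hy : y ∈ W := by
      rw [hWmem]
      intro i
      refine H.h_comm_zero ?_
      have hm : H.form y (U i) ∈ Submodule.map (H.form y) S :=
        Submodule.mem_map_of_mem (Submodule.subset_span ⟨i, rfl⟩)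
      rw [hφS, Submodule.mem_bot] at hm
      exact hm
    exact hφx (H.h_comm_zero (hiso2 y hy x hx))
  let L : (Fin j → F) →ₗ[F] V := Fintype.linearCombination F E
  have hL : ∀ c, L c = ∑ l, c l • E l := fun c => rfl
  have hLinj : Function.Injective L := by
    rw [← LinearMap.ker_eq_bot, eq_bot_iff]
    intro c hc
    exact (Submodule.mem_bot F).2 (hnd c fun i => by
      rw [← hL, LinearMap.mem_ker.1 hc, H.zero_left])
  have hLS : LinearMap.range L ≤ S := by
    rintro _ ⟨c, rfl⟩
    rw [hL]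
    exact Submodule.sum_mem _ fun l _ => Submodule.smul_mem _ _ (hE l)
  have hdisj : W ⊓ LinearMap.range L = ⊥ := by
    rw [eq_bot_iff]
    rintro x ⟨hx, c, rfl⟩
    have := hnd c fun i => by
      rw [← hL]
      exact h_span_zero (U := Set.range U) (fun u ⟨l, hl⟩ => hl ▸ (hWmem _).1 hx l) _ (hE i)
    rw [this, map_zero]
    exact Submodule.zero_mem _
  have h1 := Submodule.finrank_sup_add_finrank_inf_eq W (LinearMap.range L)
  rw [hdisj, finrank_bot, add_zero, LinearMap.finrank_range_of_inj hLinj, Module.finrank_fin_fun] at h1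
  have h2 := Submodule.finrank_mono (sup_le hWS hLS)
  have h3 : finrank F S ≤ k := (finrank_range_le_card U).trans (le_of_eq (Fintype.card_fin k))
  omega

theorem nd_one {E : Fin 1 → V} (h : H.h (E 0) (E 0) ≠ 0) :
    ∀ c : Fin 1 → F, (∀ i, H.h (∑ l, c l • E l) (E i) = 0) → c = 0 := by
  intro c hc
  have h1 := hc 0
  rw [Fin.sum_univ_one, H.smul_left, mul_eq_zero] at h1
  funext i
  rw [Fin.fin_one_eq_zero i]
  exact h1.resolve_right h

theorem nd_two {E : Fin 2 → V}
    (h : H.h (E 0) (E 0) * H.h (E 1) (E 1) - H.h (E 0) (E 1) * H.h (E 1) (E 0) ≠ 0) :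
    ∀ c : Fin 2 → F, (∀ i, H.h (∑ l, c l • E l) (E i) = 0) → c = 0 := by
  intro c hc
  have h0 := hc 0
  have h1 := hc 1
  rw [Fin.sum_univ_two, H.add_left, H.smul_left, H.smul_left] at h0 h1
  have a : c 0 * (H.h (E 0) (E 0) * H.h (E 1) (E 1) - H.h (E 0) (E 1) * H.h (E 1) (E 0)) = 0 := by
    linear_combination H.h (E 1) (E 1) * h0 - H.h (E 1) (E 0) * h1
  have b : c 1 * (H.h (E 0) (E 0) * H.h (E 1) (E 1) - H.h (E 0) (E 1) * H.h (E 1) (E 0)) = 0 := by
    linear_combination H.h (E 0) (E 0) * h1 - H.h (E 0) (E 1) * h0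
  funext i
  fin_cases i
  · exact (mul_eq_zero.1 a).resolve_right h
  · exact (mul_eq_zero.1 b).resolve_right h

/-- A norm one vector perpendicular to two vectors, the first of norm one. -/
theorem exists_perp_two (hd : 4 ≤ finrank F V) {a : V} (b : V) (ha : H.h a a = 1) :
    ∃ w, H.h w w = 1 ∧ H.h w a = 0 ∧ H.h w b = 0 := by
  obtain ⟨y, hy, hp⟩ := exists_norm_one_perp (H := H) ![a, b] ![a]
    (fun i => Submodule.subset_span ⟨0, by fin_cases i; rfl⟩) (nd_one (by simp [ha]))
    (by omega)
  exact ⟨y, hy, hp 0, hp 1⟩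

/-- A norm one vector perpendicular to three vectors, two of which span a non-degenerate plane. -/
theorem exists_perp_three (hd : 5 ≤ finrank F V) {a b : V} (c : V)
    (h : H.h a a * H.h b b - H.h a b * H.h b a ≠ 0) :
    ∃ w, H.h w w = 1 ∧ H.h w a = 0 ∧ H.h w b = 0 ∧ H.h w c = 0 := by
  obtain ⟨y, hy, hp⟩ := exists_norm_one_perp (H := H) ![a, b, c] ![a, b]
    (fun i => by
      fin_cases i
      · exact Submodule.subset_span ⟨0, rfl⟩
      · exact Submodule.subset_span ⟨1, rfl⟩) (nd_two (by simpa using h)) (by omega)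
  exact ⟨y, hy, hp 0, hp 1, hp 2⟩

theorem norm_shear_det {v : V} {c : F} (hc : ShearCond H v c) :
    (detHom H (shear H v c hc) : F) * H.conj (detHom H (shear H v c hc) : F) = 1 := by
  rw [detHom_shear, map_add, map_one, map_mul, H.conj_diag]
  linear_combination H.h v v * hc.eq

/-- A fixer is transitive on perpendicular vectors of norm one. -/
theorem exists_move {U : Set V} {a b y : V} (ha : H.h a a = 1) (hb : H.h b b = 1)
    (hy : H.h y y = 1) (hUa : ∀ u ∈ U, H.h u a = 0) (hUb : ∀ u ∈ U, H.h u b = 0)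
    (hUy : ∀ u ∈ U, H.h u y = 0) (hby : H.h b y = 0) : ∃ g ∈ fixS H U, g.1 a = b := by
  suffices ∃ g : Unit' H, g.1 a = b ∧ (∀ u ∈ U, g.1 u = u) ∧
      (detHom H g : F) * H.conj (detHom H g : F) = 1 by
    obtain ⟨g, hga, hgU, hgd⟩ := this
    set d : F := (detHom H g : F) with hd
    have hc : ShearCond H y (H.conj d - 1) := by
      unfold ShearCond
      rw [hy, map_sub, map_one, H.conj_conj]
      linear_combination hgd
    refine ⟨shear H y _ hc * g, ⟨?_, fun u hu => ?_⟩, ?_⟩
    · apply Units.ext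
      rw [map_mul, Units.val_mul, detHom_shear, hy, Units.val_one, ← hd]
      linear_combination hgd
    · rw [mul_apply, hgU u hu, shear_apply, hUy u hu, mul_zero, zero_smul, add_zero]
    · rw [mul_apply, hga, shear_apply, hby, mul_zero, zero_smul, add_zero]
  have key : ∀ a b : V, H.h a a = 1 → H.h b b = 1 → H.h a b ≠ 1 → (∀ u ∈ U, H.h u a = 0) →
      (∀ u ∈ U, H.h u b = 0) → ∃ g : Unit' H, g.1 a = b ∧ (∀ u ∈ U, g.1 u = u) ∧
        (detHom H g : F) * H.conj (detHom H g : F) = 1 := by
    intro a b ha hb hab hUa hUb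
    have hne : H.h a (b - a) ≠ 0 := by rw [H.sub_right, ha]; exact sub_ne_zero.2 hab
    refine ⟨shear H (b - a) _ (shearCond_move (by rw [ha, hb]) hne),
      shear_move (by rw [ha, hb]) hne, fun u hu => ?_, norm_shear_det _⟩
    rw [shear_apply, show H.h u (b - a) = 0 by rw [H.sub_right, hUb u hu, hUa u hu, sub_zero],
      mul_zero, zero_smul, add_zero]
  by_cases h1 : H.h a b = 1
  · obtain ⟨l, hl, hl1⟩ := H.exists_norm_one_ne_one
    have hlb : H.h (l • b) (l • b) = 1 := by rw [H.smul_left, H.smul_right, hb, mul_one, hl]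
    have hUlb : ∀ u ∈ U, H.h u (l • b) = 0 := fun u hu => by rw [H.smul_right, hUb u hu, mul_zero]
    obtain ⟨g, hga, hgU, hgd⟩ := key a (l • b) ha hlb (by
      rw [H.smul_right, h1, mul_one]
      exact fun h0 => hl1 (by rw [← H.conj_conj l, h0, map_one])) hUa hUlb
    obtain ⟨g', hg'a, hg'U, hg'd⟩ := key (l • b) b hlb hb (by rw [H.smul_left, hb, mul_one]; exact hl1)
      hUlb hUb
    refine ⟨g' * g, by rw [mul_apply, hga, hg'a], fun u hu => by rw [mul_apply, hgU u hu, hg'U u hu], ?_⟩
    rw [map_mul, Units.val_mul, map_mul]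
    linear_combination ((detHom H g' : F) * H.conj (detHom H g' : F)) * hgd + hg'd
  · exact key a b ha hb h1 hUa hUb

variable {Γ : Type*} [Group Γ] {f : Γ →* Unit' H} {ℓ : ℕ} {q : ℕ} {hF : Fintype.card F = q ^ 2}

theorem adj_of_linked (hd : 5 ≤ finrank F V) {w w' : V} (hw : H.h w w = 1) (h : Linked f w w') :
    Adj f w w' := by
  refine ⟨h, fun a b ha hb haw haw' hbw hbw' => ?_⟩
  obtain ⟨y, hy, hyw, hyb, hyw'⟩ := exists_perp_three (H := H) hd (a := w) (b := b) w'
    (by rw [hw, hb, H.h_comm_zero hbw, zero_mul, sub_zero, one_mul]; exact one_ne_zero)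
  refine exists_move ha hb hy ?_ ?_ ?_ (H.h_comm_zero hyb) <;> rintro u (rfl | rfl)
  · exact H.h_comm_zero haw
  · exact H.h_comm_zero haw'
  · exact H.h_comm_zero hbw
  · exact H.h_comm_zero hbw'
  · exact H.h_comm_zero hyw
  · exact H.h_comm_zero hyw'

/-- Vectors spanning a non-degenerate plane or a line are linked. -/
theorem linked_of_nondeg (E : Ext f ℓ) (hq : ConjQ H hF) {n : ℕ} (hd : finrank F V = n + 2)
    (hn : 3 ≤ n) (h32 : ¬ (n = 3 ∧ q = 2)) {w w' : V} (hw : H.h w w = 1)
    (h : w' - H.h w' w • w = 0 ∨ H.h (w' - H.h w' w • w) (w' - H.h w' w • w) ≠ 0) :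
    Linked f w w' := by
  set x := w' - H.h w' w • w with hx
  have hw' : w' = H.h w' w • w + x := by rw [hx]; abel
  apply Linked.of_perf E
  rcases h with h | h
  · have e : fixS H {w, w'} = fixS H {w} := by
      refine le_antisymm (fixS_mono (by simp)) fun g hg => mem_fixS_span hg ?_
      rintro u (rfl | rfl)
      · exact Submodule.subset_span rfl
      · rw [hw', h, add_zero]
        exact Submodule.smul_mem _ _ (Submodule.subset_span rfl)
    rw [Perf, e]
    exact perf_single hF hq (n := n + 1) hd (by omega) (fun hh => by omega) hw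
  · obtain ⟨s, hs0, -, hz⟩ := exists_normalize (H := H) h
    have hxw : H.h x w = 0 := by rw [hx, H.sub_left, H.smul_left, hw, mul_one, sub_self]
    have e : fixS H {w, w'} = fixS H {w, s⁻¹ • x} := by
      refine le_antisymm (fun g hg => mem_fixS_span hg ?_) (fun g hg => mem_fixS_span hg ?_)
      · rintro u (rfl | rfl)
        · exact Submodule.subset_span (by simp)
        · exact Submodule.smul_mem _ _ (Submodule.sub_mem _ (Submodule.subset_span (by simp))
            (Submodule.smul_mem _ _ (Submodule.subset_span (by simp))))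
      · rintro u (rfl | rfl)
        · exact Submodule.subset_span (by simp)
        · rw [hw']
          refine Submodule.add_mem _ (Submodule.smul_mem _ _ (Submodule.subset_span (by simp))) ?_
          have hm : s • (s⁻¹ • x) ∈ Submodule.span F {w, s⁻¹ • x} :=
            Submodule.smul_mem _ _ (Submodule.subset_span (by simp))
          rwa [smul_inv_smul₀ hs0] at hm
    rw [Perf, e]
    exact perf_pair hF hq hd hn h32 hw hz (by rw [H.smul_left, hxw, mul_zero])

/-- A fixed element other than zero and one. -/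
theorem exists_fixed_ne (hq : ConjQ H hF) (h3 : 3 ≤ q) : ∃ c, H.conj c = c ∧ c ≠ 0 ∧ c ≠ 1 := by
  classical
  by_contra hcon
  push Not at hcon
  letI := Fintype.ofFinite (fixedField hF)
  have h1 : Nat.card (fixedField hF) ≤ 2 := by
    rw [Nat.card_eq_fintype_card, ← Fintype.card_bool]
    refine Fintype.card_le_of_injective (fun c => decide ((c : F) = 0)) fun a b e => Subtype.ext ?_
    simp only [decide_eq_decide] at e
    by_cases ha : (a : F) = 0
    · rw [ha, e.1 ha]
    · have hb : (b : F) ≠ 0 := fun hb => ha (e.2 hb)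
      rw [hcon a ((hq a).trans (mem_fixedField.1 a.2)) ha,
        hcon b ((hq b).trans (mem_fixedField.1 b.2)) hb]
  rw [card_fixedField] at h1
  omega

/-- Connectivity by non-degenerate planes. -/
theorem chain_of_large (E : Ext f ℓ) (hq : ConjQ H hF) {n : ℕ} (hd : finrank F V = n + 2)
    (hn : 3 ≤ n) (hq2 : q = 2 → 5 ≤ n) {a b w w' : V} (hw : H.h w w = 1) (hw' : H.h w' w' = 1)
    (p1 : H.h w a = 0) (p2 : H.h w b = 0) (p3 : H.h w' a = 0) (p4 : H.h w' b = 0)
    (hab : (H.h a a = 1 ∧ H.h b b = 1) ∨ (a = b ∧ a ≠ 0 ∧ H.h a a = 0)) :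
    Chain f a b w w' := by
  have h32 : ¬ (n = 3 ∧ q = 2) := fun h => by have := hq2 h.2; omega
  have hd5 : 5 ≤ finrank F V := by omega
  set x := w' - H.h w' w • w with hx
  by_cases hstep : x = 0 ∨ H.h x x ≠ 0
  · exact Relation.ReflTransGen.single
      ⟨adj_of_linked hd5 hw (linked_of_nondeg E hq hd hn h32 hw hstep), hw, hw', p1, p2, p3, p4⟩
  push Not at hstep
  obtain ⟨hx0, hxx⟩ := hstep
  have hxw : H.h x w = 0 := by rw [hx, H.sub_left, H.smul_left, hw, mul_one, sub_self]
  have hxa : H.h x a = 0 := by rw [hx, H.sub_left, H.smul_left, p1, p3, mul_zero, sub_zero]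
  have hxb : H.h x b = 0 := by rw [hx, H.sub_left, H.smul_left, p2, p4, mul_zero, sub_zero]
  suffices ∃ y, H.h y y = 1 ∧ H.h y a = 0 ∧ H.h y b = 0 ∧ H.h y w = 0 ∧
      H.h x y * H.conj (H.h x y) ≠ 1 by
    obtain ⟨y, hy, ya, yb, yw, hne⟩ := this
    have hyw' : H.h w' y = H.h x y := by
      rw [hx, H.sub_left, H.smul_left, H.h_comm_zero yw, mul_zero, sub_zero]
    refine (Relation.ReflTransGen.single (b := y) ?_).tail ?_
    · refine ⟨adj_of_linked hd5 hw (linked_of_nondeg E hq hd hn h32 hw (Or.inr ?_)), hw, hy, p1, p2, ya, yb⟩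
      rw [yw, zero_smul, sub_zero, hy]
      exact one_ne_zero
    · refine ⟨adj_of_linked hd5 hy (linked_of_nondeg E hq hd hn h32 hy (Or.inr ?_)), hy, hw', ya, yb, p3, p4⟩
      rw [H.sub_left, H.sub_right, H.sub_right, H.smul_left, H.smul_left, H.smul_right, H.smul_right,
        hw', hy, ← H.symm' w' y, hyw']
      intro h0
      exact hne (by linear_combination -h0)
  by_cases hq' : q = 2
  · -- a vector perpendicular to the isotropic part
    rcases hab with ⟨ha, -⟩ | ⟨rfl, -, -⟩
    · obtain ⟨y, hy, hp⟩ := exists_norm_one_perp (H := H) ![a, b, w, x] ![a, w]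
        (fun i => by
          fin_cases i
          · exact Submodule.subset_span ⟨0, rfl⟩
          · exact Submodule.subset_span ⟨2, rfl⟩)
        (nd_two (by simp [ha, hw, p1, H.h_comm_zero p1])) (by have := hq2 hq'; omega)
      exact ⟨y, hy, hp 0, hp 1, hp 2, by rw [H.h_comm_zero (show H.h y x = 0 from hp 3), zero_mul]; exact zero_ne_one⟩
    · obtain ⟨y, hy, hp⟩ := exists_norm_one_perp (H := H) ![a, w, x] ![w]
        (fun i => Submodule.subset_span ⟨1, by fin_cases i; rfl⟩) (nd_one (by simp [hw]))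
        (by have := hq2 hq'; omega)
      exact ⟨y, hy, hp 0, hp 0, hp 1, by rw [H.h_comm_zero (show H.h y x = 0 from hp 2), zero_mul]; exact zero_ne_one⟩
  by_cases hall : ∀ y, H.h y a = 0 → H.h y b = 0 → H.h y w = 0 → H.h y x = 0
  · rcases hab with ⟨ha, -⟩ | ⟨rfl, -, -⟩
    · obtain ⟨y, hy, ya, yw, yb⟩ := exists_perp_three (H := H) hd5 (a := a) (b := w) b
        (by simp [ha, hw, p1, H.h_comm_zero p1])
      exact ⟨y, hy, ya, yb, yw, by rw [H.h_comm_zero (hall y ya yb yw), zero_mul]; exact zero_ne_one⟩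
    · obtain ⟨y, hy, yw, ya⟩ := exists_perp_two (H := H) (by omega) (a := w) a hw
      exact ⟨y, hy, ya, ya, yw, by rw [H.h_comm_zero (hall y ya ya yw), zero_mul]; exact zero_ne_one⟩
  push Not at hall
  obtain ⟨y0, ya, yb, yw, hy0⟩ := hall
  obtain ⟨c, hcc, hc0, hc1⟩ := exists_fixed_ne hq (by have := two_le_of_card hF; omega)
  set y1 := (H.h y0 x)⁻¹ • y0 with hy1
  have h1 : H.h y1 x = 1 := by rw [hy1, H.smul_left, inv_mul_cancel₀ hy0]
  clear_value y1
  obtain ⟨t, ht⟩ := H.exists_trace (c := c - H.h y1 y1) (by rw [map_sub, hcc, H.conj_diag])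
  set y2 := y1 + t • x with hy2
  have hyy : H.h y2 y2 = c := by
    rw [hy2, H.add_left, H.add_right, H.add_right, H.smul_left, H.smul_left, H.smul_right,
      H.smul_right, h1, H.h_comm_one h1, hxx]
    linear_combination ht
  have hy2x : H.h x y2 = 1 := by
    rw [hy2, H.add_right, H.smul_right, hxx, H.h_comm_one h1]; ring
  clear_value y2
  obtain ⟨s, hs0, hs, hsy⟩ := exists_normalize (H := H) (y := y2) (by rw [hyy]; exact hc0)
  refine ⟨s⁻¹ • y2, hsy, ?_, ?_, ?_, ?_⟩
  · simp [hy2, hy1, H.smul_left, H.add_left, ya, hxa]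
  · simp [hy2, hy1, H.smul_left, H.add_left, yb, hxb]
  · simp [hy2, hy1, H.smul_left, H.add_left, yw, hxw]
  · rw [H.smul_right, hy2x, mul_one, map_inv₀, map_inv₀, H.conj_conj, ← mul_inv, mul_comm, hs, hyy]
    exact fun e => hc1 (by rw [← inv_inv c, e, inv_one])

end CfsgLib.PSUCover
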