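import Cfsg.Agent.Lib.Classical.Herm.Apps
import Mathlib.LinearAlgebra.Prod

/-!
Hermitian spaces over a field with `q²` elements: coordinates, fixers of vectors of norm one.
-/

set_option autoImplicit false

namespace CfsgLib.PSUCover

open Module CfsgLib.Classical.Herm HermSpace

variable {F V : Type*} [Field F] [AddCommGroup V] [Module F V] (H : HermSpace F V)

/-- The isometries of determinant one. -/
noncomputable abbrev SG : Subgroup (Unit' H) := (detHom H).ker

/-- The determinant one isometries fixing a set pointwise. -/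
def fixS (U : Set V) : Subgroup (Unit' H) where
  carrier := {g | detHom H g = 1 ∧ ∀ u ∈ U, g.1 u = u}
  mul_mem' {a b} ha hb := ⟨by rw [map_mul, ha.1, hb.1, one_mul],
    fun u hu => by rw [mul_apply, hb.2 u hu, ha.2 u hu]⟩
  one_mem' := ⟨map_one _, fun _ _ => rfl⟩
  inv_mem' {a} ha := ⟨by rw [map_inv, ha.1, inv_one], fun u hu => by
    have := inv_apply_self a u
    rwa [ha.2 u hu] at this⟩

variable {H}

theorem mem_fixS {U : Set V} {g : Unit' H} :
    g ∈ fixS H U ↔ detHom H g = 1 ∧ ∀ u ∈ U, g.1 u = u := Iff.rfl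

theorem fixS_le (U : Set V) : fixS H U ≤ SG H := fun _ hg => hg.1

theorem fixS_mono {U U' : Set V} (h : U ⊆ U') : fixS H U' ≤ fixS H U :=
  fun _ hg => ⟨hg.1, fun u hu => hg.2 u (h hu)⟩

theorem mem_fixS_span {U U' : Set V} {g : Unit' H} (hg : g ∈ fixS H U)
    (h : U' ⊆ Submodule.span F U) : g ∈ fixS H U' := by
  refine ⟨hg.1, fun u hu => ?_⟩
  have hm := h hu
  clear hu
  induction hm using Submodule.span_induction with
  | mem a ha => exact hg.2 a ha
  | zero => exact map_zero _
  | add a b _ _ pa pb => rw [map_add, pa, pb]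
  | smul c a _ pa => rw [map_smul, pa]

theorem conj_fixS {U : Set V} {g k : Unit' H} (hk : k ∈ fixS H U) :
    g * k * g⁻¹ ∈ fixS H (g.1 '' U) := by
  refine ⟨by rw [map_mul, map_mul, hk.1, map_inv, mul_one, mul_inv_cancel], ?_⟩
  rintro _ ⟨u, hu, rfl⟩
  rw [mul_apply, mul_apply, inv_apply_self, hk.2 u hu]

section Coord

variable [Fintype F] {q : ℕ} (hF : Fintype.card F = q ^ 2)

/-- An isometry from the standard space. -/
def IsoStd (H : HermSpace F V) {n : ℕ} (L : (Fin n → F) ≃ₗ[F] V) : Prop :=
  ∀ x y, H.h (L x) (L y) = (stdHerm hF n).h x y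

variable (H) in
/-- The involution is the `q`-th power map. -/
def ConjQ : Prop := ∀ x, H.conj x = qPow hF x

theorem exists_onb_aux [FiniteDimensional F V] (hq : ConjQ H hF) {n : ℕ} (hn : finrank F V = n)
    {w : V} (hw : H.h w w = 1) : ∀ k, k + 1 ≤ n → ∃ v : Fin (k + 1) → V, v 0 = w ∧
      ∀ i j, H.h (v i) (v j) = if i = j then 1 else 0 := by
  intro k
  induction k with
  | zero =>
    intro _
    refine ⟨fun _ => w, rfl, fun i j => ?_⟩
    rw [if_pos (Fin.ext (by have := i.isLt; have := j.isLt; omega)), hw]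
  | succ k ih =>
    intro hk
    obtain ⟨v, hv0, hv⟩ := ih (by omega)
    set P : V → V := fun x => x - ∑ i, H.h x (v i) • v i with hP
    have hsum : ∀ (c : Fin (k + 1) → F) (j : Fin (k + 1)), H.h (∑ i, c i • v i) (v j) = c j := by
      intro c j
      have : H.h (∑ i, c i • v i) (v j) = H.form (v j) (∑ i, c i • v i) := rfl
      rw [this, map_sum, Finset.sum_eq_single j]
      · simp [hv]
      · intro i _ hi; simp [hv, hi]
      · simp
    have hsum' : ∀ (c : Fin (k + 1) → F) (e : V), (∀ i, H.h (v i) e = 0) →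
        H.h (∑ i, c i • v i) e = 0 := by
      intro c e he
      have : H.h (∑ i, c i • v i) e = H.form e (∑ i, c i • v i) := rfl
      rw [this, map_sum]
      exact Finset.sum_eq_zero fun i _ => by simp [he i]
    obtain ⟨e₀, he₀, hne⟩ : ∃ e₀, (∀ i, H.h e₀ (v i) = 0) ∧ e₀ ≠ 0 := by
      let Φ : V →ₗ[F] (Fin (k + 1) → F) := LinearMap.pi fun i => H.form (v i)
      obtain ⟨e₀, he, hne⟩ := Submodule.exists_mem_ne_zero_of_ne_bot (p := LinearMap.ker Φ) (by
        intro h0
        have h1 := LinearMap.finrank_range_add_finrank_ker Φ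
        have h2 := Submodule.finrank_le (LinearMap.range Φ)
        rw [Module.finrank_fin_fun] at h2
        rw [h0, finrank_bot] at h1
        omega)
      exact ⟨e₀, fun i => congrFun he i, hne⟩
    obtain ⟨e, he, hee⟩ := H.exists_value_in {x | ∀ i, H.h x (v i) = 0} P
      (fun x i => by simp only [hP, H.sub_left, hsum, sub_self])
      (fun x e he => by simp only [hP, H.sub_left, hsum' _ _ (fun i => H.h_comm_zero (he i)), sub_zero])
      (fun a pa b pb c i => by rw [H.add_left, H.smul_left, pa i, pb i, mul_zero, add_zero])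
      (fun a pa c i => by rw [H.smul_left, pa i, mul_zero]) he₀ hne (c := 1) (map_one _)
    refine ⟨Fin.snoc v e, by
      rw [show (0 : Fin (k + 1 + 1)) = Fin.castSucc 0 from rfl, Fin.snoc_castSucc, hv0], ?_⟩
    intro i j
    refine Fin.lastCases ?_ (fun i => ?_) i <;> refine Fin.lastCases ?_ (fun j => ?_) j
    · simpa using hee
    · rw [Fin.snoc_last, Fin.snoc_castSucc, if_neg (Fin.castSucc_lt_last j).ne', he j]
    · rw [Fin.snoc_last, Fin.snoc_castSucc, if_neg (Fin.castSucc_lt_last i).ne, H.h_comm_zero (he i)]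
    · simpa using hv i j

/-- A vector of norm one is the first coordinate vector of some system of coordinates. -/
theorem exists_isoStd [FiniteDimensional F V] (hq : ConjQ H hF) {n : ℕ} (hn : finrank F V = n + 1)
    {w : V} (hw : H.h w w = 1) :
    ∃ L : (Fin (n + 1) → F) ≃ₗ[F] V, IsoStd hF H L ∧ L (Pi.single 0 1) = w := by
  obtain ⟨v, hv0, hv⟩ := exists_onb_aux hF hq hn hw n le_rfl
  let L0 : (Fin (n + 1) → F) →ₗ[F] V := Fintype.linearCombination F v
  have hL : ∀ x, L0 x = ∑ i, x i • v i := fun x => rfl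
  have hiso : ∀ x y, H.h (L0 x) (L0 y) = (stdHerm hF (n + 1)).h x y := by
    intro x y
    rw [hL, hL, stdHerm_h, Cfsg.hermForm]
    have h1 : ∀ z, H.h (∑ i, x i • v i) z = ∑ i, x i * H.h (v i) z := fun z => by
      show H.form z (∑ i, x i • v i) = _
      simp [map_sum]
    have h2 : ∀ i, H.h (v i) (∑ j, y j • v j) = y i ^ q := fun i => by
      rw [← H.symm']
      have : H.h (∑ j, y j • v j) (v i) = H.form (v i) (∑ j, y j • v j) := rfl
      rw [this, map_sum, Finset.sum_eq_single i (fun j _ hj => by simp [hv, hj]) (by simp)]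
      simp [hv, hq (y i)]
    rw [h1]
    exact Finset.sum_congr rfl fun i _ => by rw [h2]
  have hinj : Function.Injective L0 := by
    rw [← LinearMap.ker_eq_bot, eq_bot_iff]
    intro x hx
    refine (stdHerm hF (n + 1)).nondeg x fun y => ?_
    rw [← hiso, LinearMap.mem_ker.1 hx, H.zero_left]
  let L := LinearEquiv.ofBijective L0 ⟨hinj,
    (LinearMap.injective_iff_surjective_of_finrank_eq_finrank (by simp [hn])).1 hinj⟩
  refine ⟨L, hiso, ?_⟩
  show L0 (Pi.single 0 1) = w
  rw [Fintype.linearCombination_apply_single, one_smul, hv0]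

/-- The isometry groups correspond under an isometry. -/
noncomputable def isoUnit {n : ℕ} (L : (Fin n → F) ≃ₗ[F] V) (hL : IsoStd hF H L) :
    Unit' (stdHerm hF n) ≃* Unit' H where
  toFun g := ⟨L.symm.trans (g.1.trans L), fun x y => by
    show H.h (L (g.1 (L.symm x))) (L (g.1 (L.symm y))) = H.h x y
    rw [hL, unit_h, ← hL, L.apply_symm_apply, L.apply_symm_apply]⟩
  invFun g := ⟨L.trans (g.1.trans L.symm), fun x y => by
    show (stdHerm hF n).h (L.symm (g.1 (L x))) (L.symm (g.1 (L y))) = _
    rw [← hL, L.apply_symm_apply, L.apply_symm_apply, unit_h, hL]⟩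
  left_inv g := unit_ext fun x => by simp
  right_inv g := unit_ext fun x => by simp
  map_mul' g g' := unit_ext fun x => by simp

theorem isoUnit_apply {n : ℕ} {L : (Fin n → F) ≃ₗ[F] V} (hL : IsoStd hF H L)
    (g : Unit' (stdHerm hF n)) (x : Fin n → F) : (isoUnit hF L hL g).1 (L x) = L (g.1 x) := by
  show L (g.1 (L.symm (L x))) = _
  rw [L.symm_apply_apply]

theorem detHom_isoUnit {n : ℕ} {L : (Fin n → F) ≃ₗ[F] V} (hL : IsoStd hF H L)
    (g : Unit' (stdHerm hF n)) : detHom H (isoUnit hF L hL g) = detHom (stdHerm hF n) g :=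
  LinearEquiv.det_conj g.1 L

/-- Adjoining a fixed first coordinate. -/
def consEquiv (n : ℕ) : (F × (Fin n → F)) ≃ₗ[F] (Fin (n + 1) → F) where
  toFun p := Fin.cons p.1 p.2
  invFun v := (v 0, Fin.tail v)
  map_add' p p' := by funext i; refine Fin.cases ?_ ?_ i <;> simp
  map_smul' c p := by funext i; refine Fin.cases ?_ ?_ i <;> simp
  left_inv p := by simp
  right_inv v := Fin.cons_self_tail v

theorem h_consEquiv (n : ℕ) (p p' : F × (Fin n → F)) :
    (stdHerm hF (n + 1)).h (consEquiv n p) (consEquiv n p') =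
      p.1 * p'.1 ^ q + (stdHerm hF n).h p.2 p'.2 := by
  simp [consEquiv, Cfsg.hermForm, Fin.sum_univ_succ]

/-- Extension of an isometry by a fixed coordinate. -/
noncomputable def extendStd (n : ℕ) : Unit' (stdHerm hF n) →* Unit' (stdHerm hF (n + 1)) where
  toFun g := ⟨(consEquiv n).symm.trans (((LinearEquiv.refl F F).prodCongr g.1).trans (consEquiv n)),
    fun x y => by
      obtain ⟨p, rfl⟩ := (consEquiv (F := F) n).surjective x
      obtain ⟨p', rfl⟩ := (consEquiv (F := F) n).surjective y
      simp only [LinearEquiv.trans_apply, LinearEquiv.symm_apply_apply, LinearEquiv.prodCongr_apply,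
        LinearEquiv.refl_apply, h_consEquiv hF, unit_h]⟩
  map_one' := unit_ext fun x => by
    obtain ⟨p, rfl⟩ := (consEquiv (F := F) n).surjective x
    simp
  map_mul' g g' := unit_ext fun x => by
    obtain ⟨p, rfl⟩ := (consEquiv (F := F) n).surjective x
    simp

theorem extendStd_apply (n : ℕ) (g : Unit' (stdHerm hF n)) (p : F × (Fin n → F)) :
    (extendStd hF n g).1 (consEquiv n p) = consEquiv n (p.1, g.1 p.2) := by
  simp [extendStd]

theorem detHom_extendStd (n : ℕ) (g : Unit' (stdHerm hF n)) :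
    detHom (stdHerm hF (n + 1)) (extendStd hF n g) = detHom (stdHerm hF n) g := by
  have h := LinearEquiv.det_conj ((LinearEquiv.refl F F).prodCongr g.1) (consEquiv n)
  refine h.trans (Units.ext ?_)
  show (LinearEquiv.det ((LinearEquiv.refl F F).prodCongr g.1) : F) = (LinearEquiv.det g.1 : F)
  rw [LinearEquiv.coe_det, LinearEquiv.coe_det,
    show (((LinearEquiv.refl F F).prodCongr g.1) : F × (Fin n → F) →ₗ[F] F × (Fin n → F)) =
      LinearMap.prodMap LinearMap.id (g.1 : (Fin n → F) →ₗ[F] Fin n → F) from rfl,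
    LinearMap.det_prodMap, LinearMap.det_id, one_mul]

/-- The fixer of a vector of norm one is the special unitary group one dimension below. -/
theorem exists_fix_equiv [FiniteDimensional F V] (hq : ConjQ H hF) {n : ℕ}
    (hn : finrank F V = n + 1) {w : V} (hw : H.h w w = 1) :
    ∃ (T : (Fin n → F) →ₗ[F] V) (φ : Unit' (stdHerm hF n) →* Unit' H),
      (∀ x y, H.h (T x) (T y) = (stdHerm hF n).h x y) ∧ Function.Injective T ∧
      (∀ x, H.h (T x) w = 0) ∧ (∀ v, H.h v w = 0 → v ∈ LinearMap.range T) ∧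
      Function.Injective φ ∧ (∀ g x, (φ g).1 (T x) = T (g.1 x)) ∧
      (SG (stdHerm hF n)).map φ = fixS H {w} := by
  obtain ⟨L, hL, hLw⟩ := exists_isoStd hF hq hn hw
  let T : (Fin n → F) →ₗ[F] V :=
    L.toLinearMap.comp ((consEquiv n).toLinearMap.comp (LinearMap.inr F F (Fin n → F)))
  have hT : ∀ x, T x = L (consEquiv n (0, x)) := fun x => rfl
  have hw' : w = L (consEquiv n (1, 0)) := by
    rw [← hLw]
    congr 1
    funext i
    refine Fin.cases ?_ ?_ i <;> simp [consEquiv]
  have hdec : ∀ p : F × (Fin n → F), L (consEquiv n p) = p.1 • w + T p.2 := fun p => by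
    rw [hT, hw', ← map_smul, ← map_add, ← map_smul, ← map_add]
    congr 2
    ext <;> simp
  let φ := (isoUnit hF L hL).toMonoidHom.comp (extendStd hF n)
  have hφT : ∀ g x, (φ g).1 (T x) = T (g.1 x) := fun g x => by
    rw [hT, hT]
    show (isoUnit hF L hL (extendStd hF n g)).1 _ = _
    rw [isoUnit_apply, extendStd_apply]
  have hφw : ∀ g, (φ g).1 w = w := fun g => by
    rw [hw']
    show (isoUnit hF L hL (extendStd hF n g)).1 _ = _
    rw [isoUnit_apply, extendStd_apply, map_zero]
  have hTT : ∀ x y, H.h (T x) (T y) = (stdHerm hF n).h x y := fun x y => by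
    rw [hT, hT, hL, h_consEquiv]
    simp [zero_pow (show q ≠ 0 by have := two_le_of_card hF; omega)]
  have hTi : Function.Injective T := fun x y e =>
    congrArg Prod.snd ((consEquiv n).injective (L.injective e))
  have hTw : ∀ x, H.h (T x) w = 0 := fun x => by
    rw [hT, hw', hL, h_consEquiv]
    simp [Cfsg.hermForm, zero_pow (show q ≠ 0 by have := two_le_of_card hF; omega)]
  have hrange : ∀ v, H.h v w = 0 → v ∈ LinearMap.range T := fun v hv => by
    obtain ⟨p, rfl⟩ : ∃ p, L (consEquiv n p) = v :=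
      ⟨(consEquiv n).symm (L.symm v), by simp⟩
    rw [hdec, H.add_left, H.smul_left, hw, hTw, mul_one, add_zero] at hv
    exact ⟨p.2, by rw [hdec, hv, zero_smul, zero_add]⟩
  refine ⟨T, φ, hTT, hTi, hTw, hrange, ?_, hφT, ?_⟩
  · intro g g' e
    exact unit_ext fun x => hTi (by rw [← hφT, ← hφT, e])
  · ext k
    constructor
    · rintro ⟨g, hg, rfl⟩
      refine ⟨?_, ?_⟩
      · show detHom H (isoUnit hF L hL (extendStd hF n g)) = 1
        rw [detHom_isoUnit, detHom_extendStd]
        exact hg
      · rintro u rfl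
        exact hφw g
    · rintro ⟨hdk, hkw⟩
      have hkw' := hkw w rfl
      have hmem : ∀ x, k.1 (T x) ∈ LinearMap.range T := fun x => hrange _ (by
        conv_lhs => rw [← hkw']
        rw [unit_h, hTw])
      choose g0 hg0 using hmem
      let g1 : (Fin n → F) →ₗ[F] (Fin n → F) :=
        { toFun := g0
          map_add' := fun x y => hTi (by rw [map_add, hg0, hg0, hg0, map_add, map_add])
          map_smul' := fun c x => hTi (by rw [RingHom.id_apply, map_smul, hg0, hg0, map_smul, map_smul]) }
      have hg1 : Function.Injective g1 := fun x y e =>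
        hTi (k.1.injective (by rw [← hg0, ← hg0]; exact congrArg T e))
      let g : Unit' (stdHerm hF n) := ⟨LinearEquiv.ofInjectiveEndo g1 hg1, fun x y => by
        show (stdHerm hF n).h (g0 x) (g0 y) = _
        rw [← hTT, hg0, hg0, unit_h, hTT]⟩
      have hk : φ g = k := by
        refine unit_ext fun v => ?_
        obtain ⟨p, rfl⟩ : ∃ p, L (consEquiv n p) = v :=
          ⟨(consEquiv n).symm (L.symm v), by simp⟩
        rw [hdec, map_add, map_add, map_smul, map_smul, hφw, hkw', hφT]
        exact congrArg _ (hg0 p.2)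
      refine ⟨g, ?_, hk⟩
      show detHom _ g = 1
      rw [← detHom_extendStd hF n g, ← detHom_isoUnit hF hL (extendStd hF n g)]
      show detHom H (φ g) = 1
      rw [hk, hdk]

end Coord

end CfsgLib.PSUCover
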