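import Cfsg.Agent.Lib.PSUCover.Geom
import Cfsg.Agent.Lib.TwistCover.RankOne
import Cfsg.Agent.Lib.Linear.Transvection

/-!
The line stabiliser of a vector of norm one: kernels of order prime to its index, and lifts of
subgroups isomorphic to `SU(2, q)` by elements of `p`-power order.
-/

set_option autoImplicit false
set_option linter.unusedSectionVars false
set_option linter.style.haveILetI false

namespace CfsgLib.PSUCover

open Module CfsgLib.Classical.Herm HermSpace Subgroup CfsgLib.TwistCover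
open scoped commutatorElement MatrixGroups

universe u

section Group

variable {Γ G : Type*} [Group Γ] [Group G]

/-- The derived group of a group whose generators commute modulo an invariant subgroup. -/
theorem commutator_closure_le [Finite Γ] {S : Set Γ} {L : Subgroup Γ}
    (hn : ∀ s ∈ S, ∀ x ∈ L, s * x * s⁻¹ ∈ L) (hc : ∀ s ∈ S, ∀ t ∈ S, ⁅s, t⁆ ∈ L) :
    ⁅Subgroup.closure S, Subgroup.closure S⁆ ≤ L := by
  let Nm : Submonoid Γ :=
    { carrier := {s | ∀ x ∈ L, s * x * s⁻¹ ∈ L}
      one_mem' := fun x hx => by simpa using hx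
      mul_mem' := fun {a b} ha hb x hx => by
        rw [show a * b * x * (a * b)⁻¹ = a * (b * x * b⁻¹) * a⁻¹ by group]
        exact ha _ (hb x hx) }
  have hN : ∀ s ∈ Subgroup.closure S, s ∈ Nm := by
    intro s hs
    induction hs using Subgroup.closure_induction with
    | mem a ha => exact hn a ha
    | one => exact Nm.one_mem
    | mul a b _ _ pa pb => exact Nm.mul_mem pa pb
    | inv a _ pa =>
      obtain ⟨n, hn', he⟩ := (isOfFinOrder_of_finite a).exists_pow_eq_one
      have h1 : a * a ^ (n - 1) = 1 := by rw [← pow_succ', Nat.sub_add_cancel hn', he]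
      rw [inv_eq_of_mul_eq_one_right h1]
      exact Nm.pow_mem pa _
  have h1 : ∀ t ∈ S, ∀ a ∈ Subgroup.closure S, ⁅a, t⁆ ∈ L := by
    intro t ht a ha
    induction ha using Subgroup.closure_induction with
    | mem x hx => exact hc x hx t ht
    | one => simp
    | mul x y hx _ px py =>
      rw [show ⁅x * y, t⁆ = x * ⁅y, t⁆ * x⁻¹ * ⁅x, t⁆ by simp only [commutatorElement_def]; group]
      exact mul_mem (hN x hx _ py) px
    | inv x hx px =>
      rw [show ⁅x⁻¹, t⁆ = x⁻¹ * ⁅x, t⁆⁻¹ * (x⁻¹)⁻¹ by simp only [commutatorElement_def]; group]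
      exact hN _ (inv_mem hx) _ (inv_mem px)
  rw [commutator_le]
  intro a ha b hb
  induction hb using Subgroup.closure_induction with
  | mem x hx => exact h1 x hx a ha
  | one => simp
  | mul x y hx _ px py =>
    rw [show ⁅a, x * y⁆ = ⁅a, x⁆ * (x * ⁅a, y⁆ * x⁻¹) by simp only [commutatorElement_def]; group]
    exact mul_mem px (hN x hx _ py)
  | inv x hx px =>
    rw [show ⁅a, x⁻¹⁆ = x⁻¹ * ⁅a, x⁆⁻¹ * (x⁻¹)⁻¹ by simp only [commutatorElement_def]; group]
    exact hN _ (inv_mem hx) _ (inv_mem px)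

/-- An element of `p`-power order lifts to an element of `p`-power order. -/
theorem exists_pLift {f : Γ →* G} {p ℓ : ℕ} (hp : p.Prime) (hℓ : ℓ.Prime) (hpl : p ≠ ℓ)
    (hcard : Nat.card f.ker = ℓ) {g : G} (hg : g ∈ f.range) {k : ℕ} (hk : g ^ p ^ k = 1) :
    ∃ a, f a = g ∧ IsPElt p a := by
  obtain ⟨a, rfl⟩ := hg
  obtain ⟨j, h1, h0⟩ := Nat.chineseRemainder
    (((Nat.coprime_primes hp hℓ).2 hpl).pow_left k) 1 0
  refine ⟨a ^ j, ?_, k, ?_⟩
  · rw [map_pow]
    conv_rhs => rw [← pow_one (f a)]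
    rw [pow_eq_pow_iff_modEq]
    exact h1.of_dvd (orderOf_dvd_of_pow_eq_one hk)
  · rw [← pow_mul, mul_comm, pow_mul]
    have hm : a ^ p ^ k ∈ f.ker := by rw [MonoidHom.mem_ker, map_pow, hk]
    have h2 : (a ^ p ^ k) ^ ℓ = 1 := by
      have := pow_card_eq_one' (x := (⟨_, hm⟩ : f.ker))
      rw [hcard] at this
      exact congrArg Subtype.val this
    obtain ⟨c, hc⟩ := Nat.modEq_zero_iff_dvd.1 h0
    rw [hc, pow_mul, h2, one_pow]

end Group

variable {F : Type u} [Field F] [Fintype F] {q : ℕ} (hF : Fintype.card F = q ^ 2)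
  {V : Type*} [AddCommGroup V] [Module F V] {H : HermSpace F V}
  {Γ : Type*} [Group Γ] [Finite Γ] {f : Γ →* Unit' H} {ℓ : ℕ}

/-- The lifts of `p`-power order over a subgroup. -/
def pLifts (f : Γ →* Unit' H) (p : ℕ) (A : Subgroup (Unit' H)) : Subgroup Γ := lifts p f A

theorem pLifts_split (E : Ext f ℓ) {p : ℕ} [Fact p.Prime] [CharP F p] (hpl : p ≠ ℓ)
    (ι : Unit' (stdHerm hF 2) →* Unit' H) (hι : Function.Injective ι)
    (hA : (SG (stdHerm hF 2)).map ι ≤ SG H) :
    (pLifts f p ((SG (stdHerm hF 2)).map ι)).map f = (SG (stdHerm hF 2)).map ι ∧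
      ∀ g ∈ pLifts f p ((SG (stdHerm hF 2)).map ι), f g = 1 → g = 1 := by
  obtain ⟨e⟩ := su_two_equiv hF
  let K := fixedField hF
  haveI : CharP K p := (algebraMap K F).charP (algebraMap K F).injective p
  let j : SL(2, K) →* Unit' H :=
    ι.comp ((SG (stdHerm hF 2)).subtype.comp ((e.symm.trans (suEquiv hF 2)).toMonoidHom))
  have hj : Function.Injective j :=
    hι.comp (Subtype.val_injective.comp (e.symm.trans (suEquiv hF 2)).injective)
  have hjr : j.range = (SG (stdHerm hF 2)).map ι := by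
    ext g
    constructor
    · rintro ⟨x, rfl⟩
      exact mem_map_of_mem _ ((e.symm.trans (suEquiv hF 2)) x).2
    · rintro ⟨x, hx, rfl⟩
      refine ⟨(e.symm.trans (suEquiv hF 2)).symm ⟨x, hx⟩, ?_⟩
      show ι ((e.symm.trans (suEquiv hF 2)) ((e.symm.trans (suEquiv hF 2)).symm ⟨x, hx⟩)).1 = ι x
      rw [MulEquiv.apply_symm_apply]
  have hco : ¬ p ∣ Nat.card f.ker := fun h => hpl ((Nat.prime_dvd_prime_iff_eq Fact.out E.prime).1
    (E.card_ker ▸ h))
  refine ⟨le_antisymm ?_ ?_, fun g hg hg1 => ?_⟩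
  · exact Subgroup.map_le_iff_le_comap.2 (lifts_le_comap _)
  · intro g hg
    obtain ⟨x, rfl⟩ : g ∈ j.range := hjr ▸ hg
    refine CfsgLib.Linear.SL_transvection_induction
      (fun x => j x ∈ (pLifts f p ((SG (stdHerm hF 2)).map ι)).map f) ?_ ?_ ?_ x
    · simpa only [map_one] using one_mem _
    · intro a b hab c
      set t := Matrix.SpecialLinearGroup.transvection hab c with ht
      have htp : t ^ p = 1 := by
        have key : ∀ n : ℕ, (t ^ n).1 = Matrix.transvection a b ((n : K) * c) := by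
          intro n
          induction n with
          | zero => simp
          | succ n ih =>
            rw [pow_succ, Matrix.SpecialLinearGroup.coe_mul, ih, ht, Nat.cast_succ, add_mul, one_mul,
              ← Matrix.transvection_mul_transvection_same _ _ hab]
            rfl
        refine Subtype.ext ?_
        rw [key, CharP.cast_eq_zero, zero_mul, Matrix.transvection_zero]
        rfl
      have hmem : j t ∈ (SG (stdHerm hF 2)).map ι := hjr ▸ ⟨t, rfl⟩
      obtain ⟨a', ha', hp'⟩ := exists_pLift (k := 1) Fact.out E.prime hpl E.card_ker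
        (g := j t) (E.range_eq ▸ hA hmem) (by rw [pow_one, ← map_pow, htp, map_one])
      exact ⟨a', mem_lifts (ha' ▸ hmem) hp', ha'⟩
    · intro a b ha hb
      show j (a * b) ∈ _
      rw [map_mul]
      exact mul_mem ha hb
  · have := inf_ker_eq_bot E.central hco j hj {e | f e ∈ (SG (stdHerm hF 2)).map ι ∧ IsPElt p e}
      (fun w hw => hw.2) (fun w hw => hjr ▸ hw.1)
    exact mem_bot.1 (this ▸ ⟨hg, hg1⟩)

omit [Finite Γ] in
theorem conj_pLifts {p : ℕ} {A : Subgroup (Unit' H)} {g x : Γ}
    (h : ∀ a ∈ A, f g * a * (f g)⁻¹ ∈ A) (hx : x ∈ pLifts f p A) : g * x * g⁻¹ ∈ pLifts f p A :=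
  conj_mem_lifts h hx

section Diag

/-- Multiplication by a unit. -/
def scaleEquiv (u : Fˣ) : F ≃ₗ[F] F where
  toFun x := (u : F) * x
  invFun x := ((u⁻¹ : Fˣ) : F) * x
  map_add' x y := mul_add _ _ _
  map_smul' c x := by rw [RingHom.id_apply, smul_eq_mul, smul_eq_mul, mul_left_comm]
  left_inv x := (mul_assoc _ _ _).symm.trans (by rw [Units.inv_mul, one_mul])
  right_inv x := (mul_assoc _ _ _).symm.trans (by rw [Units.mul_inv, one_mul])

@[simp] theorem scaleEquiv_apply (u : Fˣ) (x : F) : scaleEquiv u x = (u : F) * x := rfl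

/-- The underlying map of `diagStd`. -/
noncomputable def diagLin (n : ℕ) (g : Unit' (stdHerm hF n)) : (Fin (n + 1) → F) ≃ₗ[F] (Fin (n + 1) → F) :=
  (consEquiv n).symm.trans
    (((scaleEquiv (detHom (stdHerm hF n) g)⁻¹).prodCongr g.1).trans (consEquiv n))

theorem diagLin_apply (n : ℕ) (g : Unit' (stdHerm hF n)) (a : F × (Fin n → F)) :
    diagLin hF n g (consEquiv n a) =
      consEquiv n ((((detHom (stdHerm hF n) g)⁻¹ : Fˣ) : F) * a.1, g.1 a.2) := by
  simp only [diagLin, LinearEquiv.trans_apply, LinearEquiv.symm_apply_apply, LinearEquiv.prodCongr_apply,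
    scaleEquiv_apply]

theorem diagLin_mem (n : ℕ) (g : Unit' (stdHerm hF n)) : diagLin hF n g ∈ Unit' (stdHerm hF (n + 1)) := by
  intro x y
  obtain ⟨a, rfl⟩ := (consEquiv (F := F) n).surjective x
  obtain ⟨b, rfl⟩ := (consEquiv (F := F) n).surjective y
  have h1 := detHom_normOne hF n g⁻¹
  rw [MonoidHom.mem_ker, powMonoidHom_apply, map_inv] at h1
  have h2 := congrArg Units.val h1
  rw [Units.val_pow_eq_pow_val, Units.val_one, pow_succ'] at h2
  rw [diagLin_apply, diagLin_apply, h_consEquiv hF, h_consEquiv hF, unit_h, mul_pow]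
  linear_combination a.1 * b.1 ^ q * h2

/-- Extension of an isometry by the inverse determinant in the first coordinate. -/
noncomputable def diagStd (n : ℕ) : Unit' (stdHerm hF n) →* Unit' (stdHerm hF (n + 1)) :=
  MonoidHom.mk' (fun g => ⟨diagLin hF n g, diagLin_mem hF n g⟩) fun g g' => unit_ext fun x => by
    obtain ⟨a, rfl⟩ := (consEquiv (F := F) n).surjective x
    show diagLin hF n (g * g') (consEquiv n a) = diagLin hF n g (diagLin hF n g' (consEquiv n a))
    rw [diagLin_apply, diagLin_apply, diagLin_apply, map_mul, mul_inv, Units.val_mul, mul_apply, mul_assoc]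

theorem diagStd_apply (n : ℕ) (g : Unit' (stdHerm hF n)) (a : F × (Fin n → F)) :
    (diagStd hF n g).1 (consEquiv n a) =
      consEquiv n ((((detHom (stdHerm hF n) g)⁻¹ : Fˣ) : F) * a.1, g.1 a.2) :=
  diagLin_apply hF n g a

theorem diagStd_injective (n : ℕ) : Function.Injective (diagStd hF n) := fun g g' e =>
  unit_ext fun x => by
    have h := congrArg (fun k : Unit' (stdHerm hF (n + 1)) => k.1 (consEquiv n (0, x))) e
    simp only [diagStd_apply] at h
    exact congrArg Prod.snd ((consEquiv n).injective h)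

theorem detHom_diagStd (n : ℕ) (g : Unit' (stdHerm hF n)) :
    detHom (stdHerm hF (n + 1)) (diagStd hF n g) = 1 := by
  have h := LinearEquiv.det_conj
    ((scaleEquiv (detHom (stdHerm hF n) g)⁻¹).prodCongr g.1) (consEquiv n)
  refine h.trans (Units.ext ?_)
  rw [Units.val_one, LinearEquiv.coe_det]
  have e : ((((scaleEquiv (detHom (stdHerm hF n) g)⁻¹).prodCongr g.1)) :
      F × (Fin n → F) →ₗ[F] F × (Fin n → F)) =
      LinearMap.prodMap ((((detHom (stdHerm hF n) g)⁻¹ : Fˣ) : F) • LinearMap.id)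
        (g.1 : (Fin n → F) →ₗ[F] Fin n → F) := rfl
  rw [e, LinearMap.det_prodMap, LinearMap.det_smul, LinearMap.det_id, finrank_self, pow_one, mul_one,
    ← LinearEquiv.coe_det]
  exact Units.inv_mul _

theorem diagStd_eq_extendStd (n : ℕ) {g : Unit' (stdHerm hF n)} (hg : detHom (stdHerm hF n) g = 1) :
    diagStd hF n g = extendStd hF n g := unit_ext fun x => by
  obtain ⟨p, rfl⟩ := (consEquiv (F := F) n).surjective x
  rw [diagStd_apply, extendStd_apply, hg, inv_one, Units.val_one, one_mul]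

/-- A kernel of order prime to the index of the line stabiliser is impossible. -/
theorem false_of_line {n : ℕ} (hn : 2 ≤ n) {p : ℕ} [Fact p.Prime] [CharP F p]
    {Δ : Type u} [Group Δ] [Finite Δ] {ψ : Δ →* Unit' (stdHerm hF (n + 1))} (E : Ext ψ ℓ)
    {m : ℕ} (hm : ¬ ℓ ∣ m) (hcard : Nat.card (SG (stdHerm hF (n + 1))) ∣ m * Nat.card (Unit' (stdHerm hF n)))
    (hsplit : n = 2 ∧ p ≠ ℓ ∨ 3 ≤ n ∧ ¬ (n = 3 ∧ q = 2) ∧ Split ψ {consEquiv n ((1 : F), (0 : Fin n → F))}) :
    False := by
  classical
  set d := diagStd hF n with hd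
  have hK : d.range ≤ SG (stdHerm hF (n + 1)) := by
    rintro _ ⟨g, rfl⟩
    exact detHom_diagStd hF n g
  set A := (SG (stdHerm hF n)).map d with hA
  have hAn : ∀ g, ∀ a ∈ A, d g * a * (d g)⁻¹ ∈ A := by
    rintro g _ ⟨s, hs, rfl⟩
    exact ⟨g * s * g⁻¹, (MonoidHom.normal_ker _).conj_mem s hs g, by simp⟩
  obtain ⟨L, hLmap, hLs, hLn⟩ : ∃ L : Subgroup Δ, L.map ψ = A ∧ (∀ g ∈ L, ψ g = 1 → g = 1) ∧
      ∀ c : Δ, ψ c ∈ d.range → ∀ x ∈ L, c * x * c⁻¹ ∈ L := by
    rcases hsplit with ⟨rfl, hpl⟩ | ⟨hn3, h32, hs⟩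
    · obtain ⟨h1, h2⟩ := pLifts_split hF E hpl d (diagStd_injective hF 2)
        (le_trans (map_le_range _ _) hK)
      exact ⟨_, h1, h2, fun c ⟨g, hg⟩ x hx => conj_pLifts (fun a ha => hg ▸ hAn g a ha) hx⟩
    · set w := consEquiv n ((1 : F), (0 : Fin n → F)) with hw
      have hAeq : A = fixS (stdHerm hF (n + 1)) {w} := by
        ext k
        constructor
        · rintro ⟨s, hs', rfl⟩
          refine ⟨detHom_diagStd hF n s, ?_⟩
          rintro u rfl
          rw [hd, diagStd_apply, MonoidHom.mem_ker.1 hs', inv_one, Units.val_one, one_mul, map_zero]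
        · rintro ⟨hk1, hk2⟩
          have hk := hk2 w rfl
          have key : ∀ v, k.1 (consEquiv n (0, v)) =
              consEquiv n (0, Fin.tail (k.1 (consEquiv n (0, v)))) := by
            intro v
            obtain ⟨a, ha⟩ := (consEquiv (F := F) n).surjective (k.1 (consEquiv n (0, v)))
            have h := unit_h k (consEquiv n (0, v)) w
            rw [hk, ← ha, hw, h_consEquiv, h_consEquiv, (stdHerm hF n).zero_right,
              (stdHerm hF n).zero_right] at h
            simp only [one_pow, mul_one, add_zero] at h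
            rw [← ha, show a = (0, a.2) from Prod.ext h rfl]
            simp [consEquiv]
          let g1 : (Fin n → F) →ₗ[F] (Fin n → F) :=
            (LinearMap.snd F F (Fin n → F)).comp ((consEquiv n).symm.toLinearMap.comp
              ((k.1 : (Fin (n + 1) → F) →ₗ[F] Fin (n + 1) → F).comp
                ((consEquiv n).toLinearMap.comp (LinearMap.inr F F (Fin n → F)))))
          have hg1a : ∀ v, g1 v = Fin.tail (k.1 (consEquiv n (0, v))) := fun v => rfl
          have hg1 : Function.Injective g1 := fun x y e => by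
            rw [hg1a, hg1a] at e
            have := k.1.injective ((key x).trans (e ▸ (key y).symm))
            exact congrArg Prod.snd ((consEquiv n).injective this)
          let g : Unit' (stdHerm hF n) := ⟨LinearEquiv.ofInjectiveEndo g1 hg1, fun x y => by
            show (stdHerm hF n).h (g1 x) (g1 y) = _
            have h := unit_h k (consEquiv n (0, x)) (consEquiv n (0, y))
            rw [key x, key y, h_consEquiv, h_consEquiv, zero_mul, zero_add] at h
            simpa [hg1a] using h⟩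
          have hext : extendStd hF n g = k := unit_ext fun v => by
            obtain ⟨a, rfl⟩ := (consEquiv (F := F) n).surjective v
            rw [extendStd_apply,
              show consEquiv n a = a.1 • w + consEquiv n (0, a.2) by
                rw [hw, ← map_smul, ← map_add]; congr 1; ext <;> simp,
              map_add, map_smul, hk, key, hw, ← map_smul, ← map_add]
            congr 1
            ext <;> simp [g, hg1a]
          have hgS : g ∈ SG (stdHerm hF n) := by
            show detHom _ g = 1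
            rw [← detHom_extendStd hF n g, hext, hk1]
          exact ⟨g, hgS, by rw [hd, diagStd_eq_extendStd hF n hgS, hext]⟩
      have hperf : Perf (stdHerm hF (n + 1)) {w} := perf_single hF (fun x => rfl)
        (Module.finrank_fin_fun F) hn3 h32 (by rw [hw, h_consEquiv, (stdHerm hF n).zero_left]; simp)
      refine ⟨lift ψ {w}, ?_, hs, fun c hc x hx => ?_⟩
      · rw [hAeq]; exact (lift_perfect E.central hperf (E.fixS_le_range _)).1
      · obtain ⟨g, hg⟩ := hc
        have h1 := conj_lift (g := c) hx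
        refine commutator_mono (comap_mono ?_) (comap_mono ?_) h1 <;>
        · intro k hk
          refine mem_fixS_span hk ?_
          rintro u rfl
          rw [← hg, Set.image_singleton, hw, hd, diagStd_apply, map_zero,
            show (((((detHom (stdHerm hF n) g)⁻¹ : Fˣ) : F) * 1), (0 : Fin n → F)) =
              (((detHom (stdHerm hF n) g)⁻¹ : Fˣ) : F) • ((1 : F), (0 : Fin n → F)) by
                ext <;> simp, map_smul]
          refine Submodule.mem_span_singleton.2
            ⟨((detHom (stdHerm hF n) g : Fˣ) : F), ?_⟩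
          rw [smul_smul, Units.mul_inv, one_smul]
  refine E.false_of_sub hK hm (by
    rw [← Nat.card_congr (MonoidHom.ofInjective (diagStd_injective hF n)).toEquiv]
    exact hcard) ?_
  intro z hz hz1
  -- a generator modulo the lifted fixer
  obtain ⟨⟨D, hDm⟩, hgen⟩ := IsCyclic.exists_generator (α := (detHom (stdHerm hF n)).range)
  obtain ⟨t, ht⟩ := hDm
  obtain ⟨c, hc⟩ : d t ∈ ψ.range := E.range_eq ▸ hK ⟨t, rfl⟩
  have hle : (d.range).comap ψ ≤ closure ((L : Set Δ) ∪ {c} ∪ (ψ.ker : Set Δ)) := by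
    intro a ha
    obtain ⟨g, hg⟩ := ha
    obtain ⟨i, hi⟩ : detHom (stdHerm hF n) g ∈ zpowers D := by
      obtain ⟨i, hi⟩ := mem_zpowers_iff.1 (hgen ⟨_, g, rfl⟩)
      exact mem_zpowers_iff.2 ⟨i, congrArg Subtype.val hi⟩
    have hs : g * (t ^ i)⁻¹ ∈ SG (stdHerm hF n) := by
      show detHom _ (g * (t ^ i)⁻¹) = 1
      rw [map_mul, map_inv, map_zpow, ht, ← hi, mul_inv_cancel]
    obtain ⟨x, hx, hxe⟩ : d (g * (t ^ i)⁻¹) ∈ L.map ψ := hLmap ▸ mem_map_of_mem _ hs
    have hk : (x * c ^ i)⁻¹ * a ∈ ψ.ker := by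
      rw [MonoidHom.mem_ker, map_mul, map_inv, map_mul, hxe, map_zpow, hc, ← hg, map_mul, map_inv,
        map_zpow]
      group
    have hS : ∀ y ∈ (L : Set Δ) ∪ {c} ∪ (ψ.ker : Set Δ),
        y ∈ closure ((L : Set Δ) ∪ {c} ∪ (ψ.ker : Set Δ)) := fun y hy => Subgroup.subset_closure hy
    have h2 := mul_mem (mul_mem (hS x (Or.inl (Or.inl hx))) (zpow_mem (hS c (Or.inl (Or.inr rfl))) i))
      (hS _ (Or.inr hk))
    rwa [mul_inv_cancel_left] at h2
  refine hLs z (commutator_closure_le ?_ ?_ (commutator_mono hle hle hz)) hz1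
  · rintro s ((hs | rfl) | hs) x hx
    · exact mul_mem (mul_mem hs hx) (inv_mem hs)
    · exact hLn _ ⟨t, hc.symm⟩ x hx
    · rw [← mem_center_iff.1 (E.central hs) x, mul_inv_cancel_right]; exact hx
  · have hL1 : ∀ x ∈ L, ∀ s, ψ s ∈ d.range → ⁅x, s⁆ ∈ L ∧ ⁅s, x⁆ ∈ L := by
      intro x hx s hs
      have h1 := hLn s hs x hx
      constructor
      · rw [show ⁅x, s⁆ = x * (s * x * s⁻¹)⁻¹ by simp [commutatorElement_def, mul_assoc]]
        exact mul_mem hx (inv_mem h1)
      · rw [show ⁅s, x⁆ = (s * x * s⁻¹) * x⁻¹ by simp [commutatorElement_def, mul_assoc]]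
        exact mul_mem h1 (inv_mem hx)
    have hrange : ∀ s ∈ ((L : Set Δ) ∪ {c} ∪ (ψ.ker : Set Δ)), ψ s ∈ d.range := by
      rintro s ((hs | rfl) | hs)
      · exact map_le_range _ _ (hLmap ▸ mem_map_of_mem ψ hs : ψ s ∈ A)
      · exact ⟨t, hc.symm⟩
      · rw [MonoidHom.mem_ker.1 hs]; exact one_mem _
    intro s hs u hu
    rcases hs with (hs' | hs') | hs'
    · exact (hL1 s hs' u (hrange u hu)).1
    · rcases hu with (hu' | hu') | hu'
      · exact (hL1 u hu' s (hrange s (Or.inl (Or.inr hs')))).2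
      · rw [hs', hu', commutatorElement_self]; exact one_mem _
      · rw [commutatorElement_eq_one_iff_mul_comm.2 (mem_center_iff.1 (E.central hu') s)]
        exact one_mem _
    · rw [commutatorElement_eq_one_iff_mul_comm.2 (mem_center_iff.1 (E.central hs') u).symm]
      exact one_mem _

end Diag

end CfsgLib.PSUCover
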