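import Cfsg.Prelude.Def_KGroupFacts
import Cfsg.Agent.Lib.PSUCover.Five
import Cfsg.Agent.Lib.Classical.Herm.Apps
import Cfsg.Agent.Lib.TwoCover.UnitaryBasic

/-!
`SU n F q` is centrally closed when every prime order kernel is excluded; cyclicity of its centre.
-/

set_option autoImplicit false
set_option linter.unusedSectionVars false
set_option linter.style.haveILetI false

namespace CfsgLib.PSUCover

open Module CfsgLib.Classical.Herm HermSpace Subgroup

universe u

variable {F : Type u} [Field F] [Fintype F] {q : ℕ} (hF : Fintype.card F = q ^ 2)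

/-- A finite abelian group, not trivial, has a subgroup with quotient of prime order. -/
theorem exists_prime_index {K : Type*} [CommGroup K] [Finite K] [Nontrivial K] :
    ∃ M : Subgroup K, M.index.Prime := by
  obtain ⟨M, hM, -⟩ := (eq_top_or_exists_le_coatom (⊥ : Subgroup K)).resolve_left bot_ne_top
  obtain ⟨x, -, hx⟩ := SetLike.exists_of_lt (lt_top_iff_ne_top.2 hM.1)
  refine ⟨M, ?_⟩
  have hne : Nontrivial (K ⧸ M) :=
    ⟨⟨(x : K ⧸ M), 1, fun h => hx ((QuotientGroup.eq_one_iff x).1 h)⟩⟩
  obtain ⟨r, hr, hrd⟩ := Nat.exists_prime_and_dvd (Finite.one_lt_card (α := K ⧸ M)).ne'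
  haveI := Fact.mk hr
  obtain ⟨y, hy⟩ := exists_prime_orderOf_dvd_card' r hrd
  have hle : M ≤ (zpowers y).comap (QuotientGroup.mk' M) := fun a ha => by
    rw [mem_comap, QuotientGroup.mk'_apply, (QuotientGroup.eq_one_iff a).2 ha]
    exact one_mem _
  rcases hM.le_iff.1 hle with h | h
  · have : zpowers y = ⊤ := by
      refine eq_top_iff.2 fun b _ => ?_
      obtain ⟨a, rfl⟩ := QuotientGroup.mk'_surjective M b
      exact (h ▸ mem_top a : a ∈ (zpowers y).comap (QuotientGroup.mk' M))
    rw [Subgroup.index_eq_card, ← Subgroup.card_top, ← this, Nat.card_zpowers, hy]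
    exact hr
  · obtain ⟨a, ha⟩ := QuotientGroup.mk'_surjective M y
    have : a ∈ M := h ▸ (show a ∈ (zpowers y).comap (QuotientGroup.mk' M) by
      rw [mem_comap, ha]; exact mem_zpowers y)
    have hy1 : y = 1 := by rw [← ha, QuotientGroup.mk'_apply, (QuotientGroup.eq_one_iff a).2 this]
    rw [hy1, orderOf_one] at hy
    exact absurd hy.symm hr.one_lt.ne'

/-- Perfect central extensions of the special unitary group are trivial. -/
theorem injective_of_noExt {n : ℕ} (h : ∀ ℓ : ℕ, ℓ.Prime → NoExt (stdHerm hF n) ℓ)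
    {E : Type u} [Group E] [Finite E] (π : E →* Cfsg.SU n F q) (hπ : Function.Surjective π)
    (hc : π.ker ≤ center E) (hp : _root_.commutator E = ⊤) : Function.Injective π := by
  rw [← MonoidHom.ker_eq_bot_iff]
  by_contra hne
  haveI : Nontrivial π.ker := (Subgroup.nontrivial_iff_ne_bot _).2 hne
  letI : CommGroup π.ker :=
    { (inferInstance : Group π.ker) with
      mul_comm := fun a b => Subtype.ext (mem_center_iff.1 (hc b.2) a.1) }
  obtain ⟨M, hM⟩ := exists_prime_index (K := π.ker)
  set N := M.map π.ker.subtype with hN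
  have hNk : N ≤ π.ker := map_subtype_le M
  haveI : N.Normal := ⟨fun a ha g => by
    rw [mem_center_iff.1 (hc (hNk ha)) g, mul_inv_cancel_right]; exact ha⟩
  let f : E ⧸ N →* Unit' (stdHerm hF n) :=
    (SG (stdHerm hF n)).subtype.comp
      ((suEquiv hF n).toMonoidHom.comp (QuotientGroup.lift N π hNk))
  have hfk : f.ker = π.ker.map (QuotientGroup.mk' N) := by
    ext x
    obtain ⟨a, rfl⟩ := QuotientGroup.mk'_surjective N x
    have e : f (QuotientGroup.mk' N a) = 1 ↔ a ∈ π.ker := by
      show ((suEquiv hF n (π a)).1 : Unit' (stdHerm hF n)) = 1 ↔ _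
      rw [MonoidHom.mem_ker, OneMemClass.coe_eq_one]
      exact (suEquiv hF n).map_eq_one_iff
    rw [MonoidHom.mem_ker, e]
    refine ⟨fun ha => mem_map_of_mem _ ha, ?_⟩
    rintro ⟨b, hb, hba⟩
    rw [QuotientGroup.mk'_apply, QuotientGroup.mk'_apply, QuotientGroup.eq] at hba
    have := mul_mem (show b ∈ π.ker from hb) (hNk hba)
    rwa [mul_inv_cancel_left] at this
  refine h M.index hM (E ⧸ N) f ⟨?_, ?_, ?_, hM, ?_⟩
  · rw [hfk]
    rintro _ ⟨a, ha, rfl⟩
    refine mem_center_iff.2 fun b => ?_
    obtain ⟨b, rfl⟩ := QuotientGroup.mk'_surjective N b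
    rw [← map_mul, ← map_mul, mem_center_iff.1 (hc ha) b]
  · ext x
    constructor
    · rintro ⟨y, rfl⟩
      exact (suEquiv hF n (QuotientGroup.lift N π hNk y)).2
    · intro hx
      obtain ⟨a, ha⟩ := hπ ((suEquiv hF n).symm ⟨x, hx⟩)
      refine ⟨QuotientGroup.mk' N a, ?_⟩
      show ((suEquiv hF n (π a)).1 : Unit' (stdHerm hF n)) = x
      rw [ha, MulEquiv.apply_symm_apply]
  · have e1 : ((QuotientGroup.mk' N).comp π.ker.subtype).ker = M := by
      ext a
      rw [MonoidHom.mem_ker, MonoidHom.comp_apply, QuotientGroup.mk'_apply, QuotientGroup.eq_one_iff]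
      refine ⟨?_, fun ha => ⟨a, ha, rfl⟩⟩
      rintro ⟨b, hb, e⟩
      rwa [Subtype.coe_injective e] at hb
    refine Eq.trans ?_ ((Subgroup.index_ker _).symm.trans (congrArg Subgroup.index e1))
    rw [hfk, MonoidHom.range_comp, Subgroup.range_subtype]
  · rw [_root_.commutator_def, ← Subgroup.map_top_of_surjective (QuotientGroup.mk' N)
      (QuotientGroup.mk'_surjective N), ← Subgroup.map_commutator, ← _root_.commutator_def, hp]

include hF in
theorem commutator_su {n : ℕ} (hn : 3 ≤ n) (h32 : ¬ (n = 3 ∧ q = 2)) :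
    _root_.commutator (Cfsg.SU n F q) = ⊤ := by
  apply Subgroup.map_injective (f := (suEquiv hF n).toMonoidHom) (suEquiv hF n).injective
  rw [_root_.commutator_def, Subgroup.map_commutator,
    Subgroup.map_top_of_surjective _ (suEquiv hF n).surjective]
  apply Subgroup.map_injective (SG (stdHerm hF n)).subtype_injective
  rw [Subgroup.map_commutator, ← MonoidHom.range_eq_map, Subgroup.range_subtype]
  exact perf_std hF hn h32

include hF in
theorem isCyclic_center_su {n : ℕ} (hn : 3 ≤ n) : IsCyclic (center (Cfsg.SU n F q)) := by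
  obtain ⟨φ, D⟩ := CfsgLib.TwoCover.Unitary.exists_FD hF
  have key : ∀ z : center (Cfsg.SU n F q), ∃ c : F, ∀ v, z.1.1.1.mulVec v = c • v := fun z =>
    let ⟨c, _, hc⟩ := CfsgLib.TwoCover.Unitary.center_scalar D hn z.2
    ⟨c, hc⟩
  choose c hc using key
  have h0 : (Pi.single ⟨0, by omega⟩ 1 : Fin n → F) ≠ 0 := by simp
  let χ : center (Cfsg.SU n F q) →* F :=
    { toFun := c
      map_one' := by
        refine smul_left_injective F h0 ?_
        show c 1 • _ = (1 : F) • _
        rw [← hc, one_smul]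
        exact Matrix.one_mulVec _
      map_mul' := fun a b => by
        refine smul_left_injective F h0 ?_
        show c (a * b) • _ = (c a * c b) • _
        rw [← hc (a * b), mul_smul, ← hc b, ← hc a]
        exact (Matrix.mulVec_mulVec _ _ _).symm }
  refine isCyclic_of_injective_ringHom χ fun a b h => ?_
  refine Subtype.ext (Subtype.ext (Subtype.ext (Matrix.mulVec_injective (funext fun v => ?_))))
  rw [hc a v, hc b v]
  exact congrArg (· • v) h

end CfsgLib.PSUCover
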