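import Cfsg.Agent.Lib.PSUCover.MonoBase

/-!
The prime three when it divides `q + 1`: monomial subgroups.
-/

set_option autoImplicit false
set_option linter.unusedSectionVars false
set_option linter.style.haveILetI false
set_option linter.unusedSimpArgs false

namespace CfsgLib.PSUCover

open Module CfsgLib.Classical.Herm HermSpace Subgroup
open scoped commutatorElement

universe u

variable {F : Type u} [Field F] [Fintype F] {V : Type*} [AddCommGroup V] [Module F V]
  {H : HermSpace F V} {Γ : Type*} [Group Γ] {f : Γ →* Unit' H} {ℓ : ℕ}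

theorem eq_one_of_sq (E : Ext f ℓ) (h2 : ℓ ≠ 2) {z : Γ} (hz : f z = 1) (hsq : z * z = 1) : z = 1 := by
  have h1 : z ^ ℓ = 1 := by
    have := pow_card_eq_one' (x := (⟨z, hz⟩ : f.ker))
    rw [E.card_ker] at this
    exact congrArg Subtype.val this
  refine orderOf_eq_one_iff.1 (Nat.eq_one_of_dvd_coprimes
    ((Nat.coprime_primes Nat.prime_two E.prime).2 (Ne.symm h2))
    (orderOf_dvd_of_pow_eq_one (by rw [pow_two]; exact hsq)) (orderOf_dvd_of_pow_eq_one h1))

/-- Lifts of two commuting elements exchanged by conjugation commute. -/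
theorem commute_of_swap (E : Ext f ℓ) (h2 : ℓ ≠ 2) {a b g : Γ} (h : Commute (f a) (f b))
    (ha : f g * f a * (f g)⁻¹ = f b) (hb : f g * f b * (f g)⁻¹ = f a) : Commute a b := by
  have hc := comm_central E.central h
  have e : ⁅b, a⁆ = ⁅a, b⁆ := by
    rw [comm_congr E.central (a' := g * a * g⁻¹) (b' := g * b * g⁻¹) (by simp [ha]) (by simp [hb])]
    exact comm_conj_invariant hc g
  refine commutatorElement_eq_one_iff_mul_comm.1 (eq_one_of_sq E h2 ?_ ?_)
  · rw [map_commutatorElement, commutatorElement_eq_one_iff_mul_comm]; exact h.eq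
  · nth_rewrite 2 [← e]
    rw [← commutatorElement_inv a b, mul_inv_cancel]

variable {q : ℕ} (hF : Fintype.card F = q ^ 2)

/-- Diagonal elements of determinant one, from all but one coordinate. -/
noncomputable def torusHom (m : ℕ) : (Fin m → normOne F q) →* Unit' (stdHerm hF (m + 1)) :=
  (diagHom hF).comp
    { toFun := fun c => Fin.cons (∏ i, c i)⁻¹ c
      map_one' := by funext i; refine Fin.cases ?_ ?_ i <;> simp
      map_mul' := fun c c' => by
        funext i
        refine Fin.cases ?_ ?_ i <;> simp [Finset.prod_mul_distrib, mul_comm] }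

theorem torusHom_eq {m : ℕ} {d : Fin (m + 1) → normOne F q} (hd : ∏ i, d i = 1) :
    torusHom hF m (Fin.tail d) = diagHom hF d := by
  show diagHom hF _ = _
  congr 1
  show Fin.cons (∏ i, Fin.tail d i)⁻¹ (Fin.tail d) = d
  conv_rhs => rw [← Fin.cons_self_tail d]
  congr 1
  rw [Fin.prod_univ_succ] at hd
  exact inv_eq_of_mul_eq_one_left hd

theorem torusHom_mem {m : ℕ} (c : Fin m → normOne F q) : torusHom hF m c ∈ SG (stdHerm hF (m + 1)) :=
  diagHom_mem_SG hF (by simp [Fin.prod_univ_succ])

/-- A kernel of order three with three dividing `q + 1`. -/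
theorem false_mono {k : ℕ} (h3 : 3 ∣ q + 1) {m : ℕ} (hm : ¬ 3 ∣ m)
    {Δ : Type u} [Group Δ] [Finite Δ] {ψ : Δ →* Unit' (stdHerm hF (k + 3))} (E : Ext ψ 3)
    (hcard : Nat.card (SG (stdHerm hF (k + 3))) ∣ m * (3 * (q + 1) ^ (k + 2))) : False := by
  classical
  let H := stdHerm hF (k + 3)
  let A := normOne F q
  let i0 : Fin (k + 3) := ⟨0, by omega⟩
  let i1 : Fin (k + 3) := ⟨1, by omega⟩
  let i2 : Fin (k + 3) := ⟨2, by omega⟩
  have h01 : i0 ≠ i1 := by simp [i0, i1, Fin.ext_iff]
  have h02 : i0 ≠ i2 := by simp [i0, i2, Fin.ext_iff]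
  have h12 : i1 ≠ i2 := by simp [i1, i2, Fin.ext_iff]
  let π : Equiv.Perm (Fin (k + 3)) := Equiv.swap i0 i1 * Equiv.swap i1 i2
  let ρ : Equiv.Perm (Fin (k + 3)) := Equiv.swap i1 i2
  have hπ3 : π.trans (π.trans π) = 1 := by
    refine Equiv.ext fun i => ?_
    by_cases e0 : i = i0
    · subst e0; simp [π, Equiv.swap_apply_def, h01, h02, h12, h01.symm, h02.symm, h12.symm]
    by_cases e1 : i = i1
    · subst e1; simp [π, Equiv.swap_apply_def, h01, h02, h12, h01.symm, h02.symm, h12.symm]
    by_cases e2 : i = i2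
    · subst e2; simp [π, Equiv.swap_apply_def, h01, h02, h12, h01.symm, h02.symm, h12.symm]
    simp [π, Equiv.swap_apply_def, e0, e1, e2]
  have hπsign : Equiv.Perm.sign π = 1 := by
    simp [π, Equiv.Perm.sign_swap h01, Equiv.Perm.sign_swap h12]
  set X := mono hF (1 : Fin (k + 3) → normOne F q) π with hX
  have hXS : X ∈ SG (stdHerm hF (k + 3)) := by
    apply Units.ext
    show (detHom (stdHerm hF (k + 3)) X : F) = 1
    rw [hX, detHom_mono, hπsign]
    simp
  have hX3 : X ^ 3 = 1 := by
    rw [pow_succ', pow_two, hX, mono_mul, mono_mul, hπ3]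
    convert mono_one hF (n := k + 3) (q := q) using 2
    funext i; simp
  set T := (torusHom hF (k + 2)).range with hT
  have hTS : T ≤ SG (stdHerm hF (k + 3)) := by
    rintro _ ⟨c, rfl⟩
    exact torusHom_mem hF c
  have hXT : ∀ c, X * torusHom hF (k + 2) c * X⁻¹ ∈ T := by
    intro c
    show X * diagHom hF _ * X⁻¹ ∈ T
    rw [hX, mono_conj_diag]
    refine ⟨_, torusHom_eq hF ?_⟩
    show ∏ i, (Fin.cons (∏ j, c j)⁻¹ c : Fin (k + 3) → normOne F q) (π i) = 1
    rw [Equiv.prod_comp π (fun i => (Fin.cons (∏ j, c j)⁻¹ c : Fin (k + 3) → normOne F q) i)]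
    simp [Fin.prod_univ_succ (n := k + 2)]
  set K := T ⊔ zpowers X with hK
  have hKS : K ≤ SG (stdHerm hF (k + 3)) := sup_le hTS (zpowers_le.2 hXS)
  have hXn : ∀ t ∈ T, X * t * X⁻¹ ∈ T := by rintro _ ⟨c, rfl⟩; exact hXT c
  haveI : Finite (SG (stdHerm hF (k + 3))) := by
    rw [← E.range_eq]
    exact Finite.of_surjective ψ.rangeRestrict ψ.rangeRestrict_surjective
  haveI : Finite K := Finite.of_injective _ (Subgroup.inclusion_injective hKS)
  have hdvd : 3 * (q + 1) ^ (k + 2) ∣ Nat.card K := by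
    have hcT : Nat.card T = (q + 1) ^ (k + 2) := by
      have hi : Function.Injective (torusHom hF (k + 2)) := fun c c' e => by
        funext i
        exact congrFun (diagHom_injective hF e) i.succ
      rw [← Nat.card_congr (MonoidHom.ofInjective hi).toEquiv, Nat.card_fun, Nat.card_fin,
        card_normOne_units hF]
    haveI hTn : (T.subgroupOf K).Normal := by
      have hle : K ≤ Subgroup.normalizer (T : Set (Unit' (stdHerm hF (k + 3)))) := by
        refine sup_le le_normalizer (zpowers_le.2 (mem_normalizer_iff.2 fun t => ⟨hXn t, fun ht => ?_⟩))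
        have h1 := hXn _ (hXn _ ht)
        have e : X * (X * (X * t * X⁻¹) * X⁻¹) * X⁻¹ = X ^ 3 * t * (X ^ 3)⁻¹ := by
          rw [pow_succ, pow_two]; group
        rwa [e, hX3, one_mul, inv_one, mul_one] at h1
      exact Subgroup.normal_subgroupOf_of_le_normalizer hle
    have hX1 : (QuotientGroup.mk' (T.subgroupOf K)) ⟨X, mem_sup_right (mem_zpowers X)⟩ ≠ 1 := by
      intro h
      obtain ⟨c, hc⟩ : X ∈ T := mem_subgroupOf.1 ((QuotientGroup.eq_one_iff _).1 h)
      have h2 := congrArg (fun g : Unit' (stdHerm hF (k + 3)) => g.1 (Pi.single i1 1) i0) hc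
      change (mono hF _ 1).1 _ _ = (mono hF _ π).1 _ _ at h2
      rw [mono_apply, mono_apply] at h2
      simp [π, Equiv.swap_apply_def, h01, h02, h12, h01.symm, h02.symm, h12.symm] at h2
    have h3i : 3 ∣ Nat.card (K ⧸ T.subgroupOf K) := by
      haveI : Fact (Nat.Prime 3) := ⟨Nat.prime_three⟩
      rw [← orderOf_eq_prime (p := 3) (x := (QuotientGroup.mk' (T.subgroupOf K))
        ⟨X, mem_sup_right (mem_zpowers X)⟩) ?_ hX1]
      · exact orderOf_dvd_natCard _
      · rw [← map_pow, show (⟨X, mem_sup_right (mem_zpowers X)⟩ : K) ^ 3 = 1 from Subtype.ext hX3, map_one]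
    rw [Subgroup.card_eq_card_quotient_mul_card_subgroup (T.subgroupOf K),
      Nat.card_congr (subgroupOfEquivOfLe (le_sup_left : T ≤ K)).toEquiv, hcT]
    exact Nat.mul_dvd_mul_right h3i _
  refine E.false_of_sub hKS hm (hcard.trans (Nat.mul_dvd_mul_left m hdvd)) fun z hz hz1 => ?_
  obtain ⟨Xt, hXt⟩ : X ∈ ψ.range := E.range_eq ▸ hXS
  -- the lifted torus is abelian
  obtain ⟨g, hg⟩ := IsCyclic.exists_generator (α := normOne F q)
  have hr : ∀ c, ∃ a, ψ a = torusHom hF (k + 2) c := fun c => by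
    have : torusHom hF (k + 2) c ∈ ψ.range := E.range_eq ▸ torusHom_mem hF c
    exact this
  choose lt hlt using hr
  let S : Set Δ := (Set.range fun j => lt (Pi.mulSingle j g)) ∪ (ψ.ker : Set Δ)
  have hSc : ∀ a ∈ S, ∀ b ∈ S, a * b = b * a := by
    rintro a (⟨i, rfl⟩ | ha) b (⟨j, rfl⟩ | hb)
    · by_cases hij : i = j
      · rw [hij]
      show Commute (lt _) (lt _)
      let sw : Fin (k + 3) → normOne F q := Fin.cons ⟨-1, by
        rw [MonoidHom.mem_ker, powMonoidHom_apply]
        apply Units.ext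
        rw [Units.val_pow_eq_pow_val, Units.val_neg, Units.val_one]
        rcases Nat.even_or_odd (q + 1) with he | ho
        · exact he.neg_one_pow
        · have : (2 : F) = 0 := by
            obtain ⟨p, e, hp, hc, hqe⟩ := exists_charP_pow hF
            have : p = 2 := by
              have hq : 2 ∣ q := by rw [Nat.odd_add_one, Nat.not_odd_iff_even] at ho; exact ho.two_dvd
              exact ((Nat.prime_dvd_prime_iff_eq Nat.prime_two hp).1
                (Nat.prime_two.dvd_of_dvd_pow (hqe ▸ hq))).symm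
            subst this
            exact_mod_cast CharP.cast_eq_zero F 2
          rw [ho.neg_one_pow]
          linear_combination -this⟩ 1
      set R := mono hF sw (Equiv.swap i.succ j.succ) with hR
      obtain ⟨Rt, hRt⟩ : R ∈ ψ.range := by
        rw [E.range_eq]
        apply Units.ext
        show (detHom (stdHerm hF (k + 3)) R : F) = 1
        rw [hR, detHom_mono, Equiv.Perm.sign_swap (fun e => hij (Fin.succ_injective _ e))]
        simp [sw, Fin.prod_univ_succ (n := k + 2)]
      refine commute_of_swap E (by norm_num) (g := Rt) ?_ ?_ ?_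
      · rw [hlt, hlt, Commute, SemiconjBy, ← map_mul, ← map_mul, mul_comm]
      all_goals
        rw [hRt, hlt, hlt]
        show R * diagHom hF _ * R⁻¹ = diagHom hF _
        rw [hR, mono_conj_diag]
        congr 1
        funext l
        refine Fin.cases ?_ (fun l => ?_) l
        · rw [Equiv.swap_apply_of_ne_of_ne (Fin.succ_ne_zero i).symm (Fin.succ_ne_zero j).symm]
          simp
        · show (Fin.cons _ _ : Fin (k + 3) → normOne F q) (Equiv.swap i.succ j.succ l.succ) = _
          rw [← (Fin.succ_injective _).map_swap]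
          simp only [MonoidHom.coe_mk, OneHom.coe_mk, Fin.cons_succ]
          by_cases e1 : l = i
          · subst e1; simp [Pi.mulSingle_apply, hij, Ne.symm hij]
          by_cases e2 : l = j
          · subst e2; simp [Pi.mulSingle_apply, hij, Ne.symm hij]
          simp [Equiv.swap_apply_of_ne_of_ne e1 e2, Pi.mulSingle_apply, e1, e2]
    · exact mem_center_iff.1 (E.central hb) _
    · exact (mem_center_iff.1 (E.central ha) _).symm
    · exact mem_center_iff.1 (E.central hb) _
  have hTc : T.comap ψ ≤ closure S := by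
    let B : Subgroup (Fin (k + 2) → normOne F q) := ((closure S).map ψ).comap (torusHom hF (k + 2))
    intro a ha
    obtain ⟨c, hc⟩ := ha
    have hcB : c ∈ B := by
      rw [← Finset.univ_prod_mulSingle c]
      refine B.prod_mem fun j _ => ?_
      obtain ⟨i, hi⟩ := mem_zpowers_iff.1 (hg (c j))
      have e : (Pi.mulSingle j (c j) : Fin (k + 2) → normOne F q) = Pi.mulSingle j g ^ i := by
        rw [← hi]; exact map_zpow (MonoidHom.mulSingle (fun _ => normOne F q) j) g i
      rw [e]
      refine B.zpow_mem ?_ i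
      exact ⟨_, Subgroup.subset_closure (Or.inl ⟨j, rfl⟩), hlt _⟩
    obtain ⟨b, hb, hbc⟩ := hcB
    have hk : b⁻¹ * a ∈ ψ.ker := by rw [MonoidHom.mem_ker, map_mul, map_inv, hbc, hc, inv_mul_cancel]
    have := mul_mem hb (Subgroup.subset_closure (k := S) (Or.inr hk))
    rwa [mul_inv_cancel_left] at this
  haveI : IsMulCommutative (closure S) := Subgroup.isMulCommutative_closure hSc
  have hab : ∀ a b : Δ, ψ a ∈ T → ψ b ∈ T → a * b = b * a := fun a b ha hb =>
    congrArg Subtype.val (IsMulCommutative.is_comm.comm (⟨a, hTc ha⟩ : closure S) ⟨b, hTc hb⟩)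
  have hXconj : ∀ a, ψ a ∈ T → ψ (Xt * a * Xt⁻¹) ∈ T := fun a ha => by
    rw [map_mul, map_mul, map_inv, hXt]; exact hXn _ ha
  have hXc : ∀ a, ψ a ∈ T → ψ ⁅a, Xt⁆ ∈ T := fun a ha => by
    rw [map_commutatorElement, commutatorElement_def, hXt,
      show ψ a * X * (ψ a)⁻¹ * X⁻¹ = ψ a * (X * (ψ a)⁻¹ * X⁻¹) by group]
    exact mul_mem ha (hXn _ (inv_mem ha))
  let L : Subgroup Δ :=
    { carrier := {y | ∃ a, ψ a ∈ T ∧ y = ⁅a, Xt⁆}
      one_mem' := ⟨1, by simp, by simp⟩
      mul_mem' := by
        rintro _ _ ⟨a, ha, rfl⟩ ⟨b, hb, rfl⟩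
        refine ⟨a * b, by rw [map_mul]; exact mul_mem ha hb, ?_⟩
        have e : ⁅a * b, Xt⁆ = a * ⁅b, Xt⁆ * a⁻¹ * ⁅a, Xt⁆ := by simp only [commutatorElement_def]; group
        rw [e, hab a _ ha (hXc b hb), mul_inv_cancel_right, hab _ _ (hXc b hb) (hXc a ha)]
      inv_mem' := by
        rintro _ ⟨a, ha, rfl⟩
        refine ⟨a⁻¹, by rw [map_inv]; exact inv_mem ha, ?_⟩
        have e : ⁅a⁻¹, Xt⁆ = a⁻¹ * ⁅a, Xt⁆⁻¹ * a := by simp only [commutatorElement_def]; group
        rw [e, hab a⁻¹ ⁅a, Xt⁆⁻¹ (by rw [map_inv]; exact inv_mem ha) (by rw [map_inv]; exact inv_mem (hXc a ha)),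
          inv_mul_cancel_right] }
  have hKc : K.comap ψ ≤ closure ((T.comap ψ : Set Δ) ∪ {Xt}) := by
    intro a ha
    have hle : K ≤ (closure ((T.comap ψ : Set Δ) ∪ {Xt})).map ψ := by
      refine sup_le (fun t ht => ?_) (zpowers_le.2 ⟨Xt, Subgroup.subset_closure (Or.inr rfl), hXt⟩)
      obtain ⟨b, rfl⟩ : t ∈ ψ.range := E.range_eq ▸ hTS ht
      exact mem_map_of_mem _ (Subgroup.subset_closure (Or.inl ht))
    obtain ⟨b, hb, hbe⟩ := hle ha
    have hk : ψ (b⁻¹ * a) ∈ T := by rw [map_mul, map_inv, hbe, inv_mul_cancel]; exact one_mem T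
    have := mul_mem hb (Subgroup.subset_closure (k := (T.comap ψ : Set Δ) ∪ {Xt}) (Or.inl hk))
    rwa [mul_inv_cancel_left] at this
  obtain ⟨a, ha, rfl⟩ : z ∈ L := by
    refine commutator_closure_le ?_ ?_ (commutator_mono hKc hKc hz)
    · rintro s (hs | rfl) _ ⟨b, hb, rfl⟩
      · refine ⟨b, hb, ?_⟩
        rw [hab s _ hs (hXc b hb), mul_inv_cancel_right]
      · refine ⟨s * b * s⁻¹, hXconj b hb, ?_⟩
        simp only [commutatorElement_def]
        group
    · rintro s (hs | hs) t (ht | ht)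
      · exact ⟨1, by simp, by rw [commutatorElement_one_left, commutatorElement_eq_one_iff_mul_comm,
          hab s t hs ht]⟩
      · exact ⟨s, hs, by rw [Set.mem_singleton_iff.1 ht]⟩
      · refine L.inv_mem (x := ⁅t, Xt⁆) ⟨t, ht, rfl⟩ |> fun h => ?_
        rwa [commutatorElement_inv, ← Set.mem_singleton_iff.1 hs] at h
      · exact ⟨1, by simp, by rw [Set.mem_singleton_iff.1 hs, Set.mem_singleton_iff.1 ht]; simp⟩
  -- an element inverting the three-cycle
  obtain ⟨c, hc⟩ := ha
  set d : Fin (k + 3) → normOne F q := Fin.cons (∏ j, c j)⁻¹ c with hd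
  change diagHom hF d = ψ a at hc
  have hcomm : Commute (ψ a) (ψ Xt) := by
    rw [map_commutatorElement, commutatorElement_eq_one_iff_mul_comm] at hz1
    exact hz1
  have hfix : ∀ i, d (π i) = d i := by
    have e : diagHom hF (fun i => d (π i)) = diagHom hF d := by
      rw [← mono_conj_diag hF 1 d π, ← hX, hc, ← hXt, ← hcomm.eq, mul_inv_cancel_right]
    exact fun i => congrFun (diagHom_injective hF e) i
  let ε : normOne F q := ⟨-1, by
    have h2 : ((-1 : Fˣ)) ^ 2 = 1 := by simp
    rw [MonoidHom.mem_ker, powMonoidHom_apply]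
    rcases Nat.even_or_odd (q + 1) with he | ho
    · exact he.neg_one_pow
    · obtain ⟨p, e, hp, hcp, hqe⟩ := exists_charP_pow hF
      have : p = 2 := by
        have hq : 2 ∣ q := by rw [Nat.odd_add_one, Nat.not_odd_iff_even] at ho; exact ho.two_dvd
        exact ((Nat.prime_dvd_prime_iff_eq Nat.prime_two hp).1
          (Nat.prime_two.dvd_of_dvd_pow (hqe ▸ hq))).symm
      subst this
      rw [ho.neg_one_pow]
      apply Units.ext
      rw [Units.val_neg, Units.val_one]
      exact CharTwo.neg_eq 1⟩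
  let sc : Fin (k + 3) → normOne F q := fun i => if i = i0 ∨ i = i1 ∨ i = i2 then ε else 1
  set R := mono hF sc ρ with hR
  have hprod : ∏ i, sc i = ε * ε * ε := by
    rw [← Finset.prod_subset (s₁ := {i0, i1, i2}) (Finset.subset_univ _) (fun i _ hi => ?_)]
    · rw [Finset.prod_insert (by simp [h01, h02]), Finset.prod_insert (by simp [h12]), Finset.prod_singleton]
      simp [sc, mul_assoc]
    · simp only [Finset.mem_insert, Finset.mem_singleton] at hi
      simp [sc, hi]
  obtain ⟨Rt, hRt⟩ : R ∈ ψ.range := by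
    rw [E.range_eq]
    apply Units.ext
    show (detHom (stdHerm hF (k + 3)) R : F) = 1
    rw [hR, detHom_mono, hprod, Equiv.Perm.sign_swap h12]
    simp [ε]
  have hRd : R * diagHom hF d * R⁻¹ = diagHom hF d := by
    rw [hR, mono_conj_diag]
    congr 1
    funext i
    have e0 : d i1 = d i0 := by
      rw [← hfix i0]
      simp [π, Equiv.swap_apply_def, h01, h02, h12, h01.symm, h02.symm, h12.symm]
    have e1 : d i2 = d i1 := by
      rw [← hfix i1]
      simp [π, Equiv.swap_apply_def, h01, h02, h12, h01.symm, h02.symm, h12.symm]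
    by_cases f1 : i = i1
    · subst f1; simp [ρ, e1]
    by_cases f2 : i = i2
    · subst f2; simp [ρ, e1]
    simp [ρ, Equiv.swap_apply_of_ne_of_ne f1 f2]
  have hρπ : ρ.trans π = (π.trans π).trans ρ := by
    refine Equiv.ext fun i => ?_
    by_cases e0 : i = i0
    · subst e0; simp [π, ρ, Equiv.swap_apply_def, h01, h02, h12, h01.symm, h02.symm, h12.symm]
    by_cases e1 : i = i1
    · subst e1; simp [π, ρ, Equiv.swap_apply_def, h01, h02, h12, h01.symm, h02.symm, h12.symm]
    by_cases e2 : i = i2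
    · subst e2; simp [π, ρ, Equiv.swap_apply_def, h01, h02, h12, h01.symm, h02.symm, h12.symm]
    simp [π, ρ, Equiv.swap_apply_def, e0, e1, e2]
  have hRX : R * X * R⁻¹ = X⁻¹ := by
    rw [hX, hR, mono_conj_perm hF hρπ]
    · rw [eq_inv_iff_mul_eq_one, mono_mul, Equiv.trans_assoc, hπ3]
      convert mono_one hF (n := k + 3) (q := q) using 2
      funext i; simp
    · intro i
      by_cases e0 : i = i0
      · subst e0; simp [sc, π, Equiv.swap_apply_def, h01, h02, h12, h01.symm, h02.symm, h12.symm]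
      by_cases e1 : i = i1
      · subst e1; simp [sc, π, Equiv.swap_apply_def, h01, h02, h12, h01.symm, h02.symm, h12.symm]
      by_cases e2 : i = i2
      · subst e2; simp [sc, π, Equiv.swap_apply_def, h01, h02, h12, h01.symm, h02.symm, h12.symm]
      simp [sc, π, Equiv.swap_apply_def, e0, e1, e2]
  have hz' := comm_central E.central hcomm
  have h4 : ⁅a, Xt⁻¹⁆ = ⁅a, Xt⁆ := by
    rw [comm_congr E.central (a' := Rt * a * Rt⁻¹) (b' := Rt * Xt * Rt⁻¹)
      (by simp [hRt, ← hc, hRd]) (by simp [hRt, hXt, hRX])]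
    exact comm_conj_invariant hz' Rt
  refine eq_one_of_sq E (by norm_num) hz1 ?_
  nth_rewrite 2 [← h4]
  rw [← comm_mul_right (comm_central E.central (by rw [map_inv]; exact hcomm.inv_right)), mul_inv_cancel,
    commutatorElement_one_right]

end CfsgLib.PSUCover
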