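import Cfsg.Agent.Lib.PSUCover.Line
import Mathlib.LinearAlgebra.Matrix.Permutation

/-!
Monomial isometries of the standard Hermitian space.
-/

set_option autoImplicit false
set_option linter.unusedSectionVars false

namespace CfsgLib.PSUCover

open Module CfsgLib.Classical.Herm HermSpace Subgroup

universe u

variable {F : Type u} [Field F] [Fintype F] {q : ℕ} (hF : Fintype.card F = q ^ 2) {n : ℕ}

/-- The elements of norm one. -/
noncomputable abbrev normOne (F : Type u) [Field F] (q : ℕ) : Subgroup Fˣ :=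
  (powMonoidHom (q + 1) : Fˣ →* Fˣ).ker

theorem normOne_mul_pow {a : Fˣ} (h : a ∈ normOne F q) : (a : F) * (a : F) ^ q = 1 := by
  rw [MonoidHom.mem_ker, powMonoidHom_apply] at h
  rw [← pow_succ', ← Units.val_pow_eq_pow_val, h, Units.val_one]

/-- The linear map `x ↦ (cᵢ x_{π i})`. -/
def monoLin (c : Fin n → Fˣ) (π : Equiv.Perm (Fin n)) : (Fin n → F) ≃ₗ[F] (Fin n → F) where
  toFun x i := (c i : F) * x (π i)
  invFun x i := (((c (π.symm i))⁻¹ : Fˣ) : F) * x (π.symm i)
  map_add' x y := funext fun i => mul_add _ _ _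
  map_smul' a x := funext fun i => mul_left_comm _ _ _
  left_inv x := funext fun i => by simp [← mul_assoc]
  right_inv x := funext fun i => by simp [← mul_assoc]

theorem monoLin_mem {c : Fin n → Fˣ} (hc : ∀ i, c i ∈ normOne F q) (π : Equiv.Perm (Fin n)) :
    monoLin c π ∈ Unit' (stdHerm hF n) := by
  intro x y
  show Cfsg.hermForm n F q (fun i => (c i : F) * x (π i)) (fun i => (c i : F) * y (π i)) = _
  rw [Cfsg.hermForm, stdHerm_h, Cfsg.hermForm, ← Equiv.sum_comp π (fun i => x i * y i ^ q)]
  refine Finset.sum_congr rfl fun i _ => ?_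
  rw [mul_pow]
  linear_combination (x (π i) * y (π i) ^ q) * normOne_mul_pow (hc i)

/-- A monomial isometry. -/
def mono (c : Fin n → normOne F q) (π : Equiv.Perm (Fin n)) : Unit' (stdHerm hF n) :=
  ⟨monoLin (fun i => (c i).1) π, monoLin_mem hF (fun i => (c i).2) π⟩

theorem mono_apply (c : Fin n → normOne F q) (π : Equiv.Perm (Fin n)) (x : Fin n → F) (i : Fin n) :
    (mono hF c π).1 x i = ((c i : Fˣ) : F) * x (π i) := rfl

theorem mono_mul (c c' : Fin n → normOne F q) (π π' : Equiv.Perm (Fin n)) :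
    mono hF c π * mono hF c' π' = mono hF (fun i => c i * c' (π i)) (π.trans π') :=
  unit_ext fun x => funext fun i => by
    rw [mul_apply, mono_apply, mono_apply, mono_apply, Subgroup.coe_mul, Units.val_mul,
      Equiv.trans_apply, mul_assoc]

theorem mono_one : mono hF (1 : Fin n → normOne F q) 1 = 1 :=
  unit_ext fun x => funext fun i => by simp [mono_apply]

theorem detHom_mono (c : Fin n → normOne F q) (π : Equiv.Perm (Fin n)) :
    (detHom (stdHerm hF n) (mono hF c π) : F) =
      ((Equiv.Perm.sign π : ℤ) : F) * ((∏ i, c i : normOne F q) : Fˣ) := by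
  show (LinearEquiv.det (monoLin (fun i => (c i).1) π) : F) = _
  rw [LinearEquiv.coe_det, ← LinearMap.det_toMatrix']
  have e : LinearMap.toMatrix' ((monoLin (fun i => (c i).1) π : (Fin n → F) ≃ₗ[F] Fin n → F) :
      (Fin n → F) →ₗ[F] Fin n → F) = Matrix.diagonal (fun i => ((c i : Fˣ) : F)) * π.permMatrix F := by
    ext i j
    rw [Matrix.diagonal_mul, LinearMap.toMatrix'_apply]
    show ((c i : Fˣ) : F) * (Pi.single j (1 : F) : Fin n → F) (π i) = _
    congr 1
    simp [Equiv.Perm.permMatrix, PEquiv.toMatrix_apply, Pi.single_apply, eq_comm]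
  rw [e, Matrix.det_mul, Matrix.det_diagonal, Matrix.det_permutation, mul_comm]
  congr 1
  simp [Units.coe_prod]

/-- The diagonal isometries. -/
def diagHom : (Fin n → normOne F q) →* Unit' (stdHerm hF n) where
  toFun c := mono hF c 1
  map_one' := mono_one hF
  map_mul' c c' := by rw [mono_mul]; rfl

theorem mono_conj_diag (c d : Fin n → normOne F q) (π : Equiv.Perm (Fin n)) :
    mono hF c π * diagHom hF d * (mono hF c π)⁻¹ = diagHom hF (fun i => d (π i)) := by
  rw [mul_inv_eq_iff_eq_mul]
  show mono hF c π * mono hF d 1 = mono hF _ 1 * mono hF c π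
  rw [mono_mul, mono_mul]
  congr 1
  funext i
  exact mul_comm _ _

theorem mono_conj_perm {c : Fin n → normOne F q} {π ρ ρ' : Equiv.Perm (Fin n)}
    (h : π.trans ρ = ρ'.trans π) (hc : ∀ i, c (ρ' i) = c i) :
    mono hF c π * mono hF 1 ρ * (mono hF c π)⁻¹ = mono hF 1 ρ' := by
  rw [mul_inv_eq_iff_eq_mul, mono_mul, mono_mul, h]
  congr 1
  funext i
  simp [hc i]

theorem diagHom_injective : Function.Injective (diagHom hF (n := n) (q := q)) := fun c c' e => by
  funext i
  have := congrArg (fun g : Unit' (stdHerm hF n) => g.1 (Pi.single i 1) i) e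
  simp only [diagHom, MonoidHom.coe_mk, OneHom.coe_mk, mono_apply, Equiv.Perm.coe_one, id_eq,
    Pi.single_eq_same, mul_one] at this
  exact Subtype.ext (Units.ext this)

theorem diagHom_mem_SG {c : Fin n → normOne F q} (h : ∏ i, c i = 1) : diagHom hF c ∈ SG (stdHerm hF n) := by
  apply Units.ext
  show (detHom (stdHerm hF n) (mono hF c 1) : F) = 1
  rw [detHom_mono, h]
  simp

end CfsgLib.PSUCover
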