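import Cfsg.Agent.Lib.PSUCover.Iso

/-!
Alternating biadditive pairings lifting the imaginary part of a Hermitian form.
-/

set_option autoImplicit false
set_option linter.unusedSectionVars false

namespace CfsgLib.PSUCover

open CfsgLib.Classical.Herm HermSpace

variable {F W A : Type*} [Field F] [AddCommGroup W] [Module F W] [AddCommGroup A]

/-- An alternating biadditive pairing over `h x y - h y x`. -/
structure Pairing (H : HermSpace F W) (c : W → W → A) (π : A →+ F) : Prop where
  add_left : ∀ x x' y, c (x + x') y = c x y + c x' y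
  add_right : ∀ x y y', c x (y + y') = c x y + c x y'
  self : ∀ x, c x x = 0
  image : ∀ x y, π (c x y) = H.h x y - H.h y x

/-- A scalar induced by an automorphism fixing the kernel. -/
def GoodScalar (c : W → W → A) (π : A →+ F) (b : F) : Prop :=
  ∃ σ : A →+ A, (∀ a, π a = 0 → σ a = a) ∧ ∀ x y, c (b • x) (b • y) = σ (c x y)

variable {H : HermSpace F W} {c : W → W → A} {π : A →+ F}

theorem Pairing.zero_left (P : Pairing H c π) (y : W) : c 0 y = 0 := by
  simpa using (P.add_left 0 0 y).symm

theorem Pairing.zero_right (P : Pairing H c π) (x : W) : c x 0 = 0 := by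
  simpa using (P.add_right x 0 0).symm

theorem Pairing.neg_left (P : Pairing H c π) (x y : W) : c (-x) y = -c x y :=
  eq_neg_of_add_eq_zero_left (by rw [← P.add_left, neg_add_cancel, P.zero_left])

/-- Two good scalars `b`, `b + 1` make adjoint maps balanced. -/
theorem Pairing.balanced (P : Pairing H c π) {b : F}
    (hb2 : b ^ 2 + b + 1 ≠ 0) (hg : GoodScalar c π b) (hg1 : GoodScalar c π (b + 1))
    (m m' : W →ₗ[F] W) (hm : ∀ x y, H.h (m x) y = H.h x (m' y)) (x y : W) :
    c (m x) y = c x (m' y) := by
  let D : W → W → A := fun x y => c (m x) y - c x (m' y)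
  have hπ : ∀ x y, π (D x y) = 0 := fun x y => by
    show π (c (m x) y - c x (m' y)) = 0
    have h' : H.h y (m x) = H.h (m' y) x := by rw [← H.symm' (m x) y, hm, H.symm']
    rw [map_sub, P.image, P.image, hm, h', sub_self]
  have hinv : ∀ {β : F}, GoodScalar c π β → ∀ x y, D (β • x) (β • y) = D x y := by
    rintro β ⟨σ, hσ, hc⟩ x y
    show c (m (β • x)) (β • y) - c (β • x) (m' (β • y)) = _
    rw [map_smul, map_smul, hc, hc, ← map_sub, hσ]
    exact hπ x y
  have haddl : ∀ x x' y, D (x + x') y = D x y + D x' y := fun x x' y => by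
    show c (m (x + x')) y - c (x + x') (m' y) = _
    rw [map_add, P.add_left, P.add_left]
    exact add_sub_add_comm _ _ _ _
  have haddr : ∀ x y y', D x (y + y') = D x y + D x y' := fun x y y' => by
    show c (m x) (y + y') - c x (m' (y + y')) = _
    rw [map_add, P.add_right, P.add_right]
    exact add_sub_add_comm _ _ _ _
  have h1 : ∀ x y, D x (b • y) + D (b • x) y + D x y = 0 := by
    intro x y
    have e := hinv hg1 x y
    rw [add_smul, one_smul, add_smul, one_smul, haddl, haddr, haddr, hinv hg] at e
    calc D x (b • y) + D (b • x) y + D x y = (D x y + D (b • x) y + (D x (b • y) + D x y)) - D x y := by abel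
      _ = 0 := by rw [e, sub_self]
  have h2 : ∀ x y, D x ((b ^ 2 + b + 1) • y) = 0 := by
    intro x y
    have e := h1 x (b • y)
    rw [hinv hg, smul_smul, ← pow_two] at e
    rw [add_smul, add_smul, one_smul, haddr, haddr]
    calc D x (b ^ 2 • y) + D x (b • y) + D x y = D x (b ^ 2 • y) + D x y + D x (b • y) := by abel
      _ = 0 := e
  have h3 := h2 x ((b ^ 2 + b + 1)⁻¹ • y)
  rw [smul_smul, mul_inv_cancel₀ hb2, one_smul] at h3
  exact eq_of_sub_eq_zero h3

/-- The pairing factors through the form. -/
theorem Pairing.factor (P : Pairing H c π) {b : F}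
    (hb2 : b ^ 2 + b + 1 ≠ 0) (hg : GoodScalar c π b) (hg1 : GoodScalar c π (b + 1)) (v x y : W) :
    c x (H.h v v • y) = c (H.h x y • v) v := by
  let m : W →ₗ[F] W := (H.form y).smulRight v
  let m' : W →ₗ[F] W := (H.form v).smulRight y
  have h := P.balanced hb2 hg hg1 m m' (fun z w => by
    show H.h (H.h z y • v) w = H.h z (H.h w v • y)
    rw [H.smul_left, H.smul_right, H.symm', mul_comm]) x v
  exact h.symm

/-- A value generated by the pairing and lying in the kernel is zero. -/
theorem Pairing.eq_zero (P : Pairing H c π) {v : W} (hv : H.h v v = 1)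
    (hf : ∀ x y, c x y = c (H.h x y • v) v) {a : A}
    (ha : a ∈ AddSubgroup.closure (Set.range fun z : W × W => c z.1 z.2)) (h0 : π a = 0) : a = 0 := by
  let Φ : F →+ A :=
    { toFun := fun u => c (u • v) v
      map_zero' := by rw [zero_smul, P.zero_left]
      map_add' := fun u u' => by rw [add_smul, P.add_left] }
  obtain ⟨u, rfl⟩ : a ∈ Φ.range := by
    refine (AddSubgroup.closure_le _).2 ?_ ha
    rintro _ ⟨⟨x, y⟩, rfl⟩
    exact ⟨H.h x y, (hf x y).symm⟩
  have hu : H.conj u = u := by
    change π (c (u • v) v) = 0 at h0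
    rw [P.image, H.smul_left, H.smul_right, hv, mul_one, mul_one] at h0
    exact (sub_eq_zero.1 h0).symm
  obtain ⟨t, ht⟩ := H.norm_surj u hu
  show c (u • v) v = 0
  have e := hf (t • v) (t • v)
  rw [P.self, H.smul_left, H.smul_right, hv, mul_one, ht] at e
  exact e.symm

/-- The pairing factors through the form, with four scalars and an orthonormal basis of three vectors. -/
theorem Pairing.factor_four (P : Pairing H c π) {ω : F} (hω : ω * H.conj ω = 1)
    (hall : ∀ k : F, k = 0 ∨ k = 1 ∨ k = ω ∨ k = 1 + ω) (hω1 : ω ≠ 1)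
    (hsc : ∀ x y, c (ω • x) (ω • y) = c x y) (v : Fin 3 → W)
    (hv : ∀ i j, H.h (v i) (v j) = if i = j then 1 else 0)
    (hbas : ∀ x, x = ∑ i, H.h x (v i) • v i)
    (hdiag : ∀ i j, i ≠ j → ∃ α β : F, α * H.conj β ≠ 1 ∧
      ∀ a a' : F, c (α • a • v i) (β • a' • v j) = c (a • v i) (a' • v j))
    (hperm : ∀ i (a a' : F), c (a • v i) (a' • v i) = c (a • v 0) (a' • v 0)) (x y : W) :
    c x y = c (H.h x y • v 0) (v 0) := by
  have hbal : ∀ k x y, c (k • x) y = c x (H.conj k • y) := by
    intro k x y
    have hw : ∀ x y, c (ω • x) y = c x (H.conj ω • y) := fun x y => by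
      have e := hsc x (H.conj ω • y)
      rwa [smul_smul, hω, one_smul] at e
    rcases hall k with rfl | rfl | rfl | rfl
    · rw [map_zero, zero_smul, zero_smul, P.zero_left, P.zero_right]
    · rw [map_one, one_smul, one_smul]
    · exact hw x y
    · rw [map_add, map_one, add_smul, add_smul, one_smul, one_smul, P.add_left, P.add_right, hw]
  have hone : ∀ i j (a a' : F), c (a • v i) (a' • v j) = c ((a * H.conj a') • v i) (v j) := fun i j a a' => by
    rw [mul_comm, ← smul_smul, hbal (H.conj a') (a • v i) (v j), H.conj_conj]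
  have hoff : ∀ i j, i ≠ j → ∀ a a' : F, c (a • v i) (a' • v j) = 0 := by
    intro i j hij a a'
    obtain ⟨α, β, hαβ, hinv⟩ := hdiag i j hij
    have e : ∀ u, c ((α * H.conj β * u) • v i) (v j) = c (u • v i) (v j) := fun u => by
      have h := hinv u 1
      rw [smul_smul α u, smul_smul β 1, mul_one, one_smul, hone i j (α * u) β] at h
      rwa [show α * u * H.conj β = α * H.conj β * u by ring] at h
    have h2 : ∀ u, c (((α * H.conj β - 1) * u) • v i) (v j) = 0 := fun u => by
      rw [sub_mul, one_mul, sub_eq_add_neg, add_smul, neg_smul, P.add_left, P.neg_left, e, add_neg_cancel]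
    rw [hone i j, ← mul_div_cancel₀ (a * H.conj a') (sub_ne_zero.2 hαβ)]
    exact h2 _
  let Φ : F →+ A :=
    { toFun := fun u => c (u • v 0) (v 0)
      map_zero' := by rw [zero_smul, P.zero_left]
      map_add' := fun u u' => by rw [add_smul, P.add_left] }
  have hxy : H.h x y = ∑ i, H.h x (v i) * H.conj (H.h y (v i)) := by
    conv_lhs => rw [hbas x]
    show H.form y _ = _
    rw [map_sum]
    exact Finset.sum_congr rfl fun i _ => by rw [map_smul, form_apply, smul_eq_mul, H.symm']
  let L : W → W →+ A := fun b => { toFun := fun a => c a b, map_zero' := P.zero_left b, map_add' := fun a a' => P.add_left a a' b }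
  let R : W → W →+ A := fun a => { toFun := fun b => c a b, map_zero' := P.zero_right a, map_add' := fun b b' => P.add_right a b b' }
  show _ = Φ (H.h x y)
  rw [hxy, map_sum]
  conv_lhs => rw [hbas x, hbas y]
  show L _ _ = _
  rw [map_sum]
  refine Finset.sum_congr rfl fun i _ => ?_
  show R _ _ = _
  rw [map_sum]
  refine (Finset.sum_eq_single i (fun j _ hj => hoff i j (Ne.symm hj) _ _)
    (fun h => absurd (Finset.mem_univ i) h)).trans ?_
  show c _ _ = c _ _
  rw [hperm i, hone 0 0]

end CfsgLib.PSUCover
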