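import Cfsg.Agent.Lib.PSUCover.Line
import Cfsg.Agent.Lib.PSUCover.Cyclic
import Cfsg.Agent.Lib.PSUCover.Mono

/-!
Dimension three: kernels of order different from the characteristic.
-/

set_option autoImplicit false
set_option linter.unusedSectionVars false
set_option linter.style.haveILetI false

namespace CfsgLib.PSUCover

open Module CfsgLib.Classical.Herm HermSpace Subgroup

universe u

variable {F : Type u} [Field F] [Fintype F] {q : ℕ} (hF : Fintype.card F = q ^ 2)
  {p : ℕ} [Fact p.Prime] [CharP F p]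

include hF in
omit [Fact p.Prime] in
theorem not_dvd_of_ne {ℓ : ℕ} (hℓ : ℓ.Prime) (hne : ℓ ≠ p) : ¬ ℓ ∣ q := by
  intro h
  obtain ⟨r, e, hr, hc, hq⟩ := exists_charP_pow hF
  have : r = p := CharP.eq F hc ‹CharP F p›
  subst this
  exact hne ((Nat.prime_dvd_prime_iff_eq hℓ hr).1 (hℓ.dvd_of_dvd_pow (hq ▸ h)))

/-- The prime `ℓ` differs from the characteristic. -/
theorem noExt_three_ne (hq : 3 ≤ q) {ℓ : ℕ} (hne : ℓ ≠ p) : NoExt (stdHerm hF 3) ℓ := by
  intro Γ _ _ f E
  have hℓq := not_dvd_of_ne hF E.prime hne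
  obtain ⟨r, rfl⟩ : ∃ r, q = r + 1 := ⟨q - 1, by omega⟩
  -- `N = q² - q + 1`
  set N := (r + 1) * r + 1 with hN
  have e2 : (r + 1) ^ 2 - 1 = r * (r + 2) := Nat.sub_eq_of_eq_add (by ring)
  have e3 : (r + 1) ^ 3 + 1 = (r + 2) * N := by rw [hN]; ring
  have hS : Nat.card (SG (stdHerm hF 3)) = (r + 1) ^ 3 * ((r * (r + 2)) * ((r + 2) * N)) := by
    rw [card_SG_three hF, e2, e3]
  have hU : Nat.card (Unit' (stdHerm hF 2)) = (r + 1) * ((r + 2) * (r * (r + 2))) := by
    rw [(card_unit_small hF).1, e2]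
  by_cases hN' : ℓ ∣ N
  · by_cases h3 : ℓ = 3
    · subst h3
      have hq1 : 3 ∣ r + 1 + 1 := by
        have : r % 3 = 0 ∨ r % 3 = 1 ∨ r % 3 = 2 := by omega
        rw [hN, Nat.dvd_iff_mod_eq_zero, Nat.add_mod, Nat.mul_mod, Nat.add_mod r 1] at hN'
        rcases this with h | h | h <;> rw [h] at hN' <;> omega
      obtain ⟨j, hj⟩ : ∃ j, r = 3 * j + 1 := ⟨r / 3, by omega⟩
      have eN : N = 3 * (3 * j * j + 3 * j + 1) := by rw [hN, hj]; ring
      refine false_mono hF (k := 0) hq1 (m := (r + 1) ^ 3 * r * (3 * j * j + 3 * j + 1)) ?_ E ?_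
      · intro h
        rcases (Nat.Prime.dvd_mul Nat.prime_three).1 h with h | h
        · rcases (Nat.Prime.dvd_mul Nat.prime_three).1 h with h | h
          · exact hℓq (Nat.prime_three.dvd_of_dvd_pow h)
          · omega
        · rw [mul_assoc 3 j j] at h
          omega
      · rw [hS, eN]
        exact dvd_of_eq (by ring)
    · have h2 : ℓ ≠ 2 := by
        rintro rfl
        obtain ⟨c, hc⟩ := Nat.even_mul_succ_self r
        rw [mul_comm] at hc
        omega
      refine false_of_semiregular hF E h2 hne ?_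
      rw [card_SG_two hF, e2]
      intro h
      rcases (Nat.Prime.dvd_mul E.prime).1 h with h | h
      · exact hℓq h
      rcases (Nat.Prime.dvd_mul E.prime).1 h with h | h
      · exact E.prime.one_lt.ne' (Nat.dvd_one.1
          ((Nat.dvd_add_right (h.mul_left (r + 1))).1 hN'))
      · -- `N + 3 (r + 2) = (r + 2)² + 3`
        have e : N + 3 * (r + 2) = (r + 2) * (r + 2) + 3 := by rw [hN]; ring
        exact h3 ((Nat.prime_dvd_prime_iff_eq E.prime Nat.prime_three).1
          ((Nat.dvd_add_right (h.mul_left (r + 2))).1 (e ▸ dvd_add hN' (h.mul_left 3))))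
  · refine false_of_line hF (n := 2) le_rfl E (m := (r + 1) ^ 2 * N) ?_ ?_
      (Or.inl ⟨rfl, fun h => hne h.symm⟩)
    · exact fun h => ((Nat.Prime.dvd_mul E.prime).1 h).elim (fun h => hℓq (E.prime.dvd_of_dvd_pow h)) hN'
    · rw [hS, hU]
      exact dvd_of_eq (by ring)

end CfsgLib.PSUCover
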