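import Cfsg.Agent.Lib.PSUCover.MonoBase

/-!
A hyperbolic pair in the first two coordinates: root subgroups and tori.
-/

set_option autoImplicit false
set_option linter.unusedSectionVars false
set_option linter.style.haveILetI false

namespace CfsgLib.PSUCover

open Module CfsgLib.Classical.Herm HermSpace Subgroup

universe u

variable {F : Type u} [Field F] [Fintype F] {q : ℕ}

variable (F q) in
/-- Parameters of the hyperbolic pair. -/
structure HypData where
  t : F
  τ : F
  norm : t * t ^ q = -1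
  trace : τ + τ ^ q = 1

theorem HypData.t_ne (d : HypData F q) : d.t ≠ 0 := fun h => by
  have := d.norm
  rw [h, zero_mul] at this
  exact one_ne_zero (neg_eq_zero.1 this.symm)

variable (hF : Fintype.card F = q ^ 2)

include hF in
theorem exists_hypData : Nonempty (HypData F q) := by
  obtain ⟨t, ht⟩ := (stdHerm hF 1).norm_surj (-1) (by rw [map_neg, map_one])
  obtain ⟨τ, hτ⟩ := (stdHerm hF 1).exists_trace_one
  exact ⟨⟨t, τ, ht, hτ⟩⟩

include hF in
theorem sub_pow_q (a b : F) : (a - b) ^ q = a ^ q - b ^ q := by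
  simpa only [qPow_apply] using map_sub (qPow hF) a b

include hF in
theorem add_pow_q (a b : F) : (a + b) ^ q = a ^ q + b ^ q := by
  simpa only [qPow_apply] using map_add (qPow hF) a b

variable (d : HypData F q)

/-- The coordinates `α • e + β • f₀` on the first two entries. -/
noncomputable def pairMap : (F × F) ≃ₗ[F] (F × F) where
  toFun p := (p.1 + p.2 * d.τ, d.t * (p.1 + p.2 * (d.τ - 1)))
  invFun x := (x.1 - (x.1 - x.2 / d.t) * d.τ, x.1 - x.2 / d.t)
  map_add' p p' := Prod.ext (by simp only [Prod.fst_add, Prod.snd_add]; ring)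
    (by simp only [Prod.fst_add, Prod.snd_add]; ring)
  map_smul' c p := Prod.ext (by simp only [Prod.smul_fst, Prod.smul_snd, smul_eq_mul, RingHom.id_apply]; ring)
    (by simp only [Prod.smul_fst, Prod.smul_snd, smul_eq_mul, RingHom.id_apply]; ring)
  left_inv p := Prod.ext (by simp only [mul_div_cancel_left₀ _ d.t_ne]; ring)
    (by simp only [mul_div_cancel_left₀ _ d.t_ne]; ring)
  right_inv x := Prod.ext (by simp only; ring)
    (by simp only; rw [show x.1 - (x.1 - x.2 / d.t) * d.τ + (x.1 - x.2 / d.t) * (d.τ - 1) = x.2 / d.t by ring,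
      mul_div_cancel₀ _ d.t_ne])

/-- Coordinates adapted to the pair. -/
noncomputable def hyp (k : ℕ) : ((F × F) × (Fin k → F)) ≃ₗ[F] (Fin (k + 2) → F) :=
  ((pairMap d).prodCongr (LinearEquiv.refl F _)).trans
    ((LinearEquiv.prodAssoc F F F _).trans
      (((LinearEquiv.refl F F).prodCongr (consEquiv k)).trans (consEquiv (k + 1))))

theorem hyp_apply (k : ℕ) (a : (F × F) × (Fin k → F)) :
    hyp d k a = consEquiv (k + 1) (a.1.1 + a.1.2 * d.τ,
      consEquiv k (d.t * (a.1.1 + a.1.2 * (d.τ - 1)), a.2)) := rfl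

theorem h_hyp (k : ℕ) (a b : (F × F) × (Fin k → F)) :
    (stdHerm hF (k + 2)).h (hyp d k a) (hyp d k b) =
      a.1.1 * b.1.2 ^ q + a.1.2 * b.1.1 ^ q + (stdHerm hF k).h a.2 b.2 := by
  rw [hyp_apply, hyp_apply, h_consEquiv hF, h_consEquiv hF]
  simp only [add_pow_q hF, mul_pow, sub_pow_q hF, one_pow]
  linear_combination (a.1.1 + a.1.2 * (d.τ - 1)) * (b.1.1 ^ q + b.1.2 ^ q * (d.τ ^ q - 1)) * d.norm +
    a.1.2 * b.1.2 ^ q * d.trace

/-- The isotropic vector of the pair. -/
noncomputable def eV (k : ℕ) : Fin (k + 2) → F := hyp d k ((1, 0), 0)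

/-- Its partner. -/
noncomputable def fV (k : ℕ) : Fin (k + 2) → F := hyp d k ((0, 1), 0)

/-- The perpendicular of the pair. -/
noncomputable def wV (k : ℕ) (w : Fin k → F) : Fin (k + 2) → F := hyp d k ((0, 0), w)

theorem rootCond_hyp {k : ℕ} {w : Fin k → F} {l : F} :
    RootCond (stdHerm hF (k + 2)) (eV d k) (wV d k w) l ↔ l + l ^ q + (stdHerm hF k).h w w = 0 := by
  have h1 : (stdHerm hF (k + 2)).h (eV d k) (eV d k) = 0 := by
    rw [eV, h_hyp hF, (stdHerm hF k).zero_left]
    simp [zero_pow (show q ≠ 0 by intro h; simp [h] at hF)]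
  have h2 : (stdHerm hF (k + 2)).h (wV d k w) (eV d k) = 0 := by
    rw [eV, wV, h_hyp hF, (stdHerm hF k).zero_right]
    simp
  have h3 : (stdHerm hF (k + 2)).h (wV d k w) (wV d k w) = (stdHerm hF k).h w w := by
    rw [wV, h_hyp hF]
    simp
  refine ⟨fun h => ?_, fun h => ⟨h1, h2, ?_⟩⟩
  · have := h.2.2
    rwa [h3, stdHerm_conj] at this
  · rw [h3, stdHerm_conj]
    exact h

/-- A root element at the isotropic vector. -/
noncomputable def rt (k : ℕ) (w : Fin k → F) (l : F) (c : l + l ^ q + (stdHerm hF k).h w w = 0) :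
    Unit' (stdHerm hF (k + 2)) :=
  root (stdHerm hF (k + 2)) (eV d k) (wV d k w) l ((rootCond_hyp hF d).2 c)

theorem rt_congr {k : ℕ} {w w' : Fin k → F} {l l' : F} (c : l + l ^ q + (stdHerm hF k).h w w = 0)
    (c' : l' + l' ^ q + (stdHerm hF k).h w' w' = 0) (e1 : w = w') (e2 : l = l') :
    rt hF d k w l c = rt hF d k w' l' c' := by
  subst e1 e2
  rfl

theorem wV_add (k : ℕ) (w w' : Fin k → F) : wV d k (w + w') = wV d k w + wV d k w' := by
  rw [wV, wV, wV, ← map_add]
  congr 1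
  ext <;> simp

theorem rt_cond_add {k : ℕ} {w w' : Fin k → F} {l l' : F} (c : l + l ^ q + (stdHerm hF k).h w w = 0)
    (c' : l' + l' ^ q + (stdHerm hF k).h w' w' = 0) :
    (l + l' - (stdHerm hF k).h w' w) + (l + l' - (stdHerm hF k).h w' w) ^ q +
      (stdHerm hF k).h (w + w') (w + w') = 0 := by
  rw [sub_pow_q hF, add_pow_q hF, (stdHerm hF k).add_left, (stdHerm hF k).add_right,
    (stdHerm hF k).add_right]
  have : (stdHerm hF k).h w' w ^ q = (stdHerm hF k).h w w' := (stdHerm hF k).symm' w' w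
  rw [this]
  linear_combination c + c'

theorem rt_mul {k : ℕ} {w w' : Fin k → F} {l l' : F} (c : l + l ^ q + (stdHerm hF k).h w w = 0)
    (c' : l' + l' ^ q + (stdHerm hF k).h w' w' = 0) :
    rt hF d k w l c * rt hF d k w' l' c' =
      rt hF d k (w + w') (l + l' - (stdHerm hF k).h w' w) (rt_cond_add hF c c') := by
  rw [rt, rt, rt, root_mul]
  refine root_congr _ _ rfl (wV_add d k w w').symm ?_
  rw [wV, wV, h_hyp hF]
  simp

theorem rt_zero {k : ℕ} (c : (0 : F) + 0 ^ q + (stdHerm hF k).h (0 : Fin k → F) 0 = 0) :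
    rt hF d k 0 0 c = 1 := by
  refine unit_ext fun x => ?_
  rw [rt, root_apply, show wV d k (0 : Fin k → F) = 0 from map_zero (hyp d k), (stdHerm hF (k + 2)).zero_right]
  simp

theorem rt_injective {k : ℕ} {w w' : Fin k → F} {l l' : F} {c : l + l ^ q + (stdHerm hF k).h w w = 0}
    {c' : l' + l' ^ q + (stdHerm hF k).h w' w' = 0} (e : rt hF d k w l c = rt hF d k w' l' c') :
    w = w' ∧ l = l' := by
  have hfe : (stdHerm hF (k + 2)).h (fV d k) (eV d k) = 1 := by
    rw [fV, eV, h_hyp hF]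
    rw [(stdHerm hF k).zero_left]; simp
  have hfw : ∀ v, (stdHerm hF (k + 2)).h (fV d k) (wV d k v) = 0 := fun v => by
    rw [fV, wV, h_hyp hF]
    rw [(stdHerm hF k).zero_left]; simp [zero_pow (show q ≠ 0 by intro h; simp [h] at hF)]
  have key : ∀ (v : Fin k → F) (m : F) (cv : m + m ^ q + (stdHerm hF k).h v v = 0),
      (rt hF d k v m cv).1 (fV d k) = hyp d k ((m, 1), v) := fun v m cv => by
    rw [rt, root_apply, hfe, hfw, one_smul, neg_zero, zero_add, mul_one, fV, wV, eV, ← map_smul,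
      ← map_add, ← map_add]
    congr 1
    ext <;> simp
  have := congrArg (fun g : Unit' (stdHerm hF (k + 2)) => g.1 (fV d k)) e
  simp only [key] at this
  have h := (hyp d k).injective this
  exact ⟨congrArg Prod.snd h, congrArg (fun a => a.1.1) h⟩

theorem rt_mem_SG {k : ℕ} {w : Fin k → F} {l : F} (c : l + l ^ q + (stdHerm hF k).h w w = 0) :
    rt hF d k w l c ∈ SG (stdHerm hF (k + 2)) :=
  detHom_root _

/-- The root group at the isotropic vector. -/
noncomputable def qGrp (k : ℕ) : Subgroup (Unit' (stdHerm hF (k + 2))) where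
  carrier := {g | ∃ w l, ∃ c, g = rt hF d k w l c}
  one_mem' := by
    have h0 : (0 : F) + 0 ^ q + (stdHerm hF k).h (0 : Fin k → F) 0 = 0 := by
      rw [(stdHerm hF k).zero_left]; simp [zero_pow (show q ≠ 0 by intro h; simp [h] at hF)]
    exact ⟨0, 0, h0, (rt_zero hF d h0).symm⟩
  mul_mem' := by
    rintro _ _ ⟨w, l, c, rfl⟩ ⟨w', l', c', rfl⟩
    exact ⟨_, _, _, rt_mul hF d c c'⟩
  inv_mem' := by
    rintro _ ⟨w, l, c, rfl⟩
    have c' : l ^ q + (l ^ q) ^ q + (stdHerm hF k).h (-w) (-w) = 0 := by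
      rw [(stdHerm hF k).neg_left, (stdHerm hF k).neg_right, neg_neg,
        show (l ^ q) ^ q = l from (stdHerm hF k).conj_conj l]
      linear_combination c
    refine ⟨-w, l ^ q, c', inv_eq_of_mul_eq_one_right ?_⟩
    rw [rt_mul hF d c c']
    refine (rt_congr hF d _ ?_ (add_neg_cancel w) ?_).trans (rt_zero hF d ?_)
    · rw [(stdHerm hF k).zero_left]; simp [zero_pow (show q ≠ 0 by intro h; simp [h] at hF)]
    · rw [(stdHerm hF k).neg_left]; linear_combination c
    · rw [(stdHerm hF k).zero_left]; simp [zero_pow (show q ≠ 0 by intro h; simp [h] at hF)]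

theorem qGrp_le_SG (k : ℕ) : qGrp hF d k ≤ SG (stdHerm hF (k + 2)) := by
  rintro _ ⟨w, l, c, rfl⟩
  exact rt_mem_SG hF d c

theorem card_qGrp (k : ℕ) : Nat.card (qGrp hF d k) = q ^ (2 * k + 1) := by
  classical
  let φ : F →+ F := AddMonoidHom.id F + (qPow hF).toAddMonoidHom
  have hker : Nat.card φ.ker = q := by
    have hr : (φ.range : Set F) = (fixedField hF : Set F) := by
      ext x
      constructor
      · rintro ⟨a, rfl⟩
        show qPow hF (a + qPow hF a) = a + qPow hF a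
        have e : qPow hF (qPow hF a) = a := (stdHerm hF k).conj_conj a
        rw [map_add, e, add_comm]
      · intro hx
        obtain ⟨a, ha⟩ := (stdHerm hF k).exists_trace (c := x) hx
        exact ⟨a, ha⟩
    have h1 := φ.ker.card_mul_index
    rw [AddSubgroup.index_ker, show Nat.card φ.range = Nat.card (fixedField hF) from
      Nat.card_congr (Equiv.setCongr hr), card_fixedField hF, Nat.card_eq_fintype_card (α := F), hF, pow_two] at h1
    exact Nat.eq_of_mul_eq_mul_right (by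
      rcases Nat.eq_zero_or_pos q with h | h
      · simp [h] at hF
      · exact h) h1
  obtain ⟨τ₀, hτ₀⟩ := (stdHerm hF k).exists_trace_one
  have hlam : ∀ w : Fin k → F, -((stdHerm hF k).h w w * τ₀) +
      (-((stdHerm hF k).h w w * τ₀)) ^ q + (stdHerm hF k).h w w = 0 := fun w => by
    have e : (-((stdHerm hF k).h w w * τ₀)) ^ q = (stdHerm hF k).conj (-((stdHerm hF k).h w w * τ₀)) := rfl
    rw [e, map_neg, map_mul, (stdHerm hF k).conj_diag]
    linear_combination -(stdHerm hF k).h w w * hτ₀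
  have hc : ∀ (w : Fin k → F) (z : φ.ker), (z.1 - (stdHerm hF k).h w w * τ₀) +
      (z.1 - (stdHerm hF k).h w w * τ₀) ^ q + (stdHerm hF k).h w w = 0 := fun w z => by
    have h0 : z.1 + z.1 ^ q = 0 := z.2
    rw [sub_eq_add_neg, add_pow_q hF]
    linear_combination h0 + hlam w
  rw [← Nat.card_congr (Equiv.ofBijective
    (fun x : (Fin k → F) × φ.ker => (⟨rt hF d k x.1 (x.2.1 - (stdHerm hF k).h x.1 x.1 * τ₀) (hc x.1 x.2),
      x.1, x.2.1 - (stdHerm hF k).h x.1 x.1 * τ₀, hc x.1 x.2, rfl⟩ : qGrp hF d k)) ⟨?_, ?_⟩),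
    Nat.card_prod, Nat.card_fun, Nat.card_fin, Nat.card_eq_fintype_card (α := F), hF, hker, ← pow_mul,
    ← pow_succ]
  · intro x y e
    obtain ⟨e1, e2⟩ := rt_injective hF d (c := hc x.1 x.2) (c' := hc y.1 y.2) (congrArg Subtype.val e)
    refine Prod.ext e1 (Subtype.ext ?_)
    rw [e1] at e2
    exact sub_left_injective e2
  · rintro ⟨_, w, l, c, rfl⟩
    have h0 : l + (stdHerm hF k).h w w * τ₀ ∈ φ.ker := by
      show l + (stdHerm hF k).h w w * τ₀ + (l + (stdHerm hF k).h w w * τ₀) ^ q = 0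
      rw [add_pow_q hF]
      have := hlam w
      rw [show (-((stdHerm hF k).h w w * τ₀)) ^ q = -((stdHerm hF k).h w w * τ₀) ^ q from
        map_neg (qPow hF) _] at this
      linear_combination c - this
    exact ⟨(w, ⟨_, h0⟩), Subtype.ext (rt_congr hF d (hc w ⟨_, h0⟩) c rfl (add_sub_cancel_right _ _))⟩

/-- The underlying map of a torus element. -/
noncomputable def torLin (k : ℕ) (a : Fˣ) (g : Unit' (stdHerm hF k)) :
    (Fin (k + 2) → F) ≃ₗ[F] (Fin (k + 2) → F) :=
  (hyp d k).symm.trans ((((scaleEquiv a).prodCongr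
    (scaleEquiv (Units.map (qPow hF).toMonoidHom a)⁻¹)).prodCongr g.1).trans (hyp d k))

theorem torLin_mem (k : ℕ) (a : Fˣ) (g : Unit' (stdHerm hF k)) :
    torLin hF d k a g ∈ Unit' (stdHerm hF (k + 2)) := by
  intro x y
  obtain ⟨x, rfl⟩ := (hyp d k).surjective x
  obtain ⟨y, rfl⟩ := (hyp d k).surjective y
  simp only [torLin, LinearEquiv.trans_apply, LinearEquiv.symm_apply_apply, LinearEquiv.prodCongr_apply,
    scaleEquiv_apply, h_hyp hF, unit_h]
  rw [Units.val_inv_eq_inv_val, Units.coe_map]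
  show (a : F) * x.1.1 * ((qPow hF (a : F))⁻¹ * y.1.2) ^ q +
    (qPow hF (a : F))⁻¹ * x.1.2 * ((a : F) * y.1.1) ^ q + _ = _
  rw [qPow_apply]
  have h2 : ((a : F) ^ q) ^ q = a := by
    rw [← pow_mul, ← pow_two, ← hF, FiniteField.pow_card]
  rw [mul_pow, mul_pow, inv_pow, h2]
  have ha := a.ne_zero
  field_simp

/-- The torus attached to the pair, times the isometries of its perpendicular. -/
noncomputable def tor (k : ℕ) : Fˣ × Unit' (stdHerm hF k) →* Unit' (stdHerm hF (k + 2)) :=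
  MonoidHom.mk' (fun x => ⟨torLin hF d k x.1 x.2, torLin_mem hF d k x.1 x.2⟩) fun x y => unit_ext fun v => by
    obtain ⟨v, rfl⟩ := (hyp d k).surjective v
    show torLin hF d k (x.1 * y.1) (x.2 * y.2) (hyp d k v) =
      torLin hF d k x.1 x.2 (torLin hF d k y.1 y.2 (hyp d k v))
    simp only [torLin, LinearEquiv.trans_apply, LinearEquiv.symm_apply_apply, LinearEquiv.prodCongr_apply,
      scaleEquiv_apply, map_mul, mul_inv, Units.val_mul, mul_assoc, mul_apply]

theorem tor_apply (k : ℕ) (a : Fˣ) (g : Unit' (stdHerm hF k)) (v : (F × F) × (Fin k → F)) :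
    (tor hF d k (a, g)).1 (hyp d k v) =
      hyp d k (((a : F) * v.1.1, ((a : F) ^ q)⁻¹ * v.1.2), g.1 v.2) := by
  show torLin hF d k a g (hyp d k v) = _
  simp only [torLin, LinearEquiv.trans_apply, LinearEquiv.symm_apply_apply, LinearEquiv.prodCongr_apply,
    scaleEquiv_apply, Units.val_inv_eq_inv_val, Units.coe_map]
  rfl

theorem detHom_tor (k : ℕ) (a : Fˣ) (g : Unit' (stdHerm hF k)) :
    (detHom (stdHerm hF (k + 2)) (tor hF d k (a, g)) : F) =
      (a : F) * ((a : F) ^ q)⁻¹ * detHom (stdHerm hF k) g := by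
  have h := LinearEquiv.det_conj (((scaleEquiv a).prodCongr
    (scaleEquiv (Units.map (qPow hF).toMonoidHom a)⁻¹)).prodCongr g.1) (hyp d k)
  refine (congrArg Units.val h).trans ?_
  rw [LinearEquiv.coe_det]
  have e1 : ∀ u : Fˣ, ((scaleEquiv u : F ≃ₗ[F] F) : F →ₗ[F] F) = (u : F) • LinearMap.id := fun u => rfl
  have e2 : ((((scaleEquiv a).prodCongr
      (scaleEquiv (Units.map (qPow hF).toMonoidHom a)⁻¹)).prodCongr g.1) :
      (F × F) × (Fin k → F) →ₗ[F] (F × F) × (Fin k → F)) =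
      LinearMap.prodMap (LinearMap.prodMap (scaleEquiv a : F →ₗ[F] F)
        (scaleEquiv (Units.map (qPow hF).toMonoidHom a)⁻¹ : F →ₗ[F] F))
        (g.1 : (Fin k → F) →ₗ[F] Fin k → F) := rfl
  rw [e2, LinearMap.det_prodMap, LinearMap.det_prodMap, e1, e1, LinearMap.det_smul, LinearMap.det_smul,
    LinearMap.det_id, finrank_self, pow_one, pow_one, mul_one, mul_one, Units.val_inv_eq_inv_val, Units.coe_map,
    ← LinearEquiv.coe_det]
  rfl

theorem tor_conj_rt {k : ℕ} (a : Fˣ) (g : Unit' (stdHerm hF k)) {w : Fin k → F} {l : F}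
    (c : l + l ^ q + (stdHerm hF k).h w w = 0)
    (c' : ((a : F) * (a : F) ^ q * l) + ((a : F) * (a : F) ^ q * l) ^ q +
      (stdHerm hF k).h ((a : F) ^ q • g.1 w) ((a : F) ^ q • g.1 w) = 0) :
    tor hF d k (a, g) * rt hF d k w l c * (tor hF d k (a, g))⁻¹ =
      rt hF d k ((a : F) ^ q • g.1 w) ((a : F) * (a : F) ^ q * l) c' := by
  have he : (tor hF d k (a, g)).1 (eV d k) = (a : F) • eV d k := by
    rw [eV, tor_apply, ← map_smul]
    congr 1
    ext <;> simp
  have hw : (tor hF d k (a, g)).1 (wV d k w) = wV d k (g.1 w) := by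
    rw [wV, wV, tor_apply]
    congr 1
    ext <;> simp
  have c0 : RootCond (stdHerm hF (k + 2)) ((a : F) • eV d k) (wV d k (g.1 w)) l :=
    he ▸ hw ▸ ((rootCond_hyp hF d).2 c).map (tor hF d k (a, g))
  rw [rt, root_conj, root_congr _ c0 he hw rfl, root_smul _ a.ne_zero c0, rt]
  refine root_congr _ _ rfl ?_ rfl
  rw [wV, wV, ← map_smul]
  congr 1
  ext <;> simp

end CfsgLib.PSUCover
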