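import Cfsg.Agent.Lib.PSUCover.UnipDerived
import Cfsg.Agent.Lib.PSUCover.Cyclic
import Cfsg.Agent.Lib.PSUCover.Line

/-!
The characteristic does not divide the order of a perfect central kernel in dimensions three, four, five.
-/

set_option autoImplicit false
set_option linter.unusedSectionVars false
set_option linter.style.haveILetI false

namespace CfsgLib.PSUCover

open Module CfsgLib.Classical.Herm HermSpace Subgroup
open scoped commutatorElement

universe u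

variable {F : Type u} [Field F] [Fintype F] {q : ℕ} (hF : Fintype.card F = q ^ 2) (d : HypData F q)

/-- Isometries of the perpendicular, extended by the identity. -/
noncomputable def emb (k : ℕ) : Unit' (stdHerm hF k) →* Unit' (stdHerm hF (k + 2)) :=
  (tor hF d k).comp (MonoidHom.inr Fˣ (Unit' (stdHerm hF k)))

theorem emb_apply (k : ℕ) (y : Unit' (stdHerm hF k)) (v : (F × F) × (Fin k → F)) :
    (emb hF d k y).1 (hyp d k v) = hyp d k (v.1, y.1 v.2) := by
  show (tor hF d k (1, y)).1 (hyp d k v) = _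
  rw [tor_apply]
  simp

theorem rt_apply_fV {k : ℕ} {w : Fin k → F} {l : F} (c : l + l ^ q + (stdHerm hF k).h w w = 0) :
    (rt hF d k w l c).1 (fV d k) = hyp d k ((l, 1), w) := by
  have hq : q ≠ 0 := by intro h; simp [h] at hF
  have hfe : (stdHerm hF (k + 2)).h (fV d k) (eV d k) = 1 := by
    rw [fV, eV, h_hyp hF, (stdHerm hF k).zero_left]
    simp
  have hfw : (stdHerm hF (k + 2)).h (fV d k) (wV d k w) = 0 := by
    rw [fV, wV, h_hyp hF, (stdHerm hF k).zero_left]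
    simp [zero_pow hq]
  rw [rt, root_apply, hfe, hfw, one_smul, neg_zero, zero_add, mul_one, fV, wV, eV, ← map_smul,
    ← map_add, ← map_add]
  congr 1
  ext <;> simp

theorem h_wV (k : ℕ) (v w : Fin k → F) :
    (stdHerm hF (k + 2)).h (wV d k v) (wV d k w) = (stdHerm hF k).h v w := by
  rw [wV, wV, h_hyp hF]
  simp

/-- The exchange of the two pairs of coordinates. -/
noncomputable def flipPairs (j : ℕ) : Unit' (stdHerm hF (j + 2 + 2)) :=
  mono hF 1 (Equiv.swap (⟨0, by omega⟩ : Fin (j + 2 + 2)) ⟨2, by omega⟩ *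
    Equiv.swap (⟨1, by omega⟩ : Fin (j + 2 + 2)) ⟨3, by omega⟩)

theorem flipPairs_mem (j : ℕ) : flipPairs hF j ∈ SG (stdHerm hF (j + 2 + 2)) := by
  apply Units.ext
  show (detHom (stdHerm hF (j + 2 + 2)) (flipPairs hF j) : F) = 1
  rw [flipPairs, detHom_mono, Equiv.Perm.sign_mul,
    Equiv.Perm.sign_swap (by simp), Equiv.Perm.sign_swap (by simp)]
  simp

theorem flipPairs_cons (j : ℕ) (a b c e : F) (r : Fin j → F) :
    (flipPairs hF j).1 (Fin.cons a (Fin.cons b (Fin.cons c (Fin.cons e r)))) =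
      Fin.cons c (Fin.cons e (Fin.cons a (Fin.cons b r))) := by
  funext i
  rw [flipPairs, mono_apply]
  obtain ⟨i, hi⟩ := i
  match i with
  | 0 =>
    rw [show (Equiv.swap (⟨0, by omega⟩ : Fin (j + 2 + 2)) ⟨2, by omega⟩ *
      Equiv.swap (⟨1, by omega⟩ : Fin (j + 2 + 2)) ⟨3, by omega⟩) ⟨0, hi⟩ = ⟨2, by omega⟩ by
        simp [Equiv.swap_apply_def, Fin.ext_iff]]
    exact one_mul _
  | 1 =>
    rw [show (Equiv.swap (⟨0, by omega⟩ : Fin (j + 2 + 2)) ⟨2, by omega⟩ *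
      Equiv.swap (⟨1, by omega⟩ : Fin (j + 2 + 2)) ⟨3, by omega⟩) ⟨1, hi⟩ = ⟨3, by omega⟩ by
        simp [Equiv.swap_apply_def, Fin.ext_iff]]
    exact one_mul _
  | 2 =>
    rw [show (Equiv.swap (⟨0, by omega⟩ : Fin (j + 2 + 2)) ⟨2, by omega⟩ *
      Equiv.swap (⟨1, by omega⟩ : Fin (j + 2 + 2)) ⟨3, by omega⟩) ⟨2, hi⟩ = ⟨0, by omega⟩ by
        simp [Equiv.swap_apply_def, Fin.ext_iff]]
    exact one_mul _
  | 3 =>
    rw [show (Equiv.swap (⟨0, by omega⟩ : Fin (j + 2 + 2)) ⟨2, by omega⟩ *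
      Equiv.swap (⟨1, by omega⟩ : Fin (j + 2 + 2)) ⟨3, by omega⟩) ⟨3, hi⟩ = ⟨1, by omega⟩ by
        simp [Equiv.swap_apply_def, Fin.ext_iff]]
    exact one_mul _
  | i + 4 =>
    rw [show (Equiv.swap (⟨0, by omega⟩ : Fin (j + 2 + 2)) ⟨2, by omega⟩ *
      Equiv.swap (⟨1, by omega⟩ : Fin (j + 2 + 2)) ⟨3, by omega⟩) ⟨i + 4, hi⟩ = ⟨i + 4, hi⟩ by
        simp [Equiv.swap_apply_def, Fin.ext_iff]]
    exact one_mul _

theorem eV_cons (j : ℕ) : eV d j = Fin.cons 1 (Fin.cons d.t 0) := by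
  rw [eV, hyp_apply]
  simp [consEquiv]

theorem wV_cons (j : ℕ) (w : Fin j → F) : wV d j w = Fin.cons 0 (Fin.cons 0 w) := by
  rw [wV, hyp_apply]
  simp [consEquiv]

theorem flipPairs_eV (j : ℕ) :
    (flipPairs hF j).1 (wV d (j + 2) (eV d j)) = eV d (j + 2) := by
  rw [wV_cons, eV_cons, flipPairs_cons, eV_cons]
  congr 2
  funext i
  refine Fin.cases ?_ (Fin.cases ?_ fun i => ?_) i <;> rfl

theorem flipPairs_wV (j : ℕ) (w : Fin j → F) :
    (flipPairs hF j).1 (wV d (j + 2) (wV d j w)) = wV d (j + 2) (wV d j w) := by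
  rw [wV_cons, wV_cons, flipPairs_cons]

theorem emb_rt (j : ℕ) {w : Fin j → F} {l : F} (c : l + l ^ q + (stdHerm hF j).h w w = 0)
    (c' : RootCond (stdHerm hF (j + 2 + 2)) (wV d (j + 2) (eV d j)) (wV d (j + 2) (wV d j w)) l) :
    emb hF d (j + 2) (rt hF d j w l c) =
      root (stdHerm hF (j + 2 + 2)) (wV d (j + 2) (eV d j)) (wV d (j + 2) (wV d j w)) l c' := by
  refine unit_ext fun x => ?_
  obtain ⟨v, rfl⟩ := (hyp d (j + 2)).surjective x
  have hq : q ≠ 0 := by intro h; simp [h] at hF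
  have h1 : ∀ u, (stdHerm hF (j + 2 + 2)).h (hyp d (j + 2) v) (wV d (j + 2) u) =
      (stdHerm hF (j + 2)).h v.2 u := fun u => by
    rw [wV, h_hyp hF]
    simp [zero_pow hq]
  rw [emb_apply, rt, root_apply, root_apply, h1, h1,
    show ∀ u, wV d (j + 2) u = hyp d (j + 2) ((0, 0), u) from fun u => rfl,
    show ∀ u, wV d (j + 2) u = hyp d (j + 2) ((0, 0), u) from fun u => rfl,
    ← map_smul, ← map_smul, ← map_add, ← map_add]
  congr 1
  refine Prod.ext ?_ ?_ <;> simp [Prod.ext_iff, eV, wV]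

variable {p : ℕ} [hp : Fact p.Prime] [CharP F p] {Γ : Type u} [Group Γ] [Finite Γ]

/-- The preimage of the product of the two root groups. -/
theorem false_of_unip {j : ℕ} {f : Γ →* Unit' (stdHerm hF (j + 2 + 2))} (E : Ext f p)
    (hfree : FreeScal hF (j + 2))
    (hD : ∀ z ∈ ⁅(qGrp hF d (j + 2)).comap f, (qGrp hF d (j + 2)).comap f⁆, f z = 1 → z = 1)
    {m : ℕ} (hm : ¬ p ∣ m)
    (hcard : Nat.card (SG (stdHerm hF (j + 2 + 2))) ∣ m * (q ^ (2 * (j + 2) + 1) * q ^ (2 * j + 1))) :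
    False := by
  classical
  set Q := qGrp hF d (j + 2) with hQ
  set R := qGrp hF d j with hR
  set em := emb hF d (j + 2) with hem
  set Y := R.map em with hY
  have hYS : Y ≤ SG (stdHerm hF (j + 2 + 2)) := by
    rintro _ ⟨_, ⟨w, l, c, rfl⟩, rfl⟩
    apply Units.ext
    show (detHom (stdHerm hF (j + 2 + 2)) (tor hF d (j + 2) (1, rt hF d j w l c)) : F) = 1
    rw [detHom_tor, show detHom _ (rt hF d j w l c) = 1 from rt_mem_SG hF d c]
    simp
  have hnorm : ∀ y, ∀ x ∈ Q, em y * x * (em y)⁻¹ ∈ Q := by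
    rintro y _ ⟨w, l, c, rfl⟩
    exact ⟨_, _, _, tor_conj_rt hF d 1 y c (cond_tor hF y c)⟩
  have hint : ∀ y, em y ∈ Q → em y = 1 := by
    rintro y ⟨w, l, c, e⟩
    have h := congrArg (fun g : Unit' (stdHerm hF (j + 2 + 2)) => g.1 (fV d (j + 2))) e
    simp only [rt_apply_fV, hem] at h
    rw [fV, emb_apply, map_zero] at h
    have h' := (hyp d (j + 2)).injective h
    have hw : w = 0 := (congrArg Prod.snd h').symm
    have hl : l = 0 := (congrArg (fun a => a.1.1) h').symm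
    subst hw hl
    rw [e, rt_zero]
  let K : Subgroup (Unit' (stdHerm hF (j + 2 + 2))) :=
    { carrier := {g | ∃ x ∈ Q, ∃ y ∈ R, g = x * em y}
      one_mem' := ⟨1, one_mem Q, 1, one_mem R, by rw [map_one, mul_one]⟩
      mul_mem' := by
        rintro _ _ ⟨x, hx, y, hy, rfl⟩ ⟨x', hx', y', hy', rfl⟩
        refine ⟨x * (em y * x' * (em y)⁻¹), mul_mem hx (hnorm y x' hx'), y * y', mul_mem hy hy', ?_⟩
        rw [map_mul]
        group
      inv_mem' := by
        rintro _ ⟨x, hx, y, hy, rfl⟩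
        refine ⟨em y⁻¹ * x⁻¹ * (em y⁻¹)⁻¹, hnorm _ _ (inv_mem hx), y⁻¹, inv_mem hy, ?_⟩
        rw [map_inv]
        group }
  have hKS : K ≤ SG (stdHerm hF (j + 2 + 2)) := by
    rintro _ ⟨x, hx, y, hy, rfl⟩
    exact mul_mem (qGrp_le_SG hF d _ hx) (hYS (mem_map_of_mem _ hy))
  have hinj : Function.Injective em := fun y y' e => unit_ext fun v => by
    have := congrArg (fun g : Unit' (stdHerm hF (j + 2 + 2)) => g.1 (hyp d (j + 2) ((0, 0), v))) e
    simp only [hem, emb_apply] at this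
    exact congrArg Prod.snd ((hyp d (j + 2)).injective this)
  have hcK : Nat.card K = q ^ (2 * (j + 2) + 1) * q ^ (2 * j + 1) := by
    rw [← card_qGrp hF d (j + 2), ← card_qGrp hF d j, ← Nat.card_prod]
    refine (Nat.card_congr (Equiv.ofBijective
      (fun z : Q × R => (⟨z.1.1 * em z.2.1, z.1.1, z.1.2, z.2.1, z.2.2, rfl⟩ : K)) ⟨?_, ?_⟩)).symm
    · rintro ⟨⟨x, hx⟩, ⟨y, hy⟩⟩ ⟨⟨x', hx'⟩, ⟨y', hy'⟩⟩ e
      have e' : x * em y = x' * em y' := congrArg Subtype.val e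
      have h1 : em (y' * y⁻¹) = x'⁻¹ * x := by
        rw [eq_inv_mul_iff_mul_eq, map_mul, map_inv, ← mul_assoc, ← e', mul_inv_cancel_right]
      have h2 := hint _ (h1 ▸ mul_mem (inv_mem hx') hx)
      rw [← map_one em] at h2
      have hy2 : y = y' := (eq_of_mul_inv_eq_one (hinj h2)).symm
      subst hy2
      have hx2 : x = x' := mul_right_cancel e'
      subst hx2
      rfl
    · rintro ⟨_, x, hx, y, hy, rfl⟩
      exact ⟨(⟨x, hx⟩, ⟨y, hy⟩), rfl⟩
  refine E.false_of_sub hKS hm (hcK ▸ hcard) fun z hz hz1 => ?_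
  set Qt := Q.comap f with hQt
  set Yt := Y.comap f with hYt
  set D := ⁅Qt, Qt⁆ with hDdef
  -- lifts of the second root group
  have hYd : ∀ u ∈ ⁅Yt, Yt⁆, f u = 1 → u = 1 := by
    obtain ⟨π, hπ⟩ : flipPairs hF j ∈ f.range := E.range_eq ▸ flipPairs_mem hF j
    have hle : Yt.map (MulAut.conj π).toMonoidHom ≤ Qt := by
      rintro _ ⟨x, hx, rfl⟩
      obtain ⟨_, ⟨w, l, c, rfl⟩, e⟩ := hx
      show f (π * x * π⁻¹) ∈ Q
      have c' : RootCond (stdHerm hF (j + 2 + 2)) (wV d (j + 2) (eV d j)) (wV d (j + 2) (wV d j w)) l :=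
        ⟨by rw [h_wV hF]; exact ((rootCond_hyp hF d).2 c).1, by rw [h_wV hF]; exact ((rootCond_hyp hF d).2 c).2.1,
          by rw [h_wV hF]; exact ((rootCond_hyp hF d).2 c).2.2⟩
      have c'' : l + l ^ q + (stdHerm hF (j + 2)).h (wV d j w) (wV d j w) = 0 := by rw [h_wV hF]; exact c
      refine ⟨wV d j w, l, c'', ?_⟩
      rw [map_mul, map_mul, map_inv, hπ, ← e, hem, emb_rt hF d j c c', root_conj]
      exact root_congr _ _ (flipPairs_eV hF d j) (flipPairs_wV hF d j w) rfl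
    intro u hu hu1
    have h1 : π * u * π⁻¹ ∈ D := by
      have := mem_map_of_mem (MulAut.conj π).toMonoidHom hu
      rw [map_commutator] at this
      exact commutator_mono hle hle this
    have h2 := hD _ h1 (by rw [map_mul, map_mul, map_inv, hu1, mul_one, mul_inv_cancel])
    simpa using h2
  -- the scalar torus element
  obtain ⟨b, hb, a, g, hT, -, hbw⟩ := id hfree
  obtain ⟨t, ht⟩ := exists_torus hF d E hT
  have htn : ∀ x ∈ Qt, t * x * t⁻¹ ∈ Qt := by
    rintro x ⟨w, l, c, hx⟩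
    exact ⟨_, _, _, conj_image hF d ht hx⟩
  have hDn : ∀ x ∈ Qt, ∀ δ ∈ D, x * δ * x⁻¹ ∈ D := by
    intro x hx δ hδ
    have := mem_map_of_mem (MulAut.conj x).toMonoidHom hδ
    rw [map_commutator] at this
    have hle : Qt.map (MulAut.conj x).toMonoidHom ≤ Qt := by
      rintro _ ⟨y, hy, rfl⟩; exact mul_mem (mul_mem hx hy) (inv_mem hx)
    exact commutator_mono hle hle this
  have hDQ : D ≤ Qt := commutator_le.2 fun a ha b hb =>
    mul_mem (mul_mem (mul_mem ha hb) (inv_mem ha)) (inv_mem hb)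
  have htQ : ∀ x ∈ Qt, ⁅t, x⁆ ∈ Qt := fun x hx => mul_mem (htn x hx) (inv_mem hx)
  have hcD : ∀ x ∈ Qt, ∀ y ∈ Qt, ⁅x, y⁆ ∈ D := fun x hx y hy => commutator_mem_commutator hx hy
  let Q0 : Subgroup Γ :=
    { carrier := {e | ∃ x ∈ Qt, ⁅t, x⁆⁻¹ * e ∈ D}
      one_mem' := ⟨1, one_mem _, by simp⟩
      mul_mem' := by
        rintro e e' ⟨x, hx, he⟩ ⟨x', hx', he'⟩
        refine ⟨x * x', mul_mem hx hx', ?_⟩
        have h : ⁅t, x * x'⁆⁻¹ * (e * e') =
            (⁅t, x'⁆⁻¹ * (⁅x, ⁅t, x'⁆⁆⁻¹ * (⁅t, x⁆⁻¹ * e)) * ⁅t, x'⁆) * (⁅t, x'⁆⁻¹ * e') := by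
          simp only [commutatorElement_def]; group
        rw [h]
        refine mul_mem ?_ he'
        have := hDn _ (inv_mem (htQ x' hx')) _ (mul_mem (inv_mem (hcD x hx _ (htQ x' hx'))) he)
        rwa [inv_inv] at this
      inv_mem' := by
        rintro e ⟨x, hx, he⟩
        refine ⟨x⁻¹, inv_mem hx, ?_⟩
        have h : ⁅t, x⁻¹⁆⁻¹ * e⁻¹ =
            ⁅t, x⁆ * (⁅x⁻¹, ⁅t, x⁆⁻¹⁆⁻¹ * (⁅t, x⁆⁻¹ * e)⁻¹) * ⁅t, x⁆⁻¹ := by
          simp only [commutatorElement_def]; group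
        rw [h]
        exact hDn _ (htQ x hx) _ (mul_mem (inv_mem (hcD _ (inv_mem hx) _ (inv_mem (htQ x hx)))) (inv_mem he)) }
  have hDQ0 : D ≤ Q0 := fun δ hδ => ⟨1, one_mem _, by simpa using hδ⟩
  have hQ0Q : ∀ e ∈ Q0, e ∈ Qt := fun e ⟨x, hx, he⟩ => by
    have := mul_mem (htQ x hx) (hDQ he)
    rwa [mul_inv_cancel_left] at this
  -- the centre of the root group is covered by `D`
  have hCD : ∀ x, InC hF d f x → ∃ δ ∈ D, f δ = f x := by
    rintro x ⟨l, c, hx⟩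
    obtain ⟨v, v', hv⟩ := exists_comm_eq_rt hF (by omega) c
    obtain ⟨τ, hτ⟩ := (stdHerm hF (j + 2)).exists_trace_one
    have hlam : ∀ w : Fin (j + 2) → F, -((stdHerm hF (j + 2)).h w w * τ) +
        (-((stdHerm hF (j + 2)).h w w * τ)) ^ q + (stdHerm hF (j + 2)).h w w = 0 := fun w => by
      show _ + (stdHerm hF (j + 2)).conj (-((stdHerm hF (j + 2)).h w w * τ)) + _ = 0
      rw [map_neg, map_mul, (stdHerm hF (j + 2)).conj_diag]
      linear_combination -(stdHerm hF (j + 2)).h w w * hτ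
    obtain ⟨y, hy⟩ := exists_rtLift hF d E (hlam v)
    obtain ⟨y', hy'⟩ := exists_rtLift hF d E (hlam v')
    refine ⟨⁅y, y'⁆, hcD y ⟨_, _, _, hy⟩ y' ⟨_, _, _, hy'⟩, ?_⟩
    obtain ⟨c2, h2⟩ := rt_comm hF d (hlam v) (hlam v')
    rw [map_commutatorElement, hy, hy', h2, hx]
    exact rt_congr hF d _ _ rfl hv
  -- commutators with the torus in coordinates
  have hcoord : ∀ {x : Γ} {w l} {c : l + l ^ q + (stdHerm hF (j + 2)).h w w = 0},
      f x = rt hF d (j + 2) w l c → ∃ l' c', f ⁅t, x⁆ = rt hF d (j + 2) ((b - 1) • w) l' c' := by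
    intro x w l c hx
    obtain ⟨w', l', c', e⟩ : f ⁅t, x⁆ ∈ Q := htQ x ⟨_, _, _, hx⟩
    have h : f ⁅t, x⁆ * f x = f (t * x * t⁻¹) := by
      rw [← map_mul, commutatorElement_def, inv_mul_cancel_right]
    rw [e, hx, conj_image hF d ht hx, rt_mul hF d c' c] at h
    have hw := (rt_injective hF d h).1
    rw [hbw, ← eq_sub_iff_add_eq] at hw
    have hw' : w' = (b - 1) • w := by rw [hw, sub_smul, one_smul]
    exact ⟨l', hw' ▸ c', e.trans (rt_congr hF d _ _ hw' rfl)⟩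
  have hsec : ∀ g ∈ Q, ∃ e ∈ Q0, f e = g := by
    rintro _ ⟨w, l, c, rfl⟩
    obtain ⟨τ, hτ⟩ := (stdHerm hF (j + 2)).exists_trace_one
    set u := (b - 1)⁻¹ • w with hu
    have cm : -((stdHerm hF (j + 2)).h u u * τ) + (-((stdHerm hF (j + 2)).h u u * τ)) ^ q +
        (stdHerm hF (j + 2)).h u u = 0 := by
      show _ + (stdHerm hF (j + 2)).conj (-((stdHerm hF (j + 2)).h u u * τ)) + _ = 0
      rw [map_neg, map_mul, (stdHerm hF (j + 2)).conj_diag]
      linear_combination -(stdHerm hF (j + 2)).h u u * hτ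
    obtain ⟨ξ, hξ⟩ := exists_rtLift hF d E cm
    obtain ⟨x, hx⟩ := exists_rtLift hF d E c
    have hξQ : ξ ∈ Qt := ⟨_, _, _, hξ⟩
    obtain ⟨l', c', e⟩ := hcoord hξ
    obtain ⟨w2, l2, c2, h2⟩ : f (⁅t, ξ⁆⁻¹ * x) ∈ Q :=
      mul_mem (inv_mem (htQ ξ hξQ)) ⟨_, _, _, hx⟩
    have h : f ⁅t, ξ⁆ * f (⁅t, ξ⁆⁻¹ * x) = f x := by rw [← map_mul, mul_inv_cancel_left]
    rw [e, h2, hx, rt_mul hF d c' c2] at h
    have hw := (rt_injective hF d h).1
    rw [hu, smul_smul, mul_inv_cancel₀ (sub_ne_zero.2 hb), one_smul] at hw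
    have hw2 : w2 = 0 := by simpa using hw
    subst hw2
    obtain ⟨δ, hδ, hδe⟩ := hCD _ ⟨l2, c2, h2⟩
    refine ⟨⁅t, ξ⁆ * δ, ⟨ξ, hξQ, by rwa [inv_mul_cancel_left]⟩, ?_⟩
    rw [map_mul, hδe, ← map_mul, mul_inv_cancel_left, hx]
  have hQ0s : ∀ e ∈ Q0, f e = 1 → e = 1 := by
    rintro e ⟨x, hx, he⟩ he1
    obtain ⟨w, l, c, hxw⟩ : f x ∈ Q := hx
    obtain ⟨l', c', hq'⟩ := hcoord hxw
    obtain ⟨w2, l2, c2, h2⟩ : f (⁅t, x⁆⁻¹ * e) ∈ Q := hDQ he
    have hw2 : w2 = 0 := by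
      have hmem : ∀ δ ∈ D, InC hF d f δ := fun δ hδ => by
        let Z : Subgroup Γ :=
          { carrier := {y | InC hF d f y}
            one_mem' := ⟨0, by
              rw [(stdHerm hF (j + 2)).zero_left]
              simp [zero_pow (show q ≠ 0 by intro h; simp [h] at hF)], by rw [map_one, rt_zero]⟩
            mul_mem' := by
              rintro y y' ⟨l, c, hy⟩ ⟨l', c', hy'⟩
              refine ⟨_, by simpa only [add_zero] using rt_cond_add hF c c', ?_⟩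
              rw [map_mul, hy, hy', rt_mul hF d c c']
              exact rt_congr hF d _ _ (add_zero _) rfl
            inv_mem' := by
              rintro y ⟨l, c, hy⟩
              obtain ⟨w', l', c', e⟩ := Subgroup.inv_mem Q (x := f y) ⟨0, l, c, hy⟩
              have h := congrArg (fun g => f y * g) e
              simp only [mul_inv_cancel] at h
              rw [hy, rt_mul hF d c c', ← rt_zero hF d (k := j + 2) (by
                rw [(stdHerm hF (j + 2)).zero_left]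
                simp [zero_pow (show q ≠ 0 by intro h; simp [h] at hF)])] at h
              have hw : w' = 0 := by simpa using ((rt_injective hF d h).1).symm
              exact ⟨l', hw ▸ c', by rw [map_inv, e]; exact rt_congr hF d _ _ hw rfl⟩ }
        refine (commutator_le (H₃ := Z)).2 ?_ hδ
        rintro y ⟨w, l, c, hy⟩ y' ⟨w', l', c', hy'⟩
        obtain ⟨c'', h⟩ := rt_comm hF d c c'
        exact ⟨_, c'', by rw [map_commutatorElement, hy, hy', h]⟩
      obtain ⟨l3, c3, h3⟩ := hmem _ he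
      exact (rt_injective hF d (h2.symm.trans h3)).1
    subst hw2
    have hw : (b - 1) • w = 0 := by
      have h : f ⁅t, x⁆ * f (⁅t, x⁆⁻¹ * e) = f e := by rw [← map_mul, mul_inv_cancel_left]
      rw [hq', h2, he1, rt_mul hF d c' c2, ← rt_zero hF d (k := j + 2) (by
        rw [(stdHerm hF (j + 2)).zero_left]
        simp [zero_pow (show q ≠ 0 by intro h; simp [h] at hF)])] at h
      simpa using (rt_injective hF d h).1
    obtain rfl : w = 0 := (smul_eq_zero.1 hw).resolve_left (sub_ne_zero.2 hb)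
    obtain ⟨δ, hδ, hδe⟩ := hCD x ⟨l, c, hxw⟩
    have htx : ⁅t, x⁆ ∈ D := by
      rw [comm_congr E.central (a' := t) (b' := δ) rfl hδe.symm]
      refine mul_mem ?_ (inv_mem hδ)
      have := mem_map_of_mem (MulAut.conj t).toMonoidHom hδ
      rw [map_commutator] at this
      have hle : Qt.map (MulAut.conj t).toMonoidHom ≤ Qt := by rintro _ ⟨y, hy, rfl⟩; exact htn y hy
      exact commutator_mono hle hle this
    have := mul_mem htx he
    rw [mul_inv_cancel_left] at this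
    exact hD e this he1
  have hQ0n : ∀ y ∈ Yt, ∀ e ∈ Q0, y * e * y⁻¹ ∈ Q0 := by
    rintro y ⟨r, hr, hy⟩ e ⟨x, hx, he⟩
    have hyn : ∀ v ∈ Qt, y * v * y⁻¹ ∈ Qt := fun v hv => by
      show f (y * v * y⁻¹) ∈ Q
      rw [map_mul, map_mul, map_inv, ← hy]
      exact hnorm r _ hv
    refine ⟨y * x * y⁻¹, hyn x hx, ?_⟩
    have hty : f t = f y * f t * (f y)⁻¹ := by
      rw [eq_mul_inv_iff_mul_eq, ← hy, ht]
      show tor hF d (j + 2) (a, g) * tor hF d (j + 2) (1, r) = tor hF d (j + 2) (1, r) * tor hF d (j + 2) (a, g)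
      rw [← map_mul, ← map_mul]
      refine congrArg _ (Prod.ext (mul_comm _ _) (unit_ext fun v => ?_))
      show g.1 (r.1 v) = r.1 (g.1 v)
      have ha : ((a : F) ^ q) ≠ 0 := pow_ne_zero _ a.ne_zero
      have hg : ∀ v, g.1 v = (((a : F) ^ q)⁻¹ * b) • v := fun v => by
        rw [← smul_smul, ← hbw, smul_smul, inv_mul_cancel₀ ha, one_smul]
      rw [hg, hg, map_smul]
    have e1 : ⁅t, y * x * y⁻¹⁆ = y * ⁅t, x⁆ * y⁻¹ := by
      rw [conjugate_commutatorElement]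
      exact comm_congr E.central (by rw [map_mul, map_mul, map_inv, ← hty]) rfl
    rw [e1, show (y * ⁅t, x⁆ * y⁻¹)⁻¹ * (y * e * y⁻¹) = y * (⁅t, x⁆⁻¹ * e) * y⁻¹ by group]
    have := mem_map_of_mem (MulAut.conj y).toMonoidHom he
    rw [map_commutator] at this
    have hle : Qt.map (MulAut.conj y).toMonoidHom ≤ Qt := by rintro _ ⟨v, hv, rfl⟩; exact hyn v hv
    exact commutator_mono hle hle this
  have hYY : ⁅Yt, Yt⁆ ≤ Yt := commutator_le.2 fun a ha b hb =>
    mul_mem (mul_mem (mul_mem ha hb) (inv_mem ha)) (inv_mem hb)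
  let L : Subgroup Γ :=
    { carrier := {z | ∃ e ∈ Q0, ∃ u ∈ ⁅Yt, Yt⁆, z = e * u}
      one_mem' := ⟨1, one_mem _, 1, one_mem _, (one_mul 1).symm⟩
      mul_mem' := by
        rintro _ _ ⟨e, he, u, hu, rfl⟩ ⟨e', he', u', hu', rfl⟩
        exact ⟨e * (u * e' * u⁻¹), mul_mem he (hQ0n u (hYY hu) e' he'), u * u', mul_mem hu hu', by group⟩
      inv_mem' := by
        rintro _ ⟨e, he, u, hu, rfl⟩
        exact ⟨u⁻¹ * e⁻¹ * (u⁻¹)⁻¹, hQ0n _ (inv_mem (hYY hu)) _ (inv_mem he), u⁻¹, inv_mem hu, by group⟩ }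
  have hQL : ∀ e ∈ Q0, e ∈ L := fun e he => ⟨e, he, 1, one_mem _, (mul_one e).symm⟩
  have hYL : ∀ u ∈ ⁅Yt, Yt⁆, u ∈ L := fun u hu => ⟨1, one_mem _, u, hu, (one_mul u).symm⟩
  have hgen : K.comap f ≤ closure ((Q0 : Set Γ) ∪ (Yt : Set Γ)) := by
    rintro v ⟨x, hx, y, hy, hv⟩
    obtain ⟨e, he, hex⟩ := hsec x hx
    have h : e⁻¹ * v ∈ Yt := by
      show f (e⁻¹ * v) ∈ Y
      rw [map_mul, map_inv, hv, hex, inv_mul_cancel_left]
      exact mem_map_of_mem _ hy
    have := mul_mem (Subgroup.subset_closure (k := (Q0 : Set Γ) ∪ (Yt : Set Γ)) (Or.inl he))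
      (Subgroup.subset_closure (Or.inr h))
    rwa [mul_inv_cancel_left] at this
  obtain ⟨e, he, u, hu, rfl⟩ : z ∈ L := by
    refine commutator_closure_le ?_ ?_ (commutator_mono hgen hgen hz)
    · rintro s (hs | hs) _ ⟨e, he, u, hu, rfl⟩
      · exact mul_mem (mul_mem (hQL s hs) ⟨e, he, u, hu, rfl⟩) (inv_mem (hQL s hs))
      · refine ⟨s * e * s⁻¹, hQ0n s hs e he, s * u * s⁻¹, ?_, by group⟩
        have := mem_map_of_mem (MulAut.conj s).toMonoidHom hu
        rw [map_commutator] at this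
        have hle : Yt.map (MulAut.conj s).toMonoidHom ≤ Yt := by
          rintro _ ⟨v, hv, rfl⟩; exact mul_mem (mul_mem hs hv) (inv_mem hs)
        exact commutator_mono hle hle this
    · rintro s (hs | hs) r (hr | hr)
      · exact hQL _ (mul_mem (mul_mem (mul_mem hs hr) (inv_mem hs)) (inv_mem hr))
      · rw [show ⁅s, r⁆ = s * (r * s⁻¹ * r⁻¹) by simp [commutatorElement_def, mul_assoc]]
        exact hQL _ (mul_mem hs (hQ0n r hr _ (inv_mem hs)))
      · exact hQL _ (mul_mem (hQ0n s hs r hr) (inv_mem hr))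
      · exact hYL _ (commutator_mem_commutator hs hr)
  obtain ⟨r, hr, hru⟩ : f u ∈ Y := hYY hu
  have hfu : f u = 1 := by
    have h : f u = (f e)⁻¹ := eq_inv_of_mul_eq_one_right (by rwa [map_mul] at hz1)
    rw [← hru]
    refine hint r ?_
    rw [show em r = f u from hru, h]
    exact inv_mem (hQ0Q e he)
  have hu1 := hYd u hu hfu
  subst hu1
  rw [mul_one] at hz1 ⊢
  exact hQ0s e he hz1

end CfsgLib.PSUCover
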