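import Cfsg.Agent.Lib.PSUCover.UnipLift

/-!
The derived group of the lifted root group meets the kernel trivially.
-/

set_option autoImplicit false
set_option linter.unusedSectionVars false
set_option linter.style.haveILetI false

namespace CfsgLib.PSUCover

open Module CfsgLib.Classical.Herm HermSpace Subgroup
open scoped commutatorElement

universe u

variable {F : Type u} [Field F] [Fintype F] {q : ℕ} (hF : Fintype.card F = q ^ 2) (d : HypData F q) {k : ℕ}

/-- The conditions under which the pairing factors through the form. -/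
def Fine (k : ℕ) : Prop :=
  (∃ b : F, b ^ 2 + b + 1 ≠ 0 ∧ Scal hF k b ∧ Scal hF k (b + 1)) ∨ (q = 2 ∧ k = 3)

variable {p : ℕ} [CharP F p] {Γ : Type u} [Group Γ] [Finite Γ] {f : Γ →* Unit' (stdHerm hF (k + 2))}

theorem derived_qGrp (E : Ext f p) (hk : 0 < k) (hfree : FreeScal hF k) (hfine : Fine hF k) :
    ∀ z ∈ ⁅(qGrp hF d k).comap f, (qGrp hF d k).comap f⁆, f z = 1 → z = 1 := by
  classical
  obtain ⟨A, iA, c, π, P, hz, hgood, hinv⟩ := exists_pairing hF d E hk hfree
  obtain ⟨v, hv, hfac⟩ : ∃ v, (stdHerm hF k).h v v = 1 ∧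
      ∀ x y, c x y = c ((stdHerm hF k).h x y • v) v := by
    rcases hfine with ⟨b, hb, h1, h2⟩ | ⟨hq, rfl⟩
    · have hq0 : q ≠ 0 := by intro h; simp [h] at hF
      have hvv : (stdHerm hF k).h (Pi.single ⟨0, hk⟩ 1) (Pi.single ⟨0, hk⟩ 1) = 1 := by
        simp [stdHerm_h, Cfsg.hermForm, Pi.single_apply, zero_pow hq0]
      refine ⟨_, hvv, fun x y => ?_⟩
      have := P.factor hb (hgood b h1) (hgood _ h2) (Pi.single ⟨0, hk⟩ 1) x y
      rwa [hvv, one_smul] at this
    subst hq
    have hp : p = 2 := by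
      obtain ⟨r, e, hr, hc, hqe⟩ := exists_charP_pow hF
      rw [CharP.eq F ‹CharP F p› hc]
      exact ((Nat.prime_dvd_prime_iff_eq Nat.prime_two hr).1
        (Nat.prime_two.dvd_of_dvd_pow (hqe ▸ dvd_refl 2 : 2 ∣ r ^ e))).symm
    subst hp
    obtain ⟨ω, hω, hω1⟩ := (stdHerm hF 3).exists_norm_one_ne_one
    have hω0 : ω ≠ 0 := fun h => by simp [h] at hω
    have hωa : 1 + ω ≠ 0 := fun h => hω1 (by
      rw [← CharTwo.add_eq_zero (R := F)]
      rwa [add_comm])
    have hall : ∀ x : F, x = 0 ∨ x = 1 ∨ x = ω ∨ x = 1 + ω := by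
      have hcard : ({0, 1, ω, 1 + ω} : Finset F) = Finset.univ := by
        refine Finset.eq_univ_of_card _ ?_
        rw [hF]
        simp [Finset.card_insert_of_notMem, hω0.symm, hω1.symm, hωa.symm, hω0]
      intro x
      have := hcard ▸ Finset.mem_univ x
      simpa using this
    let w : normOne F 2 := ⟨Units.mk0 ω hω0, by
      rw [MonoidHom.mem_ker, powMonoidHom_apply]
      refine Units.ext ?_
      rw [Units.val_pow_eq_pow_val, Units.val_mk0, Units.val_one, pow_succ']
      exact hω⟩
    have hw3 : w ^ 3 = 1 := Subtype.ext w.2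
    have hpow : ∀ g : Unit' (stdHerm hF 3), g ^ 3 = 1 →
        ((1 : Fˣ), g) ^ 3 = 1 := fun g hg => Prod.ext (one_pow 3) hg
    have hd3 : ∀ s : Fin 3 → normOne F 2, (diagHom hF s) ^ 3 = 1 := fun s => by
      rw [← map_pow, show s ^ 3 = 1 from funext fun i => Subtype.ext (s i).2, map_one]
    have hT : ∀ g : Unit' (stdHerm hF 3), detHom (stdHerm hF 3) g = 1 → TorOne hF 3 1 g := fun g hg => by
      rw [TorOne, hg]
      simp
    have hdet : ∀ s : Fin 3 → normOne F 2, ∏ i, s i = 1 → detHom (stdHerm hF 3) (diagHom hF s) = 1 :=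
      fun s hs => diagHom_mem_SG hF hs
    have key : ∀ g : Unit' (stdHerm hF 3), detHom (stdHerm hF 3) g = 1 → g ^ 3 = 1 →
        ∀ x y, c (g.1 x) (g.1 y) = c x y := fun g hg hg3 x y => by
      simpa using hinv 1 g (hT g hg) (by simp) 3 (by norm_num) (hpow g hg3) x y
    let v : Fin 3 → (Fin 3 → F) := fun i => Pi.single i 1
    have hv : ∀ i j, (stdHerm hF 3).h (v i) (v j) = if i = j then 1 else 0 := fun i j => by
      simp [v, stdHerm_h, Cfsg.hermForm, Pi.single_apply, eq_comm]
    refine ⟨v 0, by rw [hv]; simp, P.factor_four hω hall hω1 (fun x y => ?_) v hv (fun x => ?_)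
      (fun i j hij => ⟨ω, ω⁻¹, ?_, fun a a' => ?_⟩) (fun i a a' => ?_)⟩
    · have e : ∀ x, (diagHom hF (fun _ : Fin 3 => w)).1 x = ω • x := fun x => funext fun l => rfl
      have := key _ (hdet _ (by rw [Finset.prod_const, Finset.card_univ, Fintype.card_fin, hw3])) (hd3 _) x y
      rwa [e, e] at this
    · funext l
      simp [v, stdHerm_h, Cfsg.hermForm, Pi.single_apply]
    · rw [map_inv₀]
      have hc : (stdHerm hF 3).conj ω = ω⁻¹ := eq_inv_of_mul_eq_one_right hω
      rw [hc, inv_inv]
      intro h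
      have : (ω - 1) * (ω - 1) = 0 := by linear_combination h + (1 - ω) * CharTwo.two_eq_zero (R := F)
      exact hω1 (sub_eq_zero.1 (mul_self_eq_zero.1 this))
    · set s : Fin 3 → normOne F 2 := Pi.mulSingle i w * Pi.mulSingle j w⁻¹ with hs
      have hp : ∏ l, s l = 1 := by
        simp only [hs, Pi.mul_apply, Finset.prod_mul_distrib, Fintype.prod_pi_mulSingle']
        exact mul_inv_cancel w
      have hi : ∀ a : F, (diagHom hF s).1 (a • v i) = ω • a • v i := fun a => funext fun l => by
        show (mono hF s 1).1 _ l = _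
        rw [mono_apply]
        by_cases h : l = i
        · subst h; simp [v, hs, hij, w]
        · simp [v, Ne.symm h, Pi.single_apply, h]
      have hj : ∀ a : F, (diagHom hF s).1 (a • v j) = ω⁻¹ • a • v j := fun a => funext fun l => by
        show (mono hF s 1).1 _ l = _
        rw [mono_apply]
        by_cases h : l = j
        · subst h; simp [v, hs, Ne.symm hij, w]
        · simp [v, Pi.single_apply, h]
      have := key _ (hdet s hp) (hd3 s) (a • v i) (a' • v j)
      rwa [hi, hj] at this
    · set σ : Equiv.Perm (Fin 3) := Equiv.addRight (-i) with hσ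
      have hsg : ∀ s : Fin 3, Equiv.Perm.sign (Equiv.addRight s) = 1 := by decide
      have h3 : ∀ s : Fin 3, (Equiv.addRight s).trans ((Equiv.addRight s).trans (Equiv.addRight s)) = 1 := by
        decide
      have hg1 : detHom (stdHerm hF 3) (mono hF 1 σ) = 1 := by
        refine Units.ext ?_
        show (detHom (stdHerm hF 3) (mono hF 1 σ) : F) = 1
        rw [detHom_mono, hσ, hsg]
        simp
      have hg3 : (mono hF (1 : Fin 3 → normOne F 2) σ) ^ 3 = 1 := by
        rw [pow_succ', pow_two, mono_mul, mono_mul, hσ, h3]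
        convert mono_one hF (n := 3) (q := 2) using 2
        funext l; simp
      have hσv : ∀ a : F, (mono hF (1 : Fin 3 → normOne F 2) σ).1 (a • v 0) = a • v i := fun a => funext fun l => by
        rw [mono_apply]
        simp [v, hσ, Pi.single_apply, add_neg_eq_zero]
      have := key _ hg1 hg3 (a • v 0) (a' • v 0)
      rwa [hσv, hσv] at this
  intro z hz' hz1
  obtain ⟨a, ha, ha0, hone⟩ := hz z hz' hz1
  exact hone (P.eq_zero hv hfac ha ha0)

end CfsgLib.PSUCover
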