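import Cfsg.Agent.Lib.PSUCover.Basic
import Cfsg.Agent.Lib.PSUCover.Pairing
import Cfsg.Agent.Lib.PSUCover.Unip

/-!
Lifts of the root group at an isotropic vector: the derived group meets the kernel trivially.
-/

set_option autoImplicit false
set_option linter.unusedSectionVars false
set_option linter.style.haveILetI false

namespace CfsgLib.PSUCover

open Module CfsgLib.Classical.Herm HermSpace Subgroup
open scoped commutatorElement

universe u

variable {F : Type u} [Field F] [Fintype F] {q : ℕ} (hF : Fintype.card F = q ^ 2) (d : HypData F q) {k : ℕ}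

/-- A torus element of determinant one acting on the root group by `w ↦ conj a • g w`. -/
def TorOne (k : ℕ) (a : Fˣ) (g : Unit' (stdHerm hF k)) : Prop :=
  (a : F) * ((a : F) ^ q)⁻¹ * detHom (stdHerm hF k) g = 1

/-- A scalar realised by a torus element. -/
def Scal (k : ℕ) (b : F) : Prop :=
  ∃ a g, TorOne hF k a g ∧ ∀ w : Fin k → F, (a : F) ^ q • g.1 w = b • w

/-- A scalar other than one realised by a torus element centralising the root centre. -/
def FreeScal (k : ℕ) : Prop :=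
  ∃ b : F, b ≠ 1 ∧ ∃ a g, TorOne hF k a g ∧ (a : F) * (a : F) ^ q = 1 ∧
    ∀ w : Fin k → F, (a : F) ^ q • g.1 w = b • w

include hF in
theorem cond_tor {a : Fˣ} (g : Unit' (stdHerm hF k)) {w : Fin k → F} {l : F}
    (c : l + l ^ q + (stdHerm hF k).h w w = 0) :
    ((a : F) * (a : F) ^ q * l) + ((a : F) * (a : F) ^ q * l) ^ q +
      (stdHerm hF k).h ((a : F) ^ q • g.1 w) ((a : F) ^ q • g.1 w) = 0 := by
  have h2 : ((a : F) ^ q) ^ q = a := (stdHerm hF k).conj_conj (a : F)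
  rw [(stdHerm hF k).smul_left, (stdHerm hF k).smul_right, unit_h, stdHerm_conj, h2, mul_pow,
    mul_pow, h2]
  linear_combination (a : F) * (a : F) ^ q * c

theorem rt_comm {w w' : Fin k → F} {l l' : F} (c : l + l ^ q + (stdHerm hF k).h w w = 0)
    (c' : l' + l' ^ q + (stdHerm hF k).h w' w' = 0) :
    ∃ c'', ⁅rt hF d k w l c, rt hF d k w' l' c'⁆ =
      rt hF d k 0 ((stdHerm hF k).h w w' - (stdHerm hF k).h w' w) c'' := by
  have e : ((stdHerm hF k).h w w') ^ q = (stdHerm hF k).h w' w := (stdHerm hF k).symm' w w'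
  have e' : ((stdHerm hF k).h w' w) ^ q = (stdHerm hF k).h w w' := (stdHerm hF k).symm' w' w
  refine ⟨by rw [sub_pow_q hF, e, e', (stdHerm hF k).zero_left]; ring, ?_⟩
  rw [commutatorElement_def, mul_inv_eq_iff_eq_mul, mul_inv_eq_iff_eq_mul, mul_assoc, rt_mul hF d c c',
    rt_mul hF d c' c, rt_mul hF d]
  refine rt_congr hF d _ _ (by rw [zero_add, add_comm]) ?_
  rw [(stdHerm hF k).zero_right]
  ring

variable {p : ℕ} {Γ : Type u} [Group Γ] [Finite Γ] {f : Γ →* Unit' (stdHerm hF (k + 2))}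

/-- The image lies in the centre of the root group. -/
def InC (f : Γ →* Unit' (stdHerm hF (k + 2))) (x : Γ) : Prop :=
  ∃ l c, f x = rt hF d k 0 l c

theorem exists_torus (E : Ext f p) {a : Fˣ} {g : Unit' (stdHerm hF k)} (h : TorOne hF k a g) :
    ∃ t, f t = tor hF d k (a, g) := by
  have : tor hF d k (a, g) ∈ f.range := by
    rw [E.range_eq]
    refine Units.ext ?_
    show (detHom (stdHerm hF (k + 2)) (tor hF d k (a, g)) : F) = 1
    rw [detHom_tor]
    exact h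
  exact this

theorem exists_rtLift (E : Ext f p) {w : Fin k → F} {l : F} (c : l + l ^ q + (stdHerm hF k).h w w = 0) :
    ∃ x, f x = rt hF d k w l c := by
  have : rt hF d k w l c ∈ f.range := E.range_eq ▸ rt_mem_SG hF d c
  exact this

theorem conj_image {t x : Γ} {a : Fˣ} {g : Unit' (stdHerm hF k)} (ht : f t = tor hF d k (a, g))
    {w : Fin k → F} {l : F} {c : l + l ^ q + (stdHerm hF k).h w w = 0} (hx : f x = rt hF d k w l c) :
    f (t * x * t⁻¹) = rt hF d k ((a : F) ^ q • g.1 w) ((a : F) * (a : F) ^ q * l) (cond_tor hF g c) := by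
  rw [map_mul, map_mul, map_inv, ht, hx, tor_conj_rt hF d a g c]

/-- Every central element of the root group is a commutator. -/
theorem exists_comm_eq_rt (hk : 0 < k) {l : F} (c : l + l ^ q + (stdHerm hF k).h (0 : Fin k → F) 0 = 0) :
    ∃ (w w' : Fin k → F), (stdHerm hF k).h w w' - (stdHerm hF k).h w' w = l := by
  set v : Fin k → F := Pi.single ⟨0, hk⟩ 1 with hv
  obtain ⟨τ, hτ⟩ := (stdHerm hF k).exists_trace_one
  have hvv : (stdHerm hF k).h v v = 1 := by
    have hq : q ≠ 0 := by intro h; simp [h] at hF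
    simp [hv, stdHerm_h, Cfsg.hermForm, Pi.single_apply, zero_pow hq]
  have hl : (stdHerm hF k).conj l = -l := by
    rw [(stdHerm hF k).zero_left, add_zero] at c
    exact (neg_eq_of_add_eq_zero_right c).symm
  refine ⟨(l * τ) • v, v, ?_⟩
  rw [(stdHerm hF k).smul_left, (stdHerm hF k).smul_right, hvv, map_mul, hl]
  linear_combination l * hτ

/-- Elements over the root group commute with those over its centre. -/
theorem commute_center (E : Ext f p) (hk : 0 < k) (hfree : FreeScal hF k) {x z : Γ}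
    (hx : f x ∈ qGrp hF d k) (hz : InC hF d f z) : x * z = z * x := by
  obtain ⟨b, hb, a, g, hT, hN, hbw⟩ := hfree
  obtain ⟨t, ht⟩ := exists_torus hF d E hT
  obtain ⟨ν, cν, hν⟩ := hz
  have hcomm : ∀ y, f y ∈ qGrp hF d k → Commute (f y) (f z) := by
    rintro y ⟨w, l, c, hy⟩
    rw [hy, hν, Commute, SemiconjBy, rt_mul hF d c cν, rt_mul hF d cν c]
    exact rt_congr hF d _ _ (add_comm _ _)
      (by rw [(stdHerm hF k).zero_left, (stdHerm hF k).zero_right]; ring)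
  have hzc : ∀ y, f y ∈ qGrp hF d k → ⁅y, z⁆ ∈ center Γ := fun y hy => comm_central E.central (hcomm y hy)
  have hmul : ∀ y y', f y ∈ qGrp hF d k → f y' ∈ qGrp hF d k → ⁅y * y', z⁆ = ⁅y, z⁆ * ⁅y', z⁆ :=
    fun y y' _ hy' => comm_mul_left (hzc y' hy')
  have htz : f (t * z * t⁻¹) = f z := by
    rw [conj_image hF d ht hν, hν]
    exact rt_congr hF d _ _ (by rw [map_zero, smul_zero]) (by rw [hN, one_mul])
  have hinv : ∀ y, f y ∈ qGrp hF d k → f (t * y * t⁻¹) ∈ qGrp hF d k ∧ ⁅t * y * t⁻¹, z⁆ = ⁅y, z⁆ := by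
    intro y hy
    have hy' := hy
    obtain ⟨w, l, c, hyw⟩ := hy'
    refine ⟨⟨_, _, _, conj_image hF d ht hyw⟩, ?_⟩
    rw [comm_congr E.central rfl htz.symm]
    exact comm_conj_invariant (hzc y hy) t
  obtain ⟨w, l, c, hxw⟩ := hx
  -- a commutator with the torus over the same vector
  set u := (b - 1)⁻¹ • w with hu
  obtain ⟨τ, hτ⟩ := (stdHerm hF k).exists_trace_one
  obtain ⟨m, cm⟩ : ∃ m, m + m ^ q + (stdHerm hF k).h u u = 0 := by
    refine ⟨-((stdHerm hF k).h u u * τ), ?_⟩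
    show _ + (stdHerm hF k).conj (-((stdHerm hF k).h u u * τ)) + _ = 0
    rw [map_neg, map_mul, (stdHerm hF k).conj_diag]
    linear_combination -(stdHerm hF k).h u u * hτ
  obtain ⟨ξ, hξ⟩ := exists_rtLift hF d E cm
  have hξQ : f ξ ∈ qGrp hF d k := ⟨_, _, _, hξ⟩
  have h1 : ⁅t * ξ * t⁻¹ * ξ⁻¹, z⁆ = 1 := by
    rw [hmul _ _ (hinv ξ hξQ).1 (by rw [map_inv]; exact inv_mem hξQ), (hinv ξ hξQ).2,
      ← hmul _ _ hξQ (by rw [map_inv]; exact inv_mem hξQ), mul_inv_cancel, commutatorElement_one_left]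
  set η := t * ξ * t⁻¹ * ξ⁻¹ with hη
  have hηQ : f η ∈ qGrp hF d k := by
    rw [hη, map_mul, map_inv]
    exact mul_mem (hinv ξ hξQ).1 (inv_mem hξQ)
  obtain ⟨w₁, l₁, c₁, hη1⟩ := hηQ
  have hw1 : w₁ = w := by
    have e : f η * f ξ = f (t * ξ * t⁻¹) := by rw [← map_mul, hη, inv_mul_cancel_right]
    rw [hη1, hξ, conj_image hF d ht hξ, rt_mul hF d c₁ cm] at e
    have := (rt_injective hF d e).1
    rw [eq_sub_of_add_eq this, hbw, hu, smul_smul, ← sub_smul, ← sub_one_mul,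
      mul_inv_cancel₀ (sub_ne_zero.2 hb), one_smul]
  -- the remaining factor is a commutator of the root group
  have hc' := hcomm (η⁻¹ * x) (by rw [map_mul, map_inv]; exact mul_mem (inv_mem ⟨_, _, _, hη1⟩) ⟨_, _, _, hxw⟩)
  obtain ⟨w₂, l₂, c₂, hζ⟩ : f (η⁻¹ * x) ∈ qGrp hF d k := by
    rw [map_mul, map_inv]; exact mul_mem (inv_mem ⟨_, _, _, hη1⟩) ⟨_, _, _, hxw⟩
  have hw2 : w₂ = 0 := by
    have e : f η * f (η⁻¹ * x) = f x := by rw [← map_mul, mul_inv_cancel_left]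
    rw [hη1, hζ, hxw, rt_mul hF d c₁ c₂] at e
    have := (rt_injective hF d e).1
    rw [hw1] at this
    simpa using this
  subst hw2
  obtain ⟨v, v', hvv⟩ := exists_comm_eq_rt hF hk c₂
  obtain ⟨m₁, cm₁⟩ : ∃ m, m + m ^ q + (stdHerm hF k).h v v = 0 := by
    refine ⟨-((stdHerm hF k).h v v * τ), ?_⟩
    show _ + (stdHerm hF k).conj (-((stdHerm hF k).h v v * τ)) + _ = 0
    rw [map_neg, map_mul, (stdHerm hF k).conj_diag]
    linear_combination -(stdHerm hF k).h v v * hτ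
  obtain ⟨m₂, cm₂⟩ : ∃ m, m + m ^ q + (stdHerm hF k).h v' v' = 0 := by
    refine ⟨-((stdHerm hF k).h v' v' * τ), ?_⟩
    show _ + (stdHerm hF k).conj (-((stdHerm hF k).h v' v' * τ)) + _ = 0
    rw [map_neg, map_mul, (stdHerm hF k).conj_diag]
    linear_combination -(stdHerm hF k).h v' v' * hτ
  obtain ⟨y, hy⟩ := exists_rtLift hF d E cm₁
  obtain ⟨y', hy'⟩ := exists_rtLift hF d E cm₂
  have hyQ : f y ∈ qGrp hF d k := ⟨_, _, _, hy⟩
  have hy'Q : f y' ∈ qGrp hF d k := ⟨_, _, _, hy'⟩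
  have h2 : ⁅η⁻¹ * x, z⁆ = 1 := by
    have he : f ⁅y, y'⁆ = f (η⁻¹ * x) := by
      obtain ⟨c3, h3⟩ := rt_comm hF d cm₁ cm₂
      rw [map_commutatorElement, hy, hy', h3, hζ]
      exact rt_congr hF d _ _ rfl hvv
    rw [← comm_congr E.central he rfl, commutatorElement_def y y',
      hmul _ _ (by simp only [map_mul, map_inv]; exact mul_mem (mul_mem hyQ hy'Q) (inv_mem hyQ))
        (by rw [map_inv]; exact inv_mem hy'Q),
      hmul _ _ (by simp only [map_mul]; exact mul_mem hyQ hy'Q) (by rw [map_inv]; exact inv_mem hyQ),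
      hmul _ _ hyQ hy'Q]
    have i1 : ⁅y, z⁆ * ⁅y⁻¹, z⁆ = 1 := by
      rw [← hmul _ _ hyQ (by rw [map_inv]; exact inv_mem hyQ), mul_inv_cancel, commutatorElement_one_left]
    have i2 : ⁅y', z⁆ * ⁅y'⁻¹, z⁆ = 1 := by
      rw [← hmul _ _ hy'Q (by rw [map_inv]; exact inv_mem hy'Q), mul_inv_cancel, commutatorElement_one_left]
    rw [mul_assoc ⁅y, z⁆ ⁅y', z⁆ ⁅y⁻¹, z⁆, ← mem_center_iff.1 (hzc y' hy'Q) ⁅y⁻¹, z⁆, ← mul_assoc ⁅y, z⁆, i1,
      one_mul, i2]
  apply commutatorElement_eq_one_iff_mul_comm.1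
  rw [← mul_inv_cancel_left η x, hmul _ _ ⟨_, _, _, hη1⟩ ⟨_, _, _, hζ⟩, hη, h1, ← hη, h2, one_mul]

/-- The pairing given by commutators of lifts. -/
theorem exists_pairing (E : Ext f p) (hk : 0 < k) (hfree : FreeScal hF k) :
    ∃ (A : Type u) (_ : AddCommGroup A) (c : (Fin k → F) → (Fin k → F) → A) (π : A →+ F),
      Pairing (stdHerm hF k) c π ∧
      (∀ z ∈ ⁅(qGrp hF d k).comap f, (qGrp hF d k).comap f⁆, f z = 1 →
        ∃ a ∈ AddSubgroup.closure (Set.range fun w : (Fin k → F) × (Fin k → F) => c w.1 w.2),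
          π a = 0 ∧ (a = 0 → z = 1)) ∧
      (∀ b, Scal hF k b → GoodScalar c π b) ∧
      ∀ a g, TorOne hF k a g → (a : F) * (a : F) ^ q = 1 → ∀ m, ¬ p ∣ m → (a, g) ^ m = 1 →
        ∀ x y, c ((a : F) ^ q • g.1 x) ((a : F) ^ q • g.1 y) = c x y := by
  classical
  let Z : Subgroup Γ :=
    { carrier := {x | InC hF d f x}
      one_mem' := ⟨0, by
        rw [(stdHerm hF k).zero_left]; simp [zero_pow (show q ≠ 0 by intro h; simp [h] at hF)], by
        rw [map_one, rt_zero]⟩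
      mul_mem' := by
        rintro x y ⟨l, c, hx⟩ ⟨l', c', hy⟩
        refine ⟨l + l' - (stdHerm hF k).h 0 0, by simpa only [add_zero] using rt_cond_add hF c c', ?_⟩
        rw [map_mul, hx, hy, rt_mul hF d c c']
        exact rt_congr hF d _ _ (add_zero _) rfl
      inv_mem' := by
        rintro x ⟨l, c, hx⟩
        obtain ⟨w', l', c', e⟩ := Subgroup.inv_mem (qGrp hF d k) (x := f x) ⟨0, l, c, hx⟩
        have h := congrArg (fun g => f x * g) e
        simp only [mul_inv_cancel] at h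
        rw [hx, rt_mul hF d c c', ← rt_zero hF d (k := k) (by
          simp [zero_pow (show q ≠ 0 by intro h; simp [h] at hF), Cfsg.hermForm])] at h
        have hw : w' = 0 := by simpa using ((rt_injective hF d h).1).symm
        exact ⟨l', hw ▸ c', by rw [map_inv, e]; exact rt_congr hF d _ _ hw rfl⟩ }
  have hZQ : ∀ {x}, x ∈ Z → f x ∈ qGrp hF d k := fun ⟨l, c, hx⟩ => ⟨0, l, c, hx⟩
  have hcz : ∀ {x z}, f x ∈ qGrp hF d k → z ∈ Z → x * z = z * x := fun hx hz =>
    commute_center hF d E hk hfree hx hz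
  letI : CommGroup Z :=
    { (inferInstance : Group Z) with mul_comm := fun a b => Subtype.ext (hcz (hZQ a.2) b.2) }
  obtain ⟨τ, hτ⟩ := (stdHerm hF k).exists_trace_one
  have hlam : ∀ w : Fin k → F, -((stdHerm hF k).h w w * τ) + (-((stdHerm hF k).h w w * τ)) ^ q +
      (stdHerm hF k).h w w = 0 := fun w => by
    show _ + (stdHerm hF k).conj (-((stdHerm hF k).h w w * τ)) + _ = 0
    rw [map_neg, map_mul, (stdHerm hF k).conj_diag]
    linear_combination -(stdHerm hF k).h w w * hτ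
  choose Lw hLw using fun w => exists_rtLift hF d E (hlam w)
  -- a commutator depends only on the vectors
  have hindep : ∀ {x y w w' l l'} {c : l + l ^ q + (stdHerm hF k).h w w = 0}
      {c' : l' + l' ^ q + (stdHerm hF k).h w' w' = 0},
      f x = rt hF d k w l c → f y = rt hF d k w' l' c' → ⁅x, y⁆ = ⁅Lw w, Lw w'⁆ := by
    have one : ∀ {x y w l} {c : l + l ^ q + (stdHerm hF k).h w w = 0}, f x = rt hF d k w l c →
        f y ∈ qGrp hF d k → ⁅x, y⁆ = ⁅Lw w, y⁆ := by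
      intro x y w l c hx hy
      have hz : (Lw w)⁻¹ * x ∈ Z := by
        obtain ⟨w₁, l₁, c₁, e₁⟩ : f ((Lw w)⁻¹ * x) ∈ qGrp hF d k := by
          rw [map_mul, map_inv]; exact mul_mem (inv_mem ⟨_, _, _, hLw w⟩) ⟨_, _, _, hx⟩
        have e : f (Lw w) * f ((Lw w)⁻¹ * x) = f x := by rw [← map_mul, mul_inv_cancel_left]
        rw [hLw, e₁, hx, rt_mul hF d (hlam w) c₁] at e
        have hw : w₁ = 0 := by simpa using (rt_injective hF d e).1
        exact ⟨l₁, hw ▸ c₁, e₁.trans (rt_congr hF d _ _ hw rfl)⟩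
      have hyz := hcz hy hz
      conv_lhs => rw [← mul_inv_cancel_left (Lw w) x]
      simp only [commutatorElement_def]
      calc Lw w * ((Lw w)⁻¹ * x) * y * (Lw w * ((Lw w)⁻¹ * x))⁻¹ * y⁻¹
          = Lw w * (((Lw w)⁻¹ * x) * y) * ((Lw w)⁻¹ * x)⁻¹ * (Lw w)⁻¹ * y⁻¹ := by group
        _ = _ := by rw [← hyz]; group
    intro x y w w' l l' c c' hx hy
    rw [one hx ⟨_, _, _, hy⟩, ← commutatorElement_inv, one hy ⟨_, _, _, hLw w⟩, commutatorElement_inv]
  have hmemZ : ∀ {x y}, f x ∈ qGrp hF d k → f y ∈ qGrp hF d k → ⁅x, y⁆ ∈ Z := by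
    rintro x y ⟨w, l, c, hx⟩ ⟨w', l', c', hy⟩
    obtain ⟨c'', e⟩ := rt_comm hF d c c'
    exact ⟨_, c'', by rw [map_commutatorElement, hx, hy, e]⟩
  let cc : (Fin k → F) → (Fin k → F) → Additive Z := fun w w' =>
    Additive.ofMul ⟨⁅Lw w, Lw w'⁆, hmemZ ⟨_, _, _, hLw w⟩ ⟨_, _, _, hLw w'⟩⟩
  let co : Z → F := fun x => ((hyp d k).symm ((f x.1).1 (fV d k))).1.1
  have hco : ∀ (x : Z) l c, f x.1 = rt hF d k 0 l c → co x = l := by
    intro x l c hx
    show ((hyp d k).symm ((f x.1).1 (fV d k))).1.1 = l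
    have hfe : (stdHerm hF (k + 2)).h (fV d k) (eV d k) = 1 := by
      rw [fV, eV, h_hyp hF, (stdHerm hF k).zero_left]
      simp [zero_pow (show q ≠ 0 by intro h; simp [h] at hF)]
    rw [hx, rt, root_apply, hfe, show wV d k (0 : Fin k → F) = 0 from map_zero (hyp d k),
      (stdHerm hF (k + 2)).zero_right, one_smul, neg_zero, zero_add, mul_one, add_zero, fV, eV, ← map_smul,
      ← map_add, LinearEquiv.symm_apply_apply]
    simp
  let π : Additive Z →+ F :=
    AddMonoidHom.mk' (fun x => co x.toMul) fun x y => by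
      obtain ⟨l, c, hx⟩ := x.toMul.2
      obtain ⟨l', c', hy⟩ := y.toMul.2
      show co (x.toMul * y.toMul) = co x.toMul + co y.toMul
      rw [hco _ l c hx, hco _ l' c' hy]
      have c'' := rt_cond_add hF c c'
      rw [add_zero, (stdHerm hF k).zero_left, sub_zero] at c''
      refine hco _ (l + l') (by rw [(stdHerm hF k).zero_left]; exact c'') ?_
      rw [Subgroup.coe_mul, map_mul, hx, hy, rt_mul hF d c c']
      exact rt_congr hF d _ _ (add_zero _) (by rw [(stdHerm hF k).zero_left, sub_zero])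
  have hker : ∀ x : Z, co x = 0 → f x.1 = 1 := by
    intro x h0
    obtain ⟨l, c, hx⟩ := x.2
    rw [hco x l c hx] at h0
    subst h0
    rw [hx, rt_zero]
  have hadd : ∀ w w' v, ⁅Lw (w + w'), Lw v⁆ = ⁅Lw w, Lw v⁆ * ⁅Lw w', Lw v⁆ := by
    intro w w' v
    have e : f (Lw w * Lw w') = rt hF d k (w + w') _ (rt_cond_add hF (hlam w) (hlam w')) := by
      rw [map_mul, hLw, hLw, rt_mul]
    rw [← hindep e (hLw v),
      show ⁅Lw w * Lw w', Lw v⁆ = Lw w * ⁅Lw w', Lw v⁆ * (Lw w)⁻¹ * ⁅Lw w, Lw v⁆ by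
        simp only [commutatorElement_def]; group,
      hcz ⟨_, _, _, hLw w⟩ (hmemZ ⟨_, _, _, hLw w'⟩ ⟨_, _, _, hLw v⟩), mul_inv_cancel_right,
      hcz (hZQ (hmemZ ⟨_, _, _, hLw w'⟩ ⟨_, _, _, hLw v⟩)) (hmemZ ⟨_, _, _, hLw w⟩ ⟨_, _, _, hLw v⟩)]
  have hcl : ∀ w w' v, cc (w + w') v = cc w v + cc w' v := fun w w' v =>
    congrArg Additive.ofMul (Subtype.ext (hadd w w' v) :
      (⟨_, hmemZ ⟨_, _, _, hLw (w + w')⟩ ⟨_, _, _, hLw v⟩⟩ : Z) = ⟨_, hmemZ ⟨_, _, _, hLw w⟩ ⟨_, _, _, hLw v⟩⟩ *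
        ⟨_, hmemZ ⟨_, _, _, hLw w'⟩ ⟨_, _, _, hLw v⟩⟩)
  have hanti : ∀ w v, cc w v = -cc v w := fun w v =>
    congrArg Additive.ofMul (Subtype.ext (commutatorElement_inv _ _).symm :
      (⟨_, hmemZ ⟨_, _, _, hLw w⟩ ⟨_, _, _, hLw v⟩⟩ : Z) = (⟨_, hmemZ ⟨_, _, _, hLw v⟩ ⟨_, _, _, hLw w⟩⟩)⁻¹)
  have hP : Pairing (stdHerm hF k) cc π := by
    refine ⟨hcl, fun x y y' => ?_, fun x => ?_, fun x y => ?_⟩
    · rw [hanti, hcl, neg_add, ← hanti, ← hanti]
    · exact congrArg Additive.ofMul (Subtype.ext (commutatorElement_self (Lw x)))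
    · obtain ⟨c'', e⟩ := rt_comm hF d (hlam x) (hlam y)
      exact hco _ _ c'' (by show f ⁅Lw x, Lw y⁆ = _; rw [map_commutatorElement, hLw, hLw, e])
  have hconjc : ∀ {t : Γ} {a : Fˣ} {g : Unit' (stdHerm hF k)}, f t = tor hF d k (a, g) → ∀ x y,
      ⁅Lw ((a : F) ^ q • g.1 x), Lw ((a : F) ^ q • g.1 y)⁆ = t * ⁅Lw x, Lw y⁆ * t⁻¹ := by
    intro t a g ht x y
    rw [conjugate_commutatorElement]
    exact (hindep (conj_image hF d ht (hLw x)) (conj_image hF d ht (hLw y))).symm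
  refine ⟨Additive Z, inferInstance, cc, π, hP, ?_, ?_, ?_⟩
  · intro z hz hz1
    let S := AddSubgroup.closure (Set.range fun w : (Fin k → F) × (Fin k → F) => cc w.1 w.2)
    let T : Subgroup Γ :=
      { carrier := {x | ∃ hx : x ∈ Z, Additive.ofMul (⟨x, hx⟩ : Z) ∈ S}
        one_mem' := ⟨one_mem Z, S.zero_mem⟩
        mul_mem' := fun ⟨hx, hx'⟩ ⟨hy, hy'⟩ => ⟨mul_mem hx hy, S.add_mem hx' hy'⟩
        inv_mem' := fun ⟨hx, hx'⟩ => ⟨inv_mem hx, S.neg_mem hx'⟩ }
    obtain ⟨hzZ, hzS⟩ : z ∈ T := by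
      refine (Subgroup.commutator_le).2 ?_ hz
      rintro x ⟨w, l, c, hx⟩ y ⟨w', l', c', hy⟩
      refine ⟨hmemZ ⟨w, l, c, hx⟩ ⟨w', l', c', hy⟩, AddSubgroup.subset_closure ⟨(w, w'), ?_⟩⟩
      exact congrArg Additive.ofMul (Subtype.ext (hindep hx hy).symm)
    refine ⟨_, hzS, ?_, fun h => congrArg (fun a : Additive Z => (a.toMul : Γ)) h⟩
    obtain ⟨l, c, hl⟩ := hzZ
    have e : rt hF d k 0 l c = rt hF d k 0 0 (by
        simp [zero_pow (show q ≠ 0 by intro h; simp [h] at hF), Cfsg.hermForm]) := by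
      rw [← hl, hz1, rt_zero]
    exact (hco _ l c hl).trans (rt_injective hF d e).2
  · rintro b ⟨a, g, hT, hbw⟩
    obtain ⟨t, ht⟩ := exists_torus hF d E hT
    let σ : Z →* Z :=
      MonoidHom.mk' (fun x => ⟨t * x.1 * t⁻¹, by
        obtain ⟨l, c, hx⟩ := x.2
        exact ⟨_, by simpa only [map_zero, smul_zero] using cond_tor hF g (a := a) c,
          (conj_image hF d ht hx).trans (rt_congr hF d _ _ (by rw [map_zero, smul_zero]) rfl)⟩⟩)
        fun x y => Subtype.ext (by simp only [Subgroup.coe_mul]; group)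
    refine ⟨MonoidHom.toAdditive σ, fun x hx => ?_, fun x y => ?_⟩
    · refine congrArg Additive.ofMul (Subtype.ext ?_ : σ x.toMul = x.toMul)
      show t * _ * t⁻¹ = _
      rw [mem_center_iff.1 (E.central (hker x.toMul hx)) t, mul_inv_cancel_right]
    · rw [← hbw, ← hbw]
      exact congrArg Additive.ofMul (Subtype.ext (hconjc ht x y))
  · intro a g hT hN m hm hpow x y
    obtain ⟨t, ht⟩ := exists_torus hF d E hT
    refine congrArg Additive.ofMul (Subtype.ext ?_)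
    show ⁅Lw _, Lw _⁆ = ⁅Lw x, Lw y⁆
    obtain ⟨c'', e⟩ := rt_comm hF d (hlam x) (hlam y)
    have hfix : Commute (f t) (f ⁅Lw x, Lw y⁆) := by
      rw [map_commutatorElement, hLw, hLw, e, ht, Commute, SemiconjBy, ← mul_inv_eq_iff_eq_mul,
        tor_conj_rt hF d a g c'' (cond_tor hF g c'')]
      exact rt_congr hF d _ _ (by rw [map_zero, smul_zero]) (by rw [hN, one_mul])
    rw [hconjc ht, (commute_of_coprime E.central E.prime E.card_ker hfix
      (m := m) (by rw [ht, ← map_pow, hpow, map_one]) hm).eq, mul_inv_cancel_right]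

end CfsgLib.PSUCover
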