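import Cfsg.Agent.Lib.PSUCover.UnipBase
import Cfsg.Agent.Lib.PSUCover.Three

/-!
The characteristic in dimensions three, four and five.
-/

set_option autoImplicit false
set_option linter.unusedSectionVars false
set_option linter.style.haveILetI false

namespace CfsgLib.PSUCover

open Module CfsgLib.Classical.Herm HermSpace Subgroup

universe u

variable {F : Type u} [Field F] [Fintype F] {q : ℕ} (hF : Fintype.card F = q ^ 2)

include hF in
theorem one_lt_q' : 1 < q := by
  rcases Nat.lt_or_ge 1 q with h | h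
  · exact h
  have h1 : 1 < Fintype.card F := Fintype.one_lt_card
  rw [hF] at h1
  exact absurd h1 (not_lt.2 (pow_le_one₀ (Nat.zero_le q) h))

include hF in
theorem unit_pow_card (s : Fˣ) : s ^ (q ^ 2 - 1) = 1 := by
  refine Units.ext ?_
  rw [Units.val_pow_eq_pow_val, Units.val_one, ← hF]
  exact FiniteField.pow_card_sub_one_eq_one _ s.ne_zero

include hF in
theorem scalar_mem (s : Fˣ) : s ^ (q - 1) ∈ normOne F q := by
  rw [MonoidHom.mem_ker, powMonoidHom_apply, ← pow_mul]
  have e : (q - 1) * (q + 1) = q ^ 2 - 1 := by rw [mul_comm]; simpa using (Nat.sq_sub_sq q 1).symm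
  rw [e, unit_pow_card hF]

/-- A scalar torus element from a parameter. -/
theorem torOne_param (k : ℕ) (s : Fˣ) :
    TorOne hF k (s ^ k) (diagHom hF fun _ => ⟨s ^ (q - 1), scalar_mem hF s⟩) := by
  have hq := one_lt_q' hF
  show _ * _ * (detHom (stdHerm hF k) (mono hF _ 1) : F) = 1
  rw [detHom_mono]
  simp only [Equiv.Perm.sign_one, Units.val_one, Int.cast_one, one_mul, Finset.prod_const, Finset.card_univ,
    Fintype.card_fin, Subgroup.coe_pow, Units.val_pow_eq_pow_val]
  rw [← pow_mul, ← pow_mul, mul_right_comm, ← pow_add, show k + (q - 1) * k = k * q by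
    obtain ⟨r, rfl⟩ : ∃ r, q = r + 1 := ⟨q - 1, by omega⟩
    simp; ring]
  exact mul_inv_cancel₀ (pow_ne_zero _ s.ne_zero)

theorem scal_param (k : ℕ) (s : Fˣ) : Scal hF k ((s : F) ^ (k * q + (q - 1))) :=
  ⟨s ^ k, _, torOne_param hF k s, fun w => funext fun i => by
    show ((s ^ k : Fˣ) : F) ^ q * (((s ^ (q - 1) : Fˣ) : F) * w i) = _ * w i
    rw [Units.val_pow_eq_pow_val, Units.val_pow_eq_pow_val, ← pow_mul, pow_add, mul_assoc]⟩

theorem scal_fixed (k : ℕ) {b : F} (hb : b ^ q = b) (h0 : b ≠ 0) : Scal hF k b := by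
  refine ⟨Units.mk0 b h0, 1, ?_, fun w => ?_⟩
  · show b * (b ^ q)⁻¹ * _ = 1
    rw [hb, map_one, Units.val_one, mul_one, mul_inv_cancel₀ h0]
  · show b ^ q • w = b • w
    rw [hb]

theorem scal_all {k j c : ℕ} (h : (k * q + (q - 1)) * j = c * (q ^ 2 - 1) + 1) {b : F} (h0 : b ≠ 0) :
    Scal hF k b := by
  have := scal_param hF k (Units.mk0 b h0 ^ j)
  rwa [← Units.val_pow_eq_pow_val, ← pow_mul, mul_comm j, h, pow_add, pow_one, mul_comm c, pow_mul,
    unit_pow_card hF, one_pow, one_mul, Units.val_mk0] at this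

theorem freeScal_of {k : ℕ} (hk : ¬ q + 1 ∣ k + 2) : FreeScal hF k := by
  obtain ⟨g, hg⟩ := IsCyclic.exists_generator (α := normOne F q)
  have hord : orderOf (g : Fˣ) = q + 1 := by
    rw [Subgroup.orderOf_coe, orderOf_eq_card_of_forall_mem_zpowers hg, card_normOne_units hF]
  have hq := one_lt_q' hF
  refine ⟨((g : Fˣ) : F) ^ (k * q + (q - 1)), fun h => hk ?_, (g : Fˣ) ^ k, _, torOne_param hF k g, ?_,
    fun w => funext fun i => ?_⟩
  · rw [← Units.val_pow_eq_pow_val, Units.val_eq_one, ← orderOf_dvd_iff_pow_eq_one, hord] at h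
    refine (Nat.dvd_add_right h).1 ⟨k + 1, ?_⟩
    obtain ⟨r, rfl⟩ : ∃ r, q = r + 1 := ⟨q - 1, by omega⟩
    simp; ring
  · rw [← pow_succ', ← Units.val_pow_eq_pow_val, ← pow_mul, mul_comm, pow_mul,
      show (g : Fˣ) ^ (q + 1) = 1 from g.2, one_pow, Units.val_one]
  · show ((((g : Fˣ) ^ k : Fˣ)) : F) ^ q * ((((g : Fˣ) ^ (q - 1) : Fˣ) : F) * w i) = _ * w i
    rw [Units.val_pow_eq_pow_val, Units.val_pow_eq_pow_val, ← pow_mul, pow_add, mul_assoc]

theorem exists_nonroot (s : Finset F) (hs : 5 ≤ s.card) :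
    ∃ b ∈ s, b ≠ 0 ∧ b + 1 ≠ 0 ∧ b ^ 2 + b + 1 ≠ 0 := by
  classical
  by_contra h
  push Not at h
  let P : Polynomial F := Polynomial.X * (Polynomial.X + 1) * (Polynomial.X ^ 2 + Polynomial.X + 1)
  have hd : P.natDegree = 4 := by simp only [P]; compute_degree!
  have hne : P ≠ 0 := fun e => by simp [e] at hd
  have hsub : s ⊆ P.roots.toFinset := fun x hx => by
    rw [Multiset.mem_toFinset, Polynomial.mem_roots hne, Polynomial.IsRoot]
    simp only [P, Polynomial.eval_mul, Polynomial.eval_add, Polynomial.eval_X, Polynomial.eval_pow,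
      Polynomial.eval_one, mul_eq_zero]
    by_cases h0 : x = 0
    · exact Or.inl (Or.inl h0)
    by_cases h1 : x + 1 = 0
    · exact Or.inl (Or.inr h1)
    exact Or.inr (h x hx h0 h1)
  have := (Finset.card_le_card hsub).trans ((Multiset.toFinset_card_le _).trans (Polynomial.card_roots' P))
  omega

theorem fine_of_all {k j c : ℕ} (hq : 3 ≤ q) (h : (k * q + (q - 1)) * j = c * (q ^ 2 - 1) + 1) :
    Fine hF k := by
  obtain ⟨b, -, h0, h1, h2⟩ := exists_nonroot (Finset.univ : Finset F) (by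
    rw [Finset.card_univ, hF]
    calc 5 ≤ 3 ^ 2 := by norm_num
      _ ≤ q ^ 2 := Nat.pow_le_pow_left hq 2)
  exact Or.inl ⟨b, h2, scal_all hF h h0, scal_all hF h h1⟩

theorem fine_of_large (k : ℕ) (hq : 5 ≤ q) : Fine hF k := by
  classical
  set s := Finset.univ.filter fun x : F => x ^ q = x with hs
  obtain ⟨b, hb, h0, h1, h2⟩ := exists_nonroot s (by
    have : s.card = q := by
      have h := card_fixedField hF
      rw [Nat.card_eq_fintype_card] at h
      rw [hs, ← Fintype.card_subtype]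
      refine Eq.trans ?_ h
      exact Fintype.card_congr (Equiv.subtypeEquivRight fun x => Iff.rfl)
    omega)
  rw [hs, Finset.mem_filter] at hb
  refine Or.inl ⟨b, h2, scal_fixed hF k hb.2 h0, scal_fixed hF k ?_ h1⟩
  rw [add_pow_q hF, hb.2, one_pow]

variable {p : ℕ} [Fact p.Prime] [CharP F p]

include hF in
theorem char_dvd_q : p ∣ q := by
  obtain ⟨r, e, hr, hc, hq⟩ := exists_charP_pow hF
  have hrp : r = p := CharP.eq F hc ‹CharP F p›
  subst hrp
  have he : e ≠ 0 := by rintro rfl; have := one_lt_q' hF; simp [hq] at this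
  exact hq ▸ dvd_pow_self r he

include hF in
theorem not_dvd_pm (a : ℕ) (ha : a ≠ 0) : ¬ p ∣ q ^ a - 1 ∧ ¬ p ∣ q ^ a + 1 := by
  have h := (char_dvd_q hF (p := p)).trans (dvd_pow_self q ha)
  have hp := (Fact.out : p.Prime)
  have hpos : 1 ≤ q ^ a := Nat.one_le_pow _ _ (by have := one_lt_q' hF; omega)
  constructor <;> intro h'
  · have := Nat.dvd_sub h h'
    rw [Nat.sub_sub_self hpos] at this
    exact hp.one_lt.ne' (Nat.dvd_one.1 this)
  · exact hp.one_lt.ne' (Nat.dvd_one.1 ((Nat.dvd_add_right h).1 h'))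

theorem noExt_three_char (hq : 3 ≤ q) : NoExt (stdHerm hF 3) p := by
  intro Γ _ _ f E
  obtain ⟨d⟩ := exists_hypData hF
  have hfine : Fine hF 1 := by
    rcases Nat.lt_or_ge q 5 with h | h
    · interval_cases q
      · exact fine_of_all hF (j := 5) (c := 3) (by norm_num) (by norm_num)
      · exact fine_of_all hF (j := 13) (c := 6) (by norm_num) (by norm_num)
    · exact fine_of_large hF 1 h
  have hfree : FreeScal hF 1 := freeScal_of hF fun h => by have := Nat.le_of_dvd (by norm_num) h; omega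
  refine E.false_of_sub (K := qGrp hF d 1) (qGrp_le_SG hF d 1) (m := (q ^ 2 - 1) * (q ^ 3 + 1)) ?_ ?_
    (derived_qGrp hF d E one_pos hfree hfine)
  · exact fun h => ((Nat.Prime.dvd_mul Fact.out).1 h).elim (not_dvd_pm hF 2 two_ne_zero).1
      (not_dvd_pm hF 3 three_ne_zero).2
  · rw [card_qGrp hF d 1]
    exact dvd_of_eq ((card_SG_three hF).trans (mul_comm _ _))

theorem noExt_four_char (hq : 4 ≤ q) : NoExt (stdHerm hF 4) p := by
  intro Γ _ _ f E
  obtain ⟨d⟩ := exists_hypData hF
  have hfine : Fine hF 2 := by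
    rcases Nat.lt_or_ge q 5 with h | h
    · interval_cases q
      exact fine_of_all hF (j := 11) (c := 8) (by norm_num) (by norm_num)
    · exact fine_of_large hF 2 h
  have hfree : FreeScal hF 2 := freeScal_of hF fun h => by have := Nat.le_of_dvd (by norm_num) h; omega
  refine false_of_unip hF d (j := 0) E hfree (derived_qGrp hF d E two_pos hfree hfine)
    (m := (q ^ 2 - 1) * (q ^ 3 + 1) * (q ^ 4 - 1)) ?_ ?_
  · intro h
    rcases (Nat.Prime.dvd_mul Fact.out).1 h with h | h
    · exact ((Nat.Prime.dvd_mul Fact.out).1 h).elim (not_dvd_pm hF 2 two_ne_zero).1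
        (not_dvd_pm hF 3 three_ne_zero).2
    · exact (not_dvd_pm hF 4 (by norm_num)).1 h
  · exact dvd_of_eq ((card_SG_four hF).trans (by ring))

theorem noExt_five_char (hq : q = 2 ∨ q = 3) : NoExt (stdHerm hF 5) p := by
  intro Γ _ _ f E
  obtain ⟨d⟩ := exists_hypData hF
  have hfine : Fine hF 3 := by
    rcases hq with rfl | rfl
    · exact Or.inr ⟨rfl, rfl⟩
    · exact fine_of_all hF (j := 3) (c := 4) le_rfl (by norm_num)
  have hfree : FreeScal hF 3 := freeScal_of hF (by rcases hq with rfl | rfl <;> norm_num)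
  refine false_of_unip hF d (j := 1) E hfree (derived_qGrp hF d E three_pos hfree hfine)
    (m := (q ^ 2 - 1) * (q ^ 3 + 1) * (q ^ 4 - 1) * (q ^ 5 + 1)) ?_ ?_
  · intro h
    rcases (Nat.Prime.dvd_mul Fact.out).1 h with h | h
    rcases (Nat.Prime.dvd_mul Fact.out).1 h with h | h
    · exact ((Nat.Prime.dvd_mul Fact.out).1 h).elim (not_dvd_pm hF 2 two_ne_zero).1
        (not_dvd_pm hF 3 three_ne_zero).2
    · exact (not_dvd_pm hF 4 (by norm_num)).1 h
    · exact (not_dvd_pm hF 5 (by norm_num)).2 h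
  · exact dvd_of_eq ((card_SG_five hF).trans (by ring))

end CfsgLib.PSUCover
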